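import Mathlib
import Cfsg.Prelude.Def_Solvable
import Cfsg.Prelude.Def_Local

/-! S3797 (Thompson: solvable groups with one class of involutions) -- definitions (helper18 design).
See plans/S3797_plan.md.  All pieces live in namespace `Cfsg.Agent.Helper18.T97`. -/

set_option autoImplicit false

namespace Cfsg.Agent.Helper18.T97

variable {X : Type*} [Group X]

/-- `Ω₁(Z(R))`: the elements of `R` that commute with `R` and have square `1`. -/
def omegaZ (R : Subgroup X) : Subgroup X where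
  carrier := {x | x ∈ R ∧ x ∈ Subgroup.centralizer (R : Set X) ∧ x ^ 2 = 1}
  one_mem' := ⟨R.one_mem, Subgroup.one_mem _, one_pow 2⟩
  mul_mem' := by
    rintro a b ⟨ha, hac, ha2⟩ ⟨hb, hbc, hb2⟩
    refine ⟨R.mul_mem ha hb, Subgroup.mul_mem _ hac hbc, ?_⟩
    have hcomm : a * b = b * a := Subgroup.mem_centralizer_iff.mp hbc a ha
    calc (a * b) ^ 2 = a * (b * a) * b := by rw [pow_two]; group
      _ = a * (a * b) * b := by rw [hcomm]
      _ = a ^ 2 * b ^ 2 := by rw [pow_two, pow_two]; group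
      _ = 1 := by rw [ha2, hb2, one_mul]
  inv_mem' := by
    rintro a ⟨ha, hac, ha2⟩
    refine ⟨R.inv_mem ha, Subgroup.inv_mem _ hac, ?_⟩
    rw [inv_pow, ha2, inv_one]

theorem mem_omegaZ {R : Subgroup X} {x : X} :
    x ∈ omegaZ R ↔ x ∈ R ∧ x ∈ Subgroup.centralizer (R : Set X) ∧ x ^ 2 = 1 := Iff.rfl

/-- `C_X(Ω₁(Z(R)))`. -/
abbrev CE (R : Subgroup X) : Subgroup X := Subgroup.centralizer (omegaZ R : Set X)

/-- Standing hypotheses on `X = G/O(G)` and `R = O_2(X)` (in abstract form). -/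
structure Setup (R : Subgroup X) : Prop where
  sol : Group.IsSolvable X
  Rn : R.Normal
  R2 : IsPGroup 2 R
  Rmax : ∀ Q : Subgroup X, Q.Normal → IsPGroup 2 Q → Q ≤ R
  CR : Subgroup.centralizer (R : Set X) ≤ R
  conj : ∀ x y : X, x ≠ 1 → x ^ 2 = 1 → y ≠ 1 → y ^ 2 = 1 → IsConj x y
  two : ∃ x y : X, x ≠ y ∧ x ≠ 1 ∧ x ^ 2 = 1 ∧ y ≠ 1 ∧ y ^ 2 = 1

/-- Conjugation by `x` on a normal subgroup `E`. -/
def conjN (E : Subgroup X) [hn : E.Normal] (x : X) (v : ↥E) : ↥E :=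
  ⟨x * v * x⁻¹, hn.conj_mem v v.2 x⟩

@[simp] theorem conjN_coe (E : Subgroup X) [hn : E.Normal] (x : X) (v : ↥E) :
    (conjN E x v : X) = x * v * x⁻¹ := rfl

/-- Context after the Huppert step and PART I: `Y` is the "scalar" normal subgroup. -/
structure Ctx (R : Subgroup X) (n : ℕ) (Y : Subgroup X) : Prop where
  su : Setup R
  n2 : 2 ≤ n
  card : Nat.card (omegaZ R) = 2 ^ n
  Yn : Y.Normal
  CY : CE R ≤ Y
  fpf : ∀ y ∈ Y, y ∉ CE R → ∀ v ∈ omegaZ R, y * v * y⁻¹ = v → v = 1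
  rel : (CE R).relIndex Y ∣ 2 ^ n - 1
  idx : Y.index ≤ n
  oddC : ¬ 2 ∣ (CE R).index

/-- Output of the Frattini/Burnside step of PART II. -/
structure NTB (R : Subgroup X) (r : ℕ) (N T B : Subgroup X) : Prop where
  rodd : r ≠ 2
  Nr : IsPGroup r N
  NC : N ≤ CE R
  T2 : IsPGroup 2 T
  TN : T ≤ Subgroup.normalizer (N : Set X)
  Tnc : ¬ T ≤ Subgroup.centralizer (N : Set X)
  BN : B ≤ Subgroup.normalizer (N : Set X)
  BT : B ≤ Subgroup.normalizer (T : Set X)
  Btr : ∀ a ∈ omegaZ R, ∀ b ∈ omegaZ R, a ≠ 1 → b ≠ 1 → ∃ g ∈ B, g * a * g⁻¹ = b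

/-- the Frattini subgroup of `N₀`, as a subgroup of `X` -/
abbrev PhiOf (N₀ : Subgroup X) : Subgroup X := (frattini ↥N₀).map N₀.subtype

/-- `(W₀, y)` is an eigen-pair for the action of `W` on `N₀`: `W₀` has index 2 in `W`, fixes `y ∈ N₀`,
`y ≠ 1`, and every element of `W` outside `W₀` inverts `y`. -/
structure IsEigen (N₀ W W₀ : Subgroup X) (y : X) : Prop where
  le : W₀ ≤ W
  idx : W₀.relIndex W = 2
  mem : y ∈ N₀
  ne : y ≠ 1
  fix : ∀ w ∈ W₀, w * y * w⁻¹ = y
  inv : ∀ w ∈ W, w ∉ W₀ → w * y * w⁻¹ = y⁻¹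

/-- fixed points of an automorphism `y` of a commutative group -/
def fixSub {U : Type*} [CommGroup U] (y : MulAut U) : Subgroup U where
  carrier := {u | y u = u}
  one_mem' := map_one y
  mul_mem' := by
    intro a b ha hb
    simp only [Set.mem_setOf_eq] at ha hb ⊢
    rw [map_mul, ha, hb]
  inv_mem' := by
    intro a ha
    simp only [Set.mem_setOf_eq] at ha ⊢
    rw [map_inv, ha]

theorem mem_fixSub {U : Type*} [CommGroup U] (y : MulAut U) (u : U) : u ∈ fixSub y ↔ y u = u :=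
  Iff.rfl

/-- the commutator subgroup `[U, y] = {y v * v⁻¹}` of an automorphism `y` of a commutative group -/
def comSub {U : Type*} [CommGroup U] (y : MulAut U) : Subgroup U :=
  ((y.toMonoidHom : U →* U) / MonoidHom.id U).range

theorem mem_comSub {U : Type*} [CommGroup U] (y : MulAut U) (u : U) :
    u ∈ comSub y ↔ ∃ v : U, y v / v = u := by
  unfold comSub
  rw [MonoidHom.mem_range]
  rfl

end Cfsg.Agent.Helper18.T97
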