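import Mathlib
import Cfsg.Agent.Lib.T97.T97Defs

/-! S3797 piece T97-ARITH (helper18 design; see plans/S3797_plan.md).  STUB: overwrite this file, keeping the
statement, the namespace and the imports (you may ADD imports of library files outside Lib/T97, or of
T97 files that are listed as dependencies).  Aux lemmas: fresh names with prefix `t97arith_`. -/

set_option autoImplicit false

namespace Cfsg.Agent.Helper18.T97

variable {X : Type*} [Group X]

theorem t97arith_sq_lt (n : ℕ) (hn : 5 ≤ n) : n * n + 2 ≤ 2 ^ n := by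
  induction n, hn using Nat.le_induction with
  | base => norm_num
  | succ n hn ih =>
    rw [pow_succ]
    nlinarith

/-- Pure arithmetic.  `k ≥ 1`, `m ≥ 1` (odd product).  `n = 2`: `k = 1`, `3 ∣ m`.  `n = 3`: `k ∈ {1,3}`, `7 ∣ k*m` so `7 ∣ m`.
`n = 4`: `k ∈ {1,3}`, `15 ∣ k*m` so `5 ∣ m`, `m ≥ 5`.  `n ≥ 5`: if `m ≤ n` then `k*m ≤ n^2 < 2^n - 1` (induction: `n^2 + 1 < 2^n` for `n ≥ 5`),
contradicting `2^n - 1 ∣ k*m`, `k*m ≥ 1`.  (`hm` is only a convenience.) -/
theorem arith (n k m : ℕ) (hn : 2 ≤ n) (hk : k ≤ n) (hodd : Odd (k * m)) (hm : m ∣ 2 ^ n - 1)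
    (hdvd : 2 ^ n - 1 ∣ k * m) : n + 1 ≤ m := by
  by_contra hcon
  have hmn : m ≤ n := by omega
  have hpos : 0 < k * m := by
    rcases hodd with ⟨j, hj⟩
    omega
  by_cases h5 : 5 ≤ n
  · have h1 := t97arith_sq_lt n h5
    have h2 : 2 ^ n - 1 ≤ k * m := Nat.le_of_dvd hpos hdvd
    have h3 : k * m ≤ n * n := Nat.mul_le_mul hk hmn
    generalize k * m = A at h2 h3
    generalize n * n = B at h1 h3
    generalize 2 ^ n = P at h1 h2
    omega
  · have hn4 : n ≤ 4 := by omega
    clear hcon h5 hm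
    interval_cases n <;> interval_cases k <;> interval_cases m <;>
      first
        | (exfalso; exact absurd hpos (by decide))
        | (exfalso; revert hdvd; decide)

end Cfsg.Agent.Helper18.T97
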