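import Mathlib
import Cfsg.Agent.Lib.T97.T97Defs

/-! S3797 piece T97-ENORM (helper18 design; see plans/S3797_plan.md).  STUB: overwrite this file, keeping the
statement, the namespace and the imports (you may ADD imports of library files outside Lib/T97, or of
T97 files that are listed as dependencies).  Aux lemmas: fresh names with prefix `t97enorm_`. -/

set_option autoImplicit false

namespace Cfsg.Agent.Helper18.T97

variable {X : Type*} [Group X]

/-- `Ω₁(Z(R))` is normal when `R` is: conjugation preserves `R`, the centraliser of a normal subgroup is normal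
(`Subgroup.normal_centralizer`-style: for `y ∈ R`, `g⁻¹ y g ∈ R`), and squares. -/
theorem omegaZ_normal {R : Subgroup X} (hR : R.Normal) : (omegaZ R).Normal := by
  constructor
  intro n hn g
  obtain ⟨hnR, hnc, hn2⟩ := mem_omegaZ.mp hn
  refine mem_omegaZ.mpr ⟨hR.conj_mem n hnR g, ?_, ?_⟩
  · rw [Subgroup.mem_centralizer_iff]
    intro y hy
    have hy' : g⁻¹ * y * g ∈ R := by
      have := hR.conj_mem y hy g⁻¹
      rwa [inv_inv] at this
    have hc : g⁻¹ * y * g * n = n * (g⁻¹ * y * g) :=
      Subgroup.mem_centralizer_iff.mp hnc _ hy'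
    calc y * (g * n * g⁻¹) = g * (g⁻¹ * y * g * n) * g⁻¹ := by group
      _ = g * (n * (g⁻¹ * y * g)) * g⁻¹ := by rw [hc]
      _ = g * n * g⁻¹ * y := by group
  · have : (g * n * g⁻¹) ^ 2 = g * n ^ 2 * g⁻¹ := by
      rw [pow_two, pow_two]; group
    rw [this, hn2, mul_one, mul_inv_cancel]

end Cfsg.Agent.Helper18.T97
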