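import Mathlib
import Cfsg.Agent.Lib.T97.T97Defs
import Cfsg.Agent.Lib.T97.T97ENORM

/-! S3797 piece T97-BURN (helper18 design; see plans/S3797_plan.md).  STUB: overwrite this file, keeping the
statement, the namespace and the imports (you may ADD imports of library files outside Lib/T97, or of
T97 files that are listed as dependencies).  Aux lemmas: fresh names with prefix `t97burn_`. -/

set_option autoImplicit false
set_option linter.style.haveILetI false

namespace Cfsg.Agent.Helper18.T97

variable {X : Type*} [Group X]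

/-- a 2-element lies in every normal subgroup of odd index -/
theorem t97burn_mem_of_odd_index [Finite X] (K : Subgroup X) [K.Normal] (hK : ¬ 2 ∣ K.index)
    (t : X) (j : ℕ) (ht : t ^ 2 ^ j = 1) : t ∈ K := by
  have h1 : orderOf (QuotientGroup.mk t : X ⧸ K) ∣ 2 ^ j := by
    apply orderOf_dvd_of_pow_eq_one
    rw [← QuotientGroup.mk_pow, ht, QuotientGroup.mk_one]
  have h2 : orderOf (QuotientGroup.mk t : X ⧸ K) ∣ K.index := by
    rw [Subgroup.index_eq_card]
    exact orderOf_dvd_natCard _
  obtain ⟨i, -, hi⟩ := (Nat.dvd_prime_pow Nat.prime_two).mp h1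
  have hi0 : i = 0 := by
    by_contra hne
    apply hK
    have : 2 ∣ 2 ^ i := dvd_pow_self 2 hne
    rw [← hi] at this
    exact this.trans h2
  rw [hi0, pow_zero, orderOf_eq_one_iff] at hi
  exact (QuotientGroup.eq_one_iff t).mp hi

/-- Burnside's fusion argument inside `L = N_X(N)`.  `E = omegaZ R ≤ C(N) ≤ L` (from `N ≤ C(E)`); `E.subgroupOf L` is a normal 2-subgroup of
`L`, so it lies in the Sylow 2-subgroup `T`; `T` (a 2-group) lies in `CE R` because `CE R` is normal of odd index (`c.oddC`): so every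
element of `E` (as element of `↥L`) lies in `Subgroup.centralizer (T : Set ↥L)`.  `L` is transitive on `E \ {1}`: for `a, b` take `g` with
`g a g⁻¹ = b` (`c.su.conj`), `g = ρ l` (`ρ ∈ R`, `l ∈ L`), and `ρ` centralises `E ∋ l a l⁻¹`.  Mathlib
`Sylow.conj_eq_normalizer_conj_of_mem_centralizer` (in the group `↥L`) gives `n ∈ N_L(T)` with the same conjugation effect.
`B := (normalizer of T in ↥L).map L.subtype`. -/
theorem exists_B [Finite X] {R : Subgroup X} {n : ℕ} {Y : Subgroup X} (c : Ctx R n Y)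
    (N : Subgroup X) (hNC : N ≤ CE R) (hL : R ⊔ Subgroup.normalizer (N : Set X) = ⊤)
    (T : Sylow 2 ↥(Subgroup.normalizer (N : Set X))) :
    ∃ B : Subgroup X, B ≤ Subgroup.normalizer (N : Set X) ∧
      B ≤ Subgroup.normalizer ((((T : Subgroup ↥(Subgroup.normalizer (N : Set X))).map
          (Subgroup.normalizer (N : Set X)).subtype : Subgroup X)) : Set X) ∧
      ∀ a ∈ omegaZ R, ∀ b ∈ omegaZ R, a ≠ 1 → b ≠ 1 → ∃ g ∈ B, g * a * g⁻¹ = b := by
  classical
  haveI : Fact (Nat.Prime 2) := ⟨Nat.prime_two⟩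
  haveI hRn : R.Normal := c.su.Rn
  haveI hEn : (omegaZ R).Normal := omegaZ_normal c.su.Rn
  haveI hCn : (CE R).Normal := Subgroup.normal_centralizer
  -- E ≤ (Subgroup.normalizer (N : Set X))
  have hEL : omegaZ R ≤ (Subgroup.normalizer (N : Set X)) := by
    intro e he
    rw [Subgroup.mem_normalizer_iff]
    intro x
    have key : ∀ y ∈ N, e * y * e⁻¹ = y := by
      intro y hy
      have := Subgroup.mem_centralizer_iff.mp (hNC hy) e he
      -- this : e * y = y * e
      rw [this]; group
    constructor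
    · intro hx
      rw [key x hx]; exact hx
    · intro hx
      have h2 := key _ hx
      have h3 : e * x * e⁻¹ = x := by
        have : e * (e * x * e⁻¹) * e⁻¹ = e * x * e⁻¹ := h2
        have h4 : e⁻¹ * (e * (e * x * e⁻¹) * e⁻¹) * e = e⁻¹ * (e * x * e⁻¹) * e := by rw [this]
        have h5 : e⁻¹ * (e * (e * x * e⁻¹) * e⁻¹) * e = e * x * e⁻¹ := by group
        have h6 : e⁻¹ * (e * x * e⁻¹) * e = x := by group
        rw [h5, h6] at h4
        exact h4
      rw [← h3]; exact hx
  -- E.subgroupOf (Subgroup.normalizer (N : Set X)) is a normal 2-subgroup of (Subgroup.normalizer (N : Set X)), hence in T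
  have hE2 : IsPGroup 2 ((omegaZ R).subgroupOf (Subgroup.normalizer (N : Set X))) := by
    intro x
    refine ⟨1, ?_⟩
    have hx : (x : (Subgroup.normalizer (N : Set X))) ∈ (omegaZ R).subgroupOf (Subgroup.normalizer (N : Set X)) := x.2
    rw [Subgroup.mem_subgroupOf] at hx
    have h2 : ((x : (Subgroup.normalizer (N : Set X))) : X) ^ 2 = 1 := hx.2.2
    apply Subtype.ext
    apply Subtype.ext
    simp only [pow_one, Subgroup.coe_pow, Subgroup.coe_one]
    exact h2
  haveI : ((omegaZ R).subgroupOf (Subgroup.normalizer (N : Set X))).Normal := Subgroup.Normal.subgroupOf hEn (Subgroup.normalizer (N : Set X))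
  have hET : (omegaZ R).subgroupOf (Subgroup.normalizer (N : Set X)) ≤ (T : Subgroup (Subgroup.normalizer (N : Set X))) := hE2.le_sylow_of_normal T
  -- T ≤ CE R
  have hTC : ∀ t : (Subgroup.normalizer (N : Set X)), t ∈ (T : Subgroup (Subgroup.normalizer (N : Set X))) → (t : X) ∈ CE R := by
    intro t ht
    obtain ⟨j, hj⟩ := (T.isPGroup' ⟨t, ht⟩)
    have hj' : (t : X) ^ 2 ^ j = 1 := by
      have := congrArg (fun z : (T : Subgroup (Subgroup.normalizer (N : Set X))) => ((z : (Subgroup.normalizer (N : Set X))) : X)) hj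
      simpa using this
    exact t97burn_mem_of_odd_index (CE R) c.oddC (t : X) j hj'
  -- elements of E lie in the centralizer of T (in (Subgroup.normalizer (N : Set X)))
  have hEcent : ∀ e : X, ∀ he : e ∈ omegaZ R,
      (⟨e, hEL he⟩ : (Subgroup.normalizer (N : Set X))) ∈ Subgroup.centralizer ((T : Subgroup (Subgroup.normalizer (N : Set X))) : Set (Subgroup.normalizer (N : Set X))) := by
    intro e he
    rw [Subgroup.mem_centralizer_iff]
    intro t ht
    apply Subtype.ext
    have := Subgroup.mem_centralizer_iff.mp (hTC t ht) e he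
    simpa using this.symm
  refine ⟨(Subgroup.normalizer ((T : Subgroup (Subgroup.normalizer (N : Set X))) : Set (Subgroup.normalizer (N : Set X)))).map (Subgroup.normalizer (N : Set X)).subtype, ?_, ?_, ?_⟩
  · rintro _ ⟨x, -, rfl⟩
    exact x.2
  · exact Subgroup.le_normalizer_map (H := (T : Subgroup (Subgroup.normalizer (N : Set X)))) (Subgroup.normalizer (N : Set X)).subtype
  · intro a ha b hb ha1 hb1
    obtain ⟨g, hg⟩ := isConj_iff.mp (c.su.conj a b ha1 ha.2.2 hb1 hb.2.2)
    have hgtop : g ∈ R ⊔ (Subgroup.normalizer (N : Set X)) := by rw [hL]; exact Subgroup.mem_top g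
    obtain ⟨ρ, hρ, l, hl, rfl⟩ := Subgroup.mem_sup_of_normal_left.mp hgtop
    have hla : l * a * l⁻¹ ∈ omegaZ R := hEn.conj_mem a ha l
    have hρc : ρ * (l * a * l⁻¹) * ρ⁻¹ = l * a * l⁻¹ := by
      have := Subgroup.mem_centralizer_iff.mp hla.2.1 ρ hρ
      -- this : ρ * (l a l⁻¹) = (l a l⁻¹) * ρ
      rw [this]; group
    have hlab : l * a * l⁻¹ = b := by
      rw [← hρc, ← hg]; group
    -- Burnside in (Subgroup.normalizer (N : Set X))
    have hx := hEcent a ha
    have hy : (⟨l, hl⟩ : (Subgroup.normalizer (N : Set X)))⁻¹⁻¹ * (⟨a, hEL ha⟩ : (Subgroup.normalizer (N : Set X))) * (⟨l, hl⟩ : (Subgroup.normalizer (N : Set X)))⁻¹ ∈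
        Subgroup.centralizer ((T : Subgroup (Subgroup.normalizer (N : Set X))) : Set (Subgroup.normalizer (N : Set X))) := by
      have : (⟨l, hl⟩ : (Subgroup.normalizer (N : Set X)))⁻¹⁻¹ * (⟨a, hEL ha⟩ : (Subgroup.normalizer (N : Set X))) * (⟨l, hl⟩ : (Subgroup.normalizer (N : Set X)))⁻¹ = ⟨b, hEL hb⟩ := by
        apply Subtype.ext
        simp only [inv_inv, Subgroup.coe_mul, Subgroup.coe_inv]
        exact hlab
      rw [this]
      exact hEcent b hb
    obtain ⟨m, hm, hmeq⟩ := Sylow.conj_eq_normalizer_conj_of_mem_centralizer T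
      (⟨a, hEL ha⟩ : (Subgroup.normalizer (N : Set X))) ((⟨l, hl⟩ : (Subgroup.normalizer (N : Set X)))⁻¹) hx hy
    refine ⟨((m⁻¹ : (Subgroup.normalizer (N : Set X))) : X), ⟨m⁻¹, Subgroup.inv_mem _ hm, rfl⟩, ?_⟩
    have h1 := congrArg (fun z : (Subgroup.normalizer (N : Set X)) => (z : X)) hmeq
    simp only [inv_inv, Subgroup.coe_mul, Subgroup.coe_inv] at h1
    -- h1 : l * a * l⁻¹ = m⁻¹ * a * m
    rw [← hlab, h1]
    simp
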