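import Mathlib
import Cfsg.Agent.Lib.T97.T97Defs
import Cfsg.Agent.Lib.T97.T97ENORM

/-! S3797 piece T97-INVOL (helper18 design; see plans/S3797_plan.md).  Proved by helper25. -/

set_option autoImplicit false

namespace Cfsg.Agent.Helper18.T97

variable {X : Type*} [Group X]

/-- Every involution of `X` lies in `E = Ω₁(Z(R))`.  `R ≠ ⊥` (else `C_X(R) = ⊤ ≤ R = ⊥`, but `x ≠ 1`).  `R` is a nontrivial
2-group, so `Z(R) ≠ 1` (`IsPGroup.center_nontrivial`) and contains an element `z` of order 2 (Cauchy in the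
2-group `center ↥R`), so `1 ≠ z ∈ omegaZ R`.  `x` is conjugate to `z` (`h.conj`, `isConj_iff`), and `omegaZ R` is
normal (`omegaZ_normal h.Rn`). -/
theorem invol_mem [Finite X] {R : Subgroup X} (h : Setup R) (x : X) (hx1 : x ≠ 1) (hx2 : x ^ 2 = 1) :
    x ∈ omegaZ R := by
  haveI : Fact (Nat.Prime 2) := ⟨Nat.prime_two⟩
  -- `R` is nontrivial
  have hRne : R ≠ ⊥ := by
    intro hR
    apply hx1
    have h1 : x ∈ Subgroup.centralizer (R : Set X) := by
      rw [Subgroup.mem_centralizer_iff]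
      intro y hy
      have hy' : y ∈ R := hy
      rw [hR, Subgroup.mem_bot] at hy'
      rw [hy', one_mul, mul_one]
    have h2 := h.CR h1
    rw [hR, Subgroup.mem_bot] at h2
    exact h2
  haveI hnt : Nontrivial ↥R := (Subgroup.nontrivial_iff_ne_bot R).2 hRne
  haveI hcnt : Nontrivial (Subgroup.center ↥R) := h.R2.center_nontrivial
  have hc2 : IsPGroup 2 ↥(Subgroup.center ↥R) := h.R2.to_subgroup _
  have hcard1 : Nat.card ↥(Subgroup.center ↥R) ≠ 1 := by
    intro h1
    have := (Nat.card_eq_one_iff_unique.1 h1).1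
    exact not_subsingleton _ this
  have h2dvd : 2 ∣ Nat.card ↥(Subgroup.center ↥R) := (hc2.card_eq_or_dvd).resolve_left hcard1
  obtain ⟨z', hz'⟩ := exists_prime_orderOf_dvd_card' 2 h2dvd
  -- the element `z`
  have hzR : ((z' : ↥R) : X) ∈ R := (z' : ↥R).2
  have hzc : ((z' : ↥R) : X) ∈ Subgroup.centralizer (R : Set X) := by
    rw [Subgroup.mem_centralizer_iff]
    intro y hy
    have h1 := Subgroup.mem_center_iff.1 z'.2 ⟨y, hy⟩
    exact congrArg Subtype.val h1
  have hz2 : ((z' : ↥R) : X) ^ 2 = 1 := by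
    have h1 := pow_orderOf_eq_one z'
    rw [hz'] at h1
    have h2 := congrArg (fun w : ↥(Subgroup.center ↥R) => ((w : ↥R) : X)) h1
    simpa using h2
  have hz1 : ((z' : ↥R) : X) ≠ 1 := by
    intro h1
    have h2 : z' = 1 := by
      apply Subtype.ext
      apply Subtype.ext
      exact h1
    rw [h2, orderOf_one] at hz'
    omega
  have hzE : ((z' : ↥R) : X) ∈ omegaZ R := ⟨hzR, hzc, hz2⟩
  have hconj := h.conj _ x hz1 hz2 hx1 hx2
  rw [isConj_iff] at hconj
  obtain ⟨c, hc⟩ := hconj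
  rw [← hc]
  exact (omegaZ_normal h.Rn).conj_mem _ hzE c

end Cfsg.Agent.Helper18.T97
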