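import Mathlib
import Cfsg.Agent.Lib.T97.T97Defs
import Cfsg.Agent.Lib.T97.T97INVOL

/-! S3797 piece T97-CARDE (helper18 design; see plans/S3797_plan.md).  Proved by helper2. -/

set_option autoImplicit false

namespace Cfsg.Agent.Helper18.T97

variable {X : Type*} [Group X]

/-- `|E| = 2^n` with `n ≥ 2`: `E = omegaZ R` has exponent 2 so is a 2-group (`IsPGroup.iff_card`); by `h.two` and
`invol_mem` it has two distinct non-identity elements, so `|E| ≥ 3`, hence `n ≥ 2`. -/
theorem card_omegaZ [Finite X] {R : Subgroup X} (h : Setup R) :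
    ∃ n : ℕ, 2 ≤ n ∧ Nat.card (omegaZ R) = 2 ^ n := by
  have hp : IsPGroup 2 (omegaZ R) := by
    intro g
    refine ⟨1, ?_⟩
    have hg := (mem_omegaZ.mp g.2).2.2
    apply Subtype.ext
    rw [pow_one, Subgroup.coe_pow, hg, Subgroup.coe_one]
  obtain ⟨n, hn⟩ := IsPGroup.iff_card.mp hp
  refine ⟨n, ?_, hn⟩
  obtain ⟨x, y, hxy, hx1, hx2, hy1, hy2⟩ := h.two
  have hxE : x ∈ omegaZ R := invol_mem h x hx1 hx2
  have hyE : y ∈ omegaZ R := invol_mem h y hy1 hy2
  -- three distinct elements
  have hcard : 3 ≤ Nat.card (omegaZ R) := by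
    let f : Fin 3 → omegaZ R := ![1, ⟨x, hxE⟩, ⟨y, hyE⟩]
    have hf : Function.Injective f := by
      intro i j hij
      fin_cases i <;> fin_cases j <;> simp [f, Subtype.ext_iff] at hij ⊢
      · exact absurd hij.symm hx1
      · exact absurd hij.symm hy1
      · exact absurd hij hx1
      · exact absurd hij hxy
      · exact absurd hij hy1
      · exact absurd hij.symm hxy
    have := Nat.card_le_card_of_injective f hf
    simpa using this
  rw [hn] at hcard
  by_contra hlt
  push Not at hlt
  interval_cases n <;> omega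

end Cfsg.Agent.Helper18.T97
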