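import Mathlib
import Cfsg.Prelude.Def_Local
import Cfsg.Agent.Lib.Helper19.PLength

/-!
# S3797, bridge lemma (helper22): 2-length one + one class of involutions ⇒ involutions of a Sylow
2-subgroup are central in it.
-/

set_option autoImplicit false

namespace Cfsg.Agent.Helper22.T97

open Cfsg Subgroup

/-- a nontrivial finite `2`-group has a central involution -/
theorem t97cen_central_invol {G : Type*} [Group G] [Finite G] (S : Subgroup G) (hS : IsPGroup 2 S)
    (hne : S ≠ ⊥) : ∃ z ∈ S, z ≠ 1 ∧ z ^ 2 = 1 ∧ ∀ s ∈ S, s * z = z * s := by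
  have : Fact (Nat.Prime 2) := ⟨Nat.prime_two⟩
  have : Nontrivial S := (Subgroup.nontrivial_iff_ne_bot S).mpr hne
  have hZ : Nontrivial (Subgroup.center S) := hS.center_nontrivial
  have hZp : IsPGroup 2 (Subgroup.center S) := hS.to_subgroup _
  obtain ⟨n, hn⟩ := IsPGroup.iff_card.mp hZp
  have hn0 : n ≠ 0 := by
    rintro rfl
    have h1 : Nat.card (Subgroup.center S) = 1 := by simpa using hn
    have := (Nat.card_eq_one_iff_unique.mp h1).1
    exact not_subsingleton _ this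
  have h2 : 2 ∣ Nat.card (Subgroup.center S) := by
    rw [hn]; exact dvd_pow_self 2 hn0
  obtain ⟨z, hz⟩ := exists_prime_orderOf_dvd_card' 2 h2
  refine ⟨((z : S) : G), (z : S).2, ?_, ?_, ?_⟩
  · intro h
    have : z = 1 := by
      apply Subtype.ext; apply Subtype.ext; simpa using h
    rw [this, orderOf_one] at hz
    omega
  · have h := pow_orderOf_eq_one z
    rw [hz] at h
    have h' := congrArg (fun w : Subgroup.center S => ((w : S) : G)) h
    simpa using h'
  · intro s hs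
    have h := Subgroup.mem_center_iff.mp z.2 ⟨s, hs⟩
    have h' := congrArg (fun w : S => (w : G)) h
    simpa using h'

theorem t97_central_of_plength {G : Type*} [Group G] [Finite G] (S : Sylow 2 G)
    (hl : Cfsg.PLengthLE 2 1 G)
    (hconj : ∀ x y : G, x ≠ 1 → x ^ 2 = 1 → y ≠ 1 → y ^ 2 = 1 → IsConj x y) :
    ∀ x ∈ (S : Subgroup G), x ^ 2 = 1 →
      x ∈ Subgroup.centralizer ((S : Subgroup G) : Set G) := by
  have : Fact (Nat.Prime 2) := ⟨Nat.prime_two⟩
  intro x hx hx2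
  by_cases hx1 : x = 1
  · rw [hx1]; exact Subgroup.one_mem _
  -- the series
  have hch := Cfsg.Agent.Helper19.PLen.upperPSeries_isPChain (G := G) 2
  obtain ⟨N, hNdef⟩ : ∃ N : Subgroup G, N = (upperPSeries 2 G 1).1 := ⟨_, rfl⟩
  obtain ⟨M, hMdef⟩ : ∃ M : Subgroup G, M = (upperPSeries 2 G 2).1 := ⟨_, rfl⟩
  have hNn : N.Normal := by rw [hNdef]; infer_instance
  have hMn : M.Normal := by rw [hMdef]; infer_instance
  have hNc : (Nat.card N).Coprime 2 := by
    rw [hNdef]; exact Cfsg.Agent.Helper19.PLen.card_upperPSeries_one_coprime 2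
  have hNM : N ≤ M := by
    rw [hNdef, hMdef]; exact Cfsg.Agent.Helper19.PLen.upperPSeries_one_le_two 2
  obtain ⟨k, hk⟩ : ∃ k : ℕ, N.relIndex M = 2 ^ k := by
    rw [hNdef, hMdef]; exact Cfsg.Agent.Helper19.PLen.relIndex_upperPSeries_one_two 2
  have hMi : (M.index).Coprime 2 := by
    have h := hch.even 2 (by decide)
    have h3 : (upperPSeries 2 G (2 + 1)).1 = ⊤ := hl
    have h' : ((upperPSeries 2 G 2).1.relIndex (upperPSeries 2 G (2 + 1)).1).Coprime 2 := h
    rw [h3, Subgroup.relIndex_top_right] at h'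
    rw [hMdef]; exact h'
  -- S ≤ M
  have hSM : (S : Subgroup G) ≤ M := by
    intro s hs
    obtain ⟨j, hj⟩ := S.2 ⟨s, hs⟩
    have hj' : s ^ (2 ^ j) = 1 := by
      have := congrArg (fun w : (S : Subgroup G) => (w : G)) hj
      simpa using this
    have ho1 : orderOf (QuotientGroup.mk' M s) ∣ 2 ^ j := by
      apply orderOf_dvd_of_pow_eq_one
      rw [← map_pow, hj', map_one]
    have ho2 : orderOf (QuotientGroup.mk' M s) ∣ M.index := by
      rw [Subgroup.index_eq_card]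
      exact orderOf_dvd_natCard _
    have hcop : (2 ^ j).Coprime M.index := (Nat.Coprime.pow_right j hMi).symm
    have h1 : orderOf (QuotientGroup.mk' M s) = 1 :=
      Nat.eq_one_of_dvd_coprimes hcop ho1 ho2
    have h2 : QuotientGroup.mk' M s = 1 := orderOf_eq_one_iff.mp h1
    exact (QuotientGroup.eq_one_iff s).mp h2
  -- M ≤ S ⊔ N
  have hMSN : M ≤ (S : Subgroup G) ⊔ N := by
    have hle : (S : Subgroup G) ⊔ N ≤ M := sup_le hSM hNM
    rw [← Subgroup.relIndex_eq_one]
    have h1 := Subgroup.relIndex_mul_relIndex N ((S : Subgroup G) ⊔ N) M le_sup_right hle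
    have h2 := Subgroup.relIndex_mul_relIndex (S : Subgroup G) ((S : Subgroup G) ⊔ N) M
      le_sup_left hle
    have h3 := Subgroup.relIndex_mul_index hSM
    have hd1 : ((S : Subgroup G) ⊔ N).relIndex M ∣ 2 ^ k := by
      rw [← hk, ← h1]; exact Dvd.intro_left _ rfl
    have hd2 : ((S : Subgroup G) ⊔ N).relIndex M ∣ (S : Subgroup G).index := by
      rw [← h3, ← h2]
      exact Dvd.dvd.mul_right (Dvd.intro_left _ rfl) _
    have hSi : ((S : Subgroup G).index).Coprime 2 := by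
      rw [Nat.coprime_comm, Nat.Prime.coprime_iff_not_dvd Nat.prime_two]
      exact S.not_dvd_index
    have hcop : (2 ^ k).Coprime (S : Subgroup G).index := (Nat.Coprime.pow_right k hSi).symm
    exact Nat.eq_one_of_dvd_coprimes hcop hd1 hd2
  -- S ∩ N = 1
  have hSN : ∀ c ∈ (S : Subgroup G), c ∈ N → c = 1 := by
    intro c hcS hcN
    obtain ⟨j, hj⟩ := S.2 ⟨c, hcS⟩
    have hj' : c ^ (2 ^ j) = 1 := by
      have := congrArg (fun w : (S : Subgroup G) => (w : G)) hj
      simpa using this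
    have ho1 : orderOf c ∣ 2 ^ j := orderOf_dvd_of_pow_eq_one hj'
    have ho2 : orderOf c ∣ Nat.card N := by
      have := orderOf_dvd_natCard (⟨c, hcN⟩ : N)
      rwa [← Subgroup.orderOf_coe] at this
    have hcop : (2 ^ j).Coprime (Nat.card N) := (Nat.Coprime.pow_right j hNc).symm
    exact orderOf_eq_one_iff.mp (Nat.eq_one_of_dvd_coprimes hcop ho1 ho2)
  -- a central involution
  have hSne : (S : Subgroup G) ≠ ⊥ := by
    intro h
    rw [h, Subgroup.mem_bot] at hx
    exact hx1 hx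
  obtain ⟨z, hzS, hz1, hz2, hzc⟩ := t97cen_central_invol (S : Subgroup G) S.2 hSne
  obtain ⟨g, hg⟩ := isConj_iff.mp (hconj z x hz1 hz2 hx1 hx2)
  -- the claim
  rw [Subgroup.mem_centralizer_iff]
  intro s hs
  have hs' : s ∈ (S : Subgroup G) := hs
  -- conjugate s back
  have hsM : g⁻¹ * s * g ∈ M := by
    have := hMn.conj_mem s (hSM hs') g⁻¹
    simpa using this
  obtain ⟨s', hs'S, n', hn'N, hsn⟩ := Subgroup.mem_sup_of_normal_right.mp (hMSN hsM)
  have hcN : x * s * x⁻¹ * s⁻¹ ∈ N := by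
    have h1 : z * n' * z⁻¹ * n'⁻¹ ∈ N :=
      N.mul_mem (hNn.conj_mem n' hn'N z) (N.inv_mem hn'N)
    have h2 : s' * (z * n' * z⁻¹ * n'⁻¹) * s'⁻¹ ∈ N := hNn.conj_mem _ h1 s'
    have h3 : g * (s' * (z * n' * z⁻¹ * n'⁻¹) * s'⁻¹) * g⁻¹ ∈ N := hNn.conj_mem _ h2 g
    have hzs : s' * z = z * s' := hzc s' hs'S
    have hzs' : z * s' * z⁻¹ = s' := by rw [← hzs]; group
    have hs_eq : s = g * (s' * n') * g⁻¹ := by rw [hsn]; group
    have : x * s * x⁻¹ * s⁻¹ = g * (s' * (z * n' * z⁻¹ * n'⁻¹) * s'⁻¹) * g⁻¹ := by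
      rw [← hg, hs_eq]
      have e1 : g * z * g⁻¹ * (g * (s' * n') * g⁻¹) * (g * z * g⁻¹)⁻¹ * (g * (s' * n') * g⁻¹)⁻¹
          = g * ((z * s' * z⁻¹) * (z * n' * z⁻¹ * n'⁻¹) * s'⁻¹) * g⁻¹ := by group
      rw [e1, hzs']
    rw [this]; exact h3
  have hcS : x * s * x⁻¹ * s⁻¹ ∈ (S : Subgroup G) :=
    (S : Subgroup G).mul_mem ((S : Subgroup G).mul_mem ((S : Subgroup G).mul_mem hx hs')
      ((S : Subgroup G).inv_mem hx)) ((S : Subgroup G).inv_mem hs')
  have hc1 := hSN _ hcS hcN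
  have : x * s = s * x := by
    have h := congrArg (fun w => w * s * x) hc1
    simpa [mul_assoc] using h
  exact this.symm

end Cfsg.Agent.Helper22.T97
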