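import Mathlib
import Cfsg.Agent.Lib.T97.T97Defs
import Cfsg.Agent.S0012

/-! S3797 piece T97-COMM (helper18 design; see plans/S3797_plan.md).  Proved by helper25. -/

set_option autoImplicit false

namespace Cfsg.Agent.Helper18.T97

variable {X : Type*} [Group X]

/-- Eigen-elements for different hyperplanes commute.  `W₁ ≠ W₂` both of index 2 in `W`, so `W₂ ≰ W₁` (else equal: `relIndex` multiplicativity); pick `w ∈ W₂`, `w ∉ W₁`: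
`w y₂ w⁻¹ = y₂`, `w y₁ w⁻¹ = y₁⁻¹`.  `c := y₁ * y₂ * y₁⁻¹ * y₂⁻¹ ∈ PhiOf N₀` (commutators of a finite `p`-group lie in its Frattini subgroup: the quotient by any maximal
subgroup has order `p`, abelian; cf. Lib lemmas on `frattini` of `p`-groups e.g. `Cfsg.Agent.Helper9.frattini_le_ker_of_elementary`, Lib/Helper21/PGroupFrattini.lean).
So `c` is central in `N₀` (`hPhiZ`) and commutes with `w ∈ W ≤ T` (`hPhiT`).  Then `c = w c w⁻¹ = y₁⁻¹ * y₂ * y₁ * y₂⁻¹ = y₁⁻¹ * c⁻¹ * y₁ = c⁻¹`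
(`c⁻¹` central), so `c^2 = 1`; `c ∈ N₀` has `r`-power order with `r` odd: `c = 1`. -/
theorem eigen_commute [Finite X] (r : ℕ) [Fact r.Prime] (hr2 : r ≠ 2) (N₀ T W W₁ W₂ : Subgroup X)
    (hNr : IsPGroup r N₀) (hWT : W ≤ T)
    (hPhiT : ∀ x ∈ PhiOf N₀, ∀ t ∈ T, t * x = x * t)
    (hPhiZ : ∀ x ∈ PhiOf N₀, ∀ y ∈ N₀, x * y = y * x)
    (y₁ y₂ : X) (h₁ : IsEigen N₀ W W₁ y₁) (h₂ : IsEigen N₀ W W₂ y₂) (hne : W₁ ≠ W₂) :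
    y₁ * y₂ = y₂ * y₁ := by
  have hr : r.Prime := Fact.out
  -- an element of `W₂` outside `W₁`
  have hnle : ¬ W₂ ≤ W₁ := by
    intro h21
    apply hne
    have h1 := Subgroup.relIndex_mul_relIndex W₂ W₁ W h21 h₁.le
    rw [h₁.idx, h₂.idx] at h1
    have h2 : W₂.relIndex W₁ = 1 := by omega
    rw [Subgroup.relIndex_eq_one] at h2
    exact le_antisymm h2 h21
  obtain ⟨w, hw2, hw1⟩ := SetLike.not_le_iff_exists.1 hnle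
  have hwW : w ∈ W := h₂.le hw2
  have e2 : w * y₂ * w⁻¹ = y₂ := h₂.fix w hw2
  have e1 : w * y₁ * w⁻¹ = y₁⁻¹ := h₁.inv w hwW hw1
  -- the commutator lies in the Frattini subgroup
  have hcPhi : y₁ * y₂ * y₁⁻¹ * y₂⁻¹ ∈ PhiOf N₀ := by
    obtain ⟨hcf, -⟩ := Cfsg.Agent.S0012.result r hNr
    have hmem : (⟨y₁, h₁.mem⟩ : ↥N₀) * ⟨y₂, h₂.mem⟩ * (⟨y₁, h₁.mem⟩ : ↥N₀)⁻¹ * (⟨y₂, h₂.mem⟩ : ↥N₀)⁻¹
        ∈ commutator ↥N₀ := by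
      rw [commutator_def]
      exact Subgroup.commutator_mem_commutator (Subgroup.mem_top _) (Subgroup.mem_top _)
    exact ⟨_, hcf hmem, rfl⟩
  have hcN : y₁ * y₂ * y₁⁻¹ * y₂⁻¹ ∈ N₀ :=
    N₀.mul_mem (N₀.mul_mem (N₀.mul_mem h₁.mem h₂.mem) (N₀.inv_mem h₁.mem)) (N₀.inv_mem h₂.mem)
  have hciPhi : (y₁ * y₂ * y₁⁻¹ * y₂⁻¹)⁻¹ ∈ PhiOf N₀ := (PhiOf N₀).inv_mem hcPhi
  -- `w` commutes with `c`
  have hwc : w * (y₁ * y₂ * y₁⁻¹ * y₂⁻¹) * w⁻¹ = y₁ * y₂ * y₁⁻¹ * y₂⁻¹ := by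
    rw [hPhiT _ hcPhi w (hWT hwW)]
    group
  -- conjugating the factors
  have hwc' : w * (y₁ * y₂ * y₁⁻¹ * y₂⁻¹) * w⁻¹ = y₁⁻¹ * y₂ * y₁ * y₂⁻¹ := by
    have : w * (y₁ * y₂ * y₁⁻¹ * y₂⁻¹) * w⁻¹ =
        (w * y₁ * w⁻¹) * (w * y₂ * w⁻¹) * (w * y₁ * w⁻¹)⁻¹ * (w * y₂ * w⁻¹)⁻¹ := by group
    rw [this, e1, e2, inv_inv]
  -- `y₁⁻¹ y₂ y₁ y₂⁻¹ = c⁻¹`
  have hci : y₁⁻¹ * y₂ * y₁ * y₂⁻¹ = (y₁ * y₂ * y₁⁻¹ * y₂⁻¹)⁻¹ := by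
    have h3 : y₁⁻¹ * y₂ * y₁ * y₂⁻¹ = y₁⁻¹ * ((y₁ * y₂ * y₁⁻¹ * y₂⁻¹)⁻¹ * y₁) := by group
    rw [h3, hPhiZ _ hciPhi y₁ h₁.mem]
    group
  have hcc : y₁ * y₂ * y₁⁻¹ * y₂⁻¹ = (y₁ * y₂ * y₁⁻¹ * y₂⁻¹)⁻¹ := by
    rw [← hci, ← hwc', hwc]
  have hsq : (y₁ * y₂ * y₁⁻¹ * y₂⁻¹) ^ 2 = 1 := by
    rw [pow_two]
    nth_rewrite 1 [hcc]
    exact inv_mul_cancel _
  -- odd order
  obtain ⟨k, hk⟩ := hNr ⟨_, hcN⟩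
  have hk' : (y₁ * y₂ * y₁⁻¹ * y₂⁻¹) ^ r ^ k = 1 := by
    have := congrArg Subtype.val hk
    simpa using this
  have hcop : Nat.Coprime (r ^ k) 2 :=
    Nat.Coprime.pow_left k ((Nat.coprime_primes hr Nat.prime_two).2 hr2)
  have hc1 : y₁ * y₂ * y₁⁻¹ * y₂⁻¹ = 1 := by
    have h4 := pow_gcd_eq_one.2 ⟨hk', hsq⟩
    rw [Nat.Coprime.gcd_eq_one hcop, pow_one] at h4
    exact h4
  have h5 : y₁ * y₂ * (y₂ * y₁)⁻¹ = 1 := by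
    rw [← hc1]
    group
  exact mul_inv_eq_one.1 h5

end Cfsg.Agent.Helper18.T97
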