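import Mathlib
import Cfsg.Agent.Lib.T97.T97Defs

/-! S3797 piece T97-CONJ (helper18 design; see plans/S3797_plan.md). -/

set_option autoImplicit false

namespace Cfsg.Agent.Helper18.T97

variable {X : Type*} [Group X]

/-- conjugation by a normalizing element maps the subgroup onto itself -/
theorem t97conj_map_eq (W : Subgroup X) (f : X) (hfW : f ∈ Subgroup.normalizer (W : Set X)) :
    W.map (MulAut.conj f).toMonoidHom = W := by
  ext x
  rw [Subgroup.mem_map]
  constructor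
  · rintro ⟨w, hw, rfl⟩
    exact (Subgroup.mem_normalizer_iff.1 hfW w).1 hw
  · intro hx
    refine ⟨f⁻¹ * x * f, ?_, ?_⟩
    · have := (Subgroup.mem_normalizer_iff.1 hfW (f⁻¹ * x * f)).2
      apply this
      have e : f * (f⁻¹ * x * f) * f⁻¹ = x := by group
      rw [e]; exact hx
    · show f * (f⁻¹ * x * f) * f⁻¹ = x
      group

/-- Conjugating an eigen-pair by `f ∈ N_X(W) ⊓ N_X(N₀)`. -/
theorem eigen_conj [Finite X] (N₀ W W₀ : Subgroup X) (y f : X) (h : IsEigen N₀ W W₀ y)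
    (hfW : f ∈ Subgroup.normalizer (W : Set X)) (hfN : f ∈ Subgroup.normalizer (N₀ : Set X)) :
    IsEigen N₀ W (W₀.map (MulAut.conj f).toMonoidHom) (f * y * f⁻¹) := by
  have hWmap := t97conj_map_eq W f hfW
  have hinj : Function.Injective (MulAut.conj f).toMonoidHom := (MulAut.conj f).injective
  refine ⟨?_, ?_, ?_, ?_, ?_, ?_⟩
  · calc W₀.map (MulAut.conj f).toMonoidHom ≤ W.map (MulAut.conj f).toMonoidHom :=
          Subgroup.map_mono h.le
      _ = W := hWmap
  · calc (W₀.map (MulAut.conj f).toMonoidHom).relIndex W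
        = (W₀.map (MulAut.conj f).toMonoidHom).relIndex (W.map (MulAut.conj f).toMonoidHom) := by
          rw [hWmap]
      _ = W₀.relIndex W := Subgroup.relIndex_map_map_of_injective W₀ W hinj
      _ = 2 := h.idx
  · exact (Subgroup.mem_normalizer_iff.1 hfN y).1 h.mem
  · intro h1
    apply h.ne
    have : y = f⁻¹ * (f * y * f⁻¹) * f := by group
    rw [this, h1]; group
  · intro w hw
    rw [Subgroup.mem_map] at hw
    obtain ⟨w₀, hw₀, rfl⟩ := hw
    show (f * w₀ * f⁻¹) * (f * y * f⁻¹) * (f * w₀ * f⁻¹)⁻¹ = f * y * f⁻¹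
    have e : (f * w₀ * f⁻¹) * (f * y * f⁻¹) * (f * w₀ * f⁻¹)⁻¹ = f * (w₀ * y * w₀⁻¹) * f⁻¹ := by
      group
    rw [e, h.fix w₀ hw₀]
  · intro w hw hnw
    have hw' : f⁻¹ * w * f ∈ W := by
      have := (Subgroup.mem_normalizer_iff.1 hfW (f⁻¹ * w * f)).2
      apply this
      have e : f * (f⁻¹ * w * f) * f⁻¹ = w := by group
      rw [e]; exact hw
    have hnw' : f⁻¹ * w * f ∉ W₀ := by
      intro hmem
      apply hnw
      rw [Subgroup.mem_map]
      refine ⟨f⁻¹ * w * f, hmem, ?_⟩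
      show f * (f⁻¹ * w * f) * f⁻¹ = w
      group
    have key := h.inv _ hw' hnw'
    have e : w * (f * y * f⁻¹) * w⁻¹ = f * ((f⁻¹ * w * f) * y * (f⁻¹ * w * f)⁻¹) * f⁻¹ := by
      group
    rw [e, key]
    group

end Cfsg.Agent.Helper18.T97
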