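import Mathlib
import Cfsg.Agent.Lib.T97.T97Defs
import Cfsg.Agent.Lib.T97.T97ENORM

/-! S3797 piece T97-ORB (helper18 design; see plans/S3797_plan.md).  STUB: overwrite this file, keeping the
statement, the namespace and the imports (you may ADD imports of library files outside Lib/T97, or of
T97 files that are listed as dependencies).  Aux lemmas: fresh names with prefix `t97orb_`. -/

set_option autoImplicit false

namespace Cfsg.Agent.Helper18.T97

variable {X : Type*} [Group X]

/-- Orbit–stabiliser.  `↥B` acts on `↥E` (`E = omegaZ R`, normal) by conjugation; pick `e ∈ E`, `e ≠ 1` (`|E| = 2^n ≥ 2`);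
its `B`-orbit is `E \ {1}` (hypothesis `hB`; conjugates of `e ≠ 1` are `≠ 1`), of size `2^n - 1`; the stabiliser contains
`(B ⊓ CE R).subgroupOf B`; so `2^n - 1 = [B : Stab] ∣ [B : B ⊓ C]`. -/
theorem orbit_dvd [Finite X] {R : Subgroup X} (h : Setup R) (n : ℕ) (hn : 1 ≤ n)
    (hcard : Nat.card (omegaZ R) = 2 ^ n) (B : Subgroup X)
    (hB : ∀ a ∈ omegaZ R, ∀ b ∈ omegaZ R, a ≠ 1 → b ≠ 1 → ∃ g ∈ B, g * a * g⁻¹ = b) :
    2 ^ n - 1 ∣ (B ⊓ CE R).relIndex B := by
  classical
  haveI hEn : (omegaZ R).Normal := omegaZ_normal h.Rn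
  letI act : MulAction ↥B ↥(omegaZ R) :=
    MulAction.compHom ↥(omegaZ R)
      ((MulAut.conjNormal : X →* MulAut ↥(omegaZ R)).comp B.subtype)
  have hsmul : ∀ (g : ↥B) (v : ↥(omegaZ R)),
      ((g • v : ↥(omegaZ R)) : X) = (g : X) * v * (g : X)⁻¹ := fun g v => rfl
  -- a nontrivial element of `E`
  have hex : ∃ e : ↥(omegaZ R), e ≠ 1 := by
    by_contra hne
    have hall : ∀ e : ↥(omegaZ R), e = 1 := by
      intro e
      by_contra h1
      exact hne ⟨e, h1⟩
    have h1 : Nat.card ↥(omegaZ R) = 1 := by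
      haveI : Subsingleton ↥(omegaZ R) := ⟨fun a b => by rw [hall a, hall b]⟩
      exact Nat.card_of_subsingleton 1
    rw [hcard] at h1
    have h2 : 2 ^ 1 ≤ 2 ^ n := Nat.pow_le_pow_right (by norm_num) hn
    omega
  obtain ⟨e, he⟩ := hex
  have horb : MulAction.orbit ↥B e = Set.univ \ {(1 : ↥(omegaZ R))} := by
    ext v
    rw [MulAction.mem_orbit_iff, Set.mem_sdiff, Set.mem_singleton_iff]
    constructor
    · rintro ⟨g, rfl⟩
      refine ⟨Set.mem_univ _, ?_⟩
      intro h1
      apply he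
      have h2 := congrArg Subtype.val h1
      rw [hsmul, Subgroup.coe_one] at h2
      apply Subtype.ext
      have h3 : (e : X) = (g : X)⁻¹ * ((g : X) * e * (g : X)⁻¹) * (g : X) := by group
      rw [h3, h2, Subgroup.coe_one]
      group
    · rintro ⟨-, hv⟩
      obtain ⟨g, hg, hge⟩ := hB e e.2 v v.2 (fun h => he (Subtype.ext h))
        (fun h => hv (Subtype.ext h))
      exact ⟨⟨g, hg⟩, Subtype.ext hge⟩
  have hnc : (MulAction.orbit ↥B e).ncard = 2 ^ n - 1 := by
    rw [horb, Set.ncard_sdiff_singleton_of_mem (Set.mem_univ _), Set.ncard_univ, hcard]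
  have hidx : (MulAction.stabilizer ↥B e).index = 2 ^ n - 1 := by
    rw [MulAction.index_stabilizer, hnc]
  have hle : (B ⊓ CE R).subgroupOf B ≤ MulAction.stabilizer ↥B e := by
    intro g hg
    rw [Subgroup.mem_subgroupOf, Subgroup.mem_inf] at hg
    rw [MulAction.mem_stabilizer_iff]
    apply Subtype.ext
    rw [hsmul]
    have hc := Subgroup.mem_centralizer_iff.1 hg.2 (e : X) e.2
    rw [← hc, mul_inv_cancel_right]
  have hdvd := Subgroup.index_dvd_of_le hle
  rw [hidx] at hdvd
  exact hdvd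

end Cfsg.Agent.Helper18.T97
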