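import Mathlib
import Cfsg.Agent.Lib.T97.T97Defs
import Cfsg.Agent.Lib.T97.T97ORB
import Cfsg.Agent.Lib.T97.T97ARITH
import Cfsg.Agent.Lib.T97.T97ENORM

/-! S3797 piece T97-DIDX (helper18 design; see plans/S3797_plan.md).  STUB: overwrite this file, keeping the
statement, the namespace and the imports (you may ADD imports of library files outside Lib/T97, or of
T97 files that are listed as dependencies).  Aux lemmas: fresh names with prefix `t97didx_`. -/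

set_option autoImplicit false

namespace Cfsg.Agent.Helper18.T97

variable {X : Type*} [Group X]

/-- The scalar part of a transitive subgroup is big.  `C := CE R` (normal, `C ≤ Y`).  `k := (B ⊓ Y).relIndex B ≤ Y.index ≤ n`
(`Subgroup.inf_relIndex_right`, `Subgroup.relIndex_le_index`-style / `relIndex_dvd_index_of_normal`); `m := (B ⊓ C).relIndex (B ⊓ Y)`;
`m * k = (B ⊓ C).relIndex B` (`Subgroup.relIndex_mul_relIndex`, `B ⊓ C ≤ B ⊓ Y ≤ B`).  `2^n - 1 ∣ m*k` by `orbit_dvd`.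
`m*k` odd: `(B ⊓ C).relIndex B = C.relIndex B ∣ C.index` (`C` normal: `Subgroup.relIndex_dvd_index_of_normal`), odd by `c.oddC`.
`m ∣ 2^n - 1`: `m = C.relIndex (B ⊓ Y) ∣ C.relIndex Y` (`C` normal, `B ⊓ Y ≤ Y`: `Subgroup.relIndex_dvd_of_le_left`-style, or map into `Y/C`), and `c.rel`.
Finish with `arith`. -/
theorem relIndex_D [Finite X] {R : Subgroup X} {n : ℕ} {Y : Subgroup X} (c : Ctx R n Y)
    (B : Subgroup X)
    (hB : ∀ a ∈ omegaZ R, ∀ b ∈ omegaZ R, a ≠ 1 → b ≠ 1 → ∃ g ∈ B, g * a * g⁻¹ = b) :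
    n + 1 ≤ (B ⊓ CE R).relIndex (B ⊓ Y) := by
  have hEn : (omegaZ R).Normal := omegaZ_normal c.su.Rn
  have hCn : (CE R).Normal := Subgroup.normal_centralizer
  have hYn : Y.Normal := c.Yn
  have hCY : CE R ≤ Y := c.CY
  -- k
  have hk1 : (B ⊓ Y).relIndex B = Y.relIndex B := Subgroup.inf_relIndex_left B Y
  have hk2 : Y.relIndex B ∣ Y.index := Subgroup.relIndex_dvd_index_of_normal Y B
  have hYpos : 0 < Y.index := Nat.pos_of_ne_zero Subgroup.index_ne_zero_of_finite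
  have hk : (B ⊓ Y).relIndex B ≤ n := by
    rw [hk1]
    exact (Nat.le_of_dvd hYpos hk2).trans c.idx
  -- m * k
  have hle1 : B ⊓ CE R ≤ B ⊓ Y := inf_le_inf_left B hCY
  have hle2 : B ⊓ Y ≤ B := inf_le_left
  have hmk : (B ⊓ CE R).relIndex (B ⊓ Y) * (B ⊓ Y).relIndex B = (B ⊓ CE R).relIndex B :=
    Subgroup.relIndex_mul_relIndex _ _ _ hle1 hle2
  have horb : 2 ^ n - 1 ∣ (B ⊓ CE R).relIndex B :=
    orbit_dvd c.su n (by have := c.n2; omega) c.card B hB
  -- odd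
  have hC1 : (B ⊓ CE R).relIndex B = (CE R).relIndex B := Subgroup.inf_relIndex_left B (CE R)
  have hC2 : (CE R).relIndex B ∣ (CE R).index := Subgroup.relIndex_dvd_index_of_normal (CE R) B
  have hodd : Odd ((B ⊓ Y).relIndex B * (B ⊓ CE R).relIndex (B ⊓ Y)) := by
    rw [mul_comm, hmk, hC1]
    rw [← Nat.not_even_iff_odd, even_iff_two_dvd]
    intro h2
    exact c.oddC (h2.trans hC2)
  -- m ∣ 2^n - 1
  have hm1 : B ⊓ CE R = (B ⊓ Y) ⊓ CE R := by
    rw [inf_assoc, inf_eq_right.mpr hCY]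
  have hm2 : (B ⊓ CE R).relIndex (B ⊓ Y) = (CE R).relIndex (B ⊓ Y) := by
    rw [hm1]
    exact Subgroup.inf_relIndex_left (B ⊓ Y) (CE R)
  have hm3 : (CE R).relIndex ((B ⊓ Y) ⊔ CE R) = (CE R).relIndex (B ⊓ Y) :=
    Subgroup.relIndex_sup_right (B ⊓ Y) (CE R)
  have hm4 : (CE R).relIndex ((B ⊓ Y) ⊔ CE R) * ((B ⊓ Y) ⊔ CE R).relIndex Y = (CE R).relIndex Y :=
    Subgroup.relIndex_mul_relIndex _ _ _ le_sup_right (sup_le inf_le_right hCY)
  have hm : (B ⊓ CE R).relIndex (B ⊓ Y) ∣ 2 ^ n - 1 := by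
    rw [hm2, ← hm3]
    exact (Dvd.intro _ hm4).trans c.rel
  have hdvd : 2 ^ n - 1 ∣ (B ⊓ Y).relIndex B * (B ⊓ CE R).relIndex (B ⊓ Y) := by
    rw [mul_comm, hmk]
    exact horb
  exact arith n _ _ c.n2 hk hodd hm hdvd

end Cfsg.Agent.Helper18.T97
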