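import Mathlib
import Cfsg.Agent.Lib.T97.T97Defs

/-! S3797 piece T97-EIGAB (helper18 design; see plans/S3797_plan.md). -/

set_option autoImplicit false

namespace Cfsg.Agent.Helper18.T97

variable {X : Type*} [Group X]

/-- in a group of odd order, an element of square `1` is trivial -/
theorem t97eigab_sq_inj {A : Type*} [CommGroup A] [Finite A] (hodd : Odd (Nat.card A)) (y : A)
    (h : y ^ 2 = 1) : y = 1 := by
  obtain ⟨k, hk⟩ := hodd
  have h1 : y ^ (Nat.card A) = 1 := pow_card_eq_one'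
  rw [hk, pow_succ, pow_mul, h, one_pow, one_mul] at h1
  exact h1

/-- one step of the simultaneous diagonalisation: an involutory automorphism `e` of `A` (odd order) and
`y ≠ 1` give an endomorphism `P`, commuting with everything that commutes with `e`, with `P y ≠ 1` an
eigen-element of `e`. -/
theorem t97eigab_step {A : Type*} [CommGroup A] [Finite A] (hodd : Odd (Nat.card A))
    (e : MulAut A) (he : ∀ v, e (e v) = v) (y : A) (hy : y ≠ 1) :
    ∃ P : A →* A, P y ≠ 1 ∧ (e (P y) = P y ∨ e (P y) = (P y)⁻¹) ∧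
      ∀ e' : MulAut A, (∀ v, e' (e v) = e (e' v)) → ∀ v, P (e' v) = e' (P v) := by
  obtain ⟨k, hk⟩ := hodd
  let Pp : A →* A := MonoidHom.mk' (fun v => (v * e v) ^ (k + 1)) (by
    intro a b
    simp only [map_mul]
    rw [← mul_pow]
    congr 1
    exact mul_mul_mul_comm a b (e a) (e b))
  let Pm : A →* A := MonoidHom.mk' (fun v => (v * (e v)⁻¹) ^ (k + 1)) (by
    intro a b
    simp only [map_mul]
    rw [mul_inv, ← mul_pow]
    congr 1
    exact mul_mul_mul_comm a b (e a)⁻¹ (e b)⁻¹)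
  have hPp : ∀ v, Pp v = (v * e v) ^ (k + 1) := fun v => rfl
  have hPm : ∀ v, Pm v = (v * (e v)⁻¹) ^ (k + 1) := fun v => rfl
  have hprod : Pp y * Pm y = y := by
    rw [hPp, hPm, ← mul_pow]
    have h1 : y * e y * (y * (e y)⁻¹) = y ^ 2 := by
      rw [mul_mul_mul_comm, mul_inv_cancel, mul_one, pow_two]
    rw [h1, ← pow_mul]
    have h2 : 2 * (k + 1) = Nat.card A + 1 := by omega
    rw [h2, pow_succ, pow_card_eq_one', one_mul]
  by_cases hp : Pp y = 1
  · refine ⟨Pm, ?_, Or.inr ?_, ?_⟩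
    · intro h
      apply hy
      rw [← hprod, hp, h, one_mul]
    · rw [hPm, map_pow, map_mul, map_inv, he, ← inv_pow, mul_inv, inv_inv, mul_comm]
    · intro e' hc v
      rw [hPm, hPm, map_pow, map_mul, map_inv, hc]
  · refine ⟨Pp, hp, Or.inl ?_, ?_⟩
    · rw [hPp, map_pow, map_mul, he, mul_comm]
    · intro e' hc v
      rw [hPp, hPp, map_pow, map_mul, hc]

/-- Abstract eigen-element lemma, abelian case.  `A` finite commutative of odd order, `Q` acts via `φ` with commuting images and `φ(q)^2 = 1`.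
Pick `q₁, a` with `φ q₁ a ≠ a`; `b := a / φ q₁ a ≠ 1` satisfies `φ q₁ b = b⁻¹` (use `φ (q₁^2) = 1`).  `V⁻ := {v | φ q₁ v = v⁻¹}` is a nontrivial subgroup,
invariant under every `φ q` (images commute).  Let `V₁ ≤ V⁻` be a minimal nontrivial `Q`-invariant subgroup.  For each `q`, `V₁ = V₁⁺ × V₁⁻`
(`v = s * d` with `s^2 = v * φ q v`, `d^2 = v / φ q v`; squaring is bijective on a group of odd order), both `Q`-invariant, so one of them is `V₁`:
every `q` acts on `V₁` as `id` or as inversion.  `Q₀ := {q | ∀ v ∈ V₁, φ q v = v}` is a subgroup of index 2 (`q₁ ∉ Q₀` as `V₁` has odd order `> 1`; for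
`q, q' ∉ Q₀`, `q * q'` acts trivially).  `y :=` any nontrivial element of `V₁`. -/
theorem eigen_abelian {A : Type*} [CommGroup A] [Finite A] (hodd : Odd (Nat.card A))
    {Q : Type*} [Group Q] [Finite Q] (φ : Q →* MulAut A)
    (hcomm : ∀ q q' : Q, φ (q * q') = φ (q' * q)) (hsq : ∀ q : Q, φ (q ^ 2) = 1)
    (hnt : ∃ (q : Q) (a : A), φ q a ≠ a) :
    ∃ (Q₀ : Subgroup Q) (y : A), Q₀.index = 2 ∧ y ≠ 1 ∧ (∀ q ∈ Q₀, φ q y = y) ∧
      (∀ q : Q, q ∉ Q₀ → φ q y = y⁻¹) := by
  classical
  obtain ⟨q₁, a, hqa⟩ := hnt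
  have hφsq : ∀ (q : Q) (v : A), φ q (φ q v) = v := by
    intro q v
    have h1 := hsq q
    rw [pow_two, map_mul] at h1
    have h2 := congrArg (fun f : MulAut A => f v) h1
    simpa [MulAut.mul_apply] using h2
  have hφcomm : ∀ (q q' : Q) (v : A), φ q' (φ q v) = φ q (φ q' v) := by
    intro q q' v
    have h1 := hcomm q q'
    rw [map_mul, map_mul] at h1
    have h2 := congrArg (fun f : MulAut A => f v) h1
    simpa [MulAut.mul_apply] using h2.symm
  obtain ⟨b, hb1, hbq⟩ : ∃ b : A, b ≠ 1 ∧ φ q₁ b = b⁻¹ := by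
    refine ⟨a * (φ q₁ a)⁻¹, ?_, ?_⟩
    · intro h
      apply hqa
      exact (mul_inv_eq_one.mp h).symm
    · rw [map_mul, map_inv, hφsq, mul_inv, inv_inv, mul_comm]
  have key : ∀ S : Finset Q, ∃ y : A, y ≠ 1 ∧ φ q₁ y = y⁻¹ ∧
      ∀ q ∈ S, φ q y = y ∨ φ q y = y⁻¹ := by
    intro S
    induction S using Finset.induction_on with
    | empty => exact ⟨b, hb1, hbq, by simp⟩
    | insert q S hqS ih =>
      obtain ⟨y, hy1, hyq, hyS⟩ := ih
      obtain ⟨P, hP1, hPe, hPc⟩ := t97eigab_step hodd (φ q) (hφsq q) y hy1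
      refine ⟨P y, hP1, ?_, ?_⟩
      · rw [← hPc (φ q₁) (fun v => hφcomm q q₁ v), hyq, map_inv]
      · intro q' hq'
        rw [Finset.mem_insert] at hq'
        rcases hq' with hq' | hq'
        · rw [hq']
          exact hPe
        · rcases hyS q' hq' with h | h
          · left
            rw [← hPc (φ q') (fun v => hφcomm q q' v), h]
          · right
            rw [← hPc (φ q') (fun v => hφcomm q q' v), h, map_inv]
  haveI := Fintype.ofFinite Q
  obtain ⟨y, hy1, hyq, hyall⟩ := key Finset.univ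
  have hyne : y⁻¹ ≠ y := by
    intro h
    apply hy1
    apply t97eigab_sq_inj hodd
    rw [pow_two]
    nth_rewrite 1 [← h]
    exact inv_mul_cancel y
  have hmem : ∀ q : Q, q ∈ (MulAction.stabilizer (MulAut A) y).comap φ ↔ φ q y = y := by
    intro q
    rw [Subgroup.mem_comap, MulAction.mem_stabilizer_iff, MulAut.smul_def]
  refine ⟨(MulAction.stabilizer (MulAut A) y).comap φ, y, ?_, hy1, ?_, ?_⟩
  · rw [Subgroup.index_eq_two_iff]
    refine ⟨q₁, fun q => ?_⟩
    rw [hmem, hmem, map_mul, MulAut.mul_apply, hyq, map_inv]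
    rcases hyall q (Finset.mem_univ q) with h | h
    · right
      refine ⟨h, ?_⟩
      rw [h]
      exact hyne
    · left
      refine ⟨?_, ?_⟩
      · rw [h, inv_inv]
      · rw [h]
        exact hyne
  · intro q hq
    exact (hmem q).mp hq
  · intro q hq
    rcases hyall q (Finset.mem_univ q) with h | h
    · exact absurd ((hmem q).mpr h) hq
    · exact h

end Cfsg.Agent.Helper18.T97
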