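import Mathlib
import Cfsg.Agent.Lib.T97.T97Defs
import Cfsg.Agent.Lib.T97.T97EIGAB

/-! S3797 piece T97-EIGP (helper18 design; see plans/S3797_plan.md).  Proved by helper17. -/

set_option autoImplicit false

universe u

namespace Cfsg.Agent.Helper18.T97

variable {X : Type*} [Group X]

/-- in an `r`-group with `r` odd, an element of square `1` is trivial -/
theorem t97eigp_sq_one {G : Type*} [Group G] (r : ℕ) [Fact r.Prime] (hr2 : r ≠ 2)
    (hG : IsPGroup r G) (g : G) (h : g ^ 2 = 1) : g = 1 := by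
  have hr : r.Prime := Fact.out
  obtain ⟨k, hk⟩ := hG g
  have h1 : orderOf g ∣ 2 := orderOf_dvd_of_pow_eq_one h
  have h2 : orderOf g ∣ r ^ k := orderOf_dvd_of_pow_eq_one hk
  have hc : Nat.Coprime 2 (r ^ k) :=
    Nat.Coprime.pow_right k ((Nat.coprime_primes Nat.prime_two hr).mpr (Ne.symm hr2))
  have h3 : orderOf g ∣ Nat.gcd 2 (r ^ k) := Nat.dvd_gcd h1 h2
  rw [hc.gcd_eq_one, Nat.dvd_one] at h3
  exact orderOf_eq_one_iff.mp h3

/-- restriction of an action by automorphisms to an invariant subgroup -/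
theorem t97eigp_res {N Q : Type*} [Group N] [Group Q] (φ : Q →* MulAut N) (H : Subgroup N)
    (hH : ∀ q : Q, ∀ h ∈ H, φ q h ∈ H) :
    ∃ ψ : Q →* MulAut ↥H, ∀ (q : Q) (h : ↥H), ((ψ q h : ↥H) : N) = φ q h := by
  have hinv : ∀ (q : Q) (n : N), φ q⁻¹ (φ q n) = n := by
    intro q n
    rw [← MulAut.mul_apply, ← map_mul, inv_mul_cancel, map_one, MulAut.one_apply]
  have hinv' : ∀ (q : Q) (n : N), φ q (φ q⁻¹ n) = n := by
    intro q n
    rw [← MulAut.mul_apply, ← map_mul, mul_inv_cancel, map_one, MulAut.one_apply]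
  let e : Q → MulAut ↥H := fun q =>
    { toFun := fun h => ⟨φ q h, hH q h h.2⟩
      invFun := fun h => ⟨φ q⁻¹ h, hH q⁻¹ h h.2⟩
      left_inv := fun h => Subtype.ext (hinv q h)
      right_inv := fun h => Subtype.ext (hinv' q h)
      map_mul' := fun a b => Subtype.ext (by simp) }
  have he : ∀ (q : Q) (h : ↥H), ((e q h : ↥H) : N) = φ q h := fun q h => rfl
  refine ⟨MonoidHom.mk' e ?_, fun q h => rfl⟩
  intro a b
  apply MulEquiv.ext
  intro h
  apply Subtype.ext
  rw [MulAut.mul_apply, he, he, he, map_mul, MulAut.mul_apply]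

/-- descent of an action by automorphisms to the quotient by an invariant normal subgroup -/
theorem t97eigp_quot {N Q : Type*} [Group N] [Group Q] (φ : Q →* MulAut N) (Z : Subgroup N)
    [Z.Normal] (hZ : ∀ q : Q, Z.map ((φ q : N ≃* N) : N →* N) = Z) :
    ∃ ψ : Q →* MulAut (N ⧸ Z), ∀ (q : Q) (n : N),
      ψ q (n : N ⧸ Z) = ((φ q n : N) : N ⧸ Z) := by
  let e : Q → MulAut (N ⧸ Z) := fun q => QuotientGroup.congr Z Z (φ q) (hZ q)
  have he : ∀ (q : Q) (n : N), e q (n : N ⧸ Z) = ((φ q n : N) : N ⧸ Z) := fun q n => rfl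
  refine ⟨MonoidHom.mk' e ?_, fun q n => rfl⟩
  intro a b
  apply MulEquiv.ext
  intro x
  induction x using QuotientGroup.induction_on with
  | H n => rw [MulAut.mul_apply, he, he, he, map_mul, MulAut.mul_apply]

open scoped IsMulCommutative in
/-- the induction behind `eigen_pgroup` -/
theorem t97eigp_main (r : ℕ) [Fact r.Prime] (hr2 : r ≠ 2) {Q : Type*} [Group Q] [Finite Q] :
    ∀ (n : ℕ) (N : Type u) [Group N] [Finite N], Nat.card N = n → IsPGroup r N →
    ∀ φ : Q →* MulAut N, (∀ q q' : Q, φ (q * q') = φ (q' * q)) → (∀ q : Q, φ (q ^ 2) = 1) →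
    (∃ (q : Q) (a : N), φ q a ≠ a) →
    ∃ (Q₀ : Subgroup Q) (y : N), Q₀.index = 2 ∧ y ≠ 1 ∧ (∀ q ∈ Q₀, φ q y = y) ∧
      (∀ q : Q, q ∉ Q₀ → φ q y = y⁻¹) := by
  intro n
  induction n using Nat.strong_induction_on with
  | _ n ih =>
  intro N _ _ hcard hN φ hcomm hsq hnt
  have hr : r.Prime := Fact.out
  have hφsq : ∀ (q : Q) (v : N), φ q (φ q v) = v := by
    intro q v
    have h1 := hsq q
    rw [pow_two, map_mul] at h1
    have h2 := congrArg (fun f : MulAut N => f v) h1
    simpa [MulAut.mul_apply] using h2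
  have hφcomm : ∀ (q q' : Q) (v : N), φ q' (φ q v) = φ q (φ q' v) := by
    intro q q' v
    have h1 := hcomm q q'
    rw [map_mul, map_mul] at h1
    have h2 := congrArg (fun f : MulAut N => f v) h1
    simpa [MulAut.mul_apply] using h2.symm
  have hZinv : ∀ q : Q, ∀ z ∈ Subgroup.center N, φ q z ∈ Subgroup.center N := by
    intro q z hz
    rw [Subgroup.mem_center_iff] at hz ⊢
    intro g
    calc g * φ q z = φ q (φ q g) * φ q z := by rw [hφsq]
      _ = φ q (φ q g * z) := by rw [map_mul]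
      _ = φ q (z * φ q g) := by rw [hz]
      _ = φ q z * g := by rw [map_mul, hφsq]
  by_cases hA : ∃ (q : Q) (z : N), z ∈ Subgroup.center N ∧ φ q z ≠ z
  · -- CASE A: the centre carries a nontrivial action
    obtain ⟨q₀, z₀, hz₀, hqz⟩ := hA
    obtain ⟨ψ, hψ⟩ := t97eigp_res φ (Subgroup.center N) hZinv
    have hodd : Odd (Nat.card ↥(Subgroup.center N)) := by
      obtain ⟨k, hk⟩ := (IsPGroup.iff_card.mp (hN.to_subgroup (Subgroup.center N)))
      rw [hk]
      exact (hr.odd_of_ne_two hr2).pow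
    have h1 : ∀ q q' : Q, ψ (q * q') = ψ (q' * q) := by
      intro q q'
      apply MulEquiv.ext
      intro z
      apply Subtype.ext
      rw [hψ, hψ, hcomm]
    have h2 : ∀ q : Q, ψ (q ^ 2) = 1 := by
      intro q
      apply MulEquiv.ext
      intro z
      apply Subtype.ext
      rw [hψ, hsq]
      rfl
    have h3 : ∃ (q : Q) (a : ↥(Subgroup.center N)), ψ q a ≠ a := by
      refine ⟨q₀, ⟨z₀, hz₀⟩, fun h => hqz ?_⟩
      have h4 := congrArg Subtype.val h
      rwa [hψ] at h4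
    obtain ⟨Q₀, y, hidx, hy1, hfix, hinv⟩ := eigen_abelian hodd ψ h1 h2 h3
    refine ⟨Q₀, (y : N), hidx, ?_, ?_, ?_⟩
    · intro h
      apply hy1
      exact Subtype.ext h
    · intro q hq
      rw [← hψ, hfix q hq]
    · intro q hq
      rw [← hψ, hinv q hq]
      rfl
  · -- CASE B: `Q` fixes the centre pointwise
    have hB : ∀ (q : Q) (z : N), z ∈ Subgroup.center N → φ q z = z := by
      intro q z hz
      by_contra h
      exact hA ⟨q, z, hz, h⟩
    have hL : ∀ (q : Q) (x : N), x⁻¹ * φ q x ∈ Subgroup.center N → φ q x = x := by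
      intro q x hx
      have h1 : φ q (x⁻¹ * φ q x) = x⁻¹ * φ q x := hB q _ hx
      rw [map_mul, map_inv, hφsq] at h1
      have h2 : (x⁻¹ * φ q x) ^ 2 = 1 := by
        rw [pow_two]
        nth_rewrite 1 [← h1]
        group
      have h3 := t97eigp_sq_one r hr2 hN _ h2
      exact (inv_mul_eq_one.mp h3).symm
    have : Nontrivial N := by
      obtain ⟨q, a, hqa⟩ := hnt
      exact ⟨⟨φ q a, a, hqa⟩⟩
    have : Nontrivial ↥(Subgroup.center N) := hN.center_nontrivial
    have hlt : Nat.card (N ⧸ Subgroup.center N) < n := by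
      rw [← hcard, Subgroup.card_eq_card_quotient_mul_card_subgroup (Subgroup.center N)]
      have h1 : 1 < Nat.card ↥(Subgroup.center N) := Finite.one_lt_card
      have h0 : 0 < Nat.card (N ⧸ Subgroup.center N) := Nat.card_pos
      nlinarith
    obtain ⟨ψ, hψ⟩ := t97eigp_quot φ (Subgroup.center N)
      (fun q => Subgroup.characteristic_iff_map_eq.mp Subgroup.centerCharacteristic (φ q))
    have h1 : ∀ q q' : Q, ψ (q * q') = ψ (q' * q) := by
      intro q q'
      apply MulEquiv.ext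
      intro x
      induction x using QuotientGroup.induction_on with
      | H x => rw [hψ, hψ, hcomm]
    have h2 : ∀ q : Q, ψ (q ^ 2) = 1 := by
      intro q
      apply MulEquiv.ext
      intro x
      induction x using QuotientGroup.induction_on with
      | H x =>
        rw [hψ, hsq]
        rfl
    have h3 : ∃ (q : Q) (a : N ⧸ Subgroup.center N), ψ q a ≠ a := by
      obtain ⟨q, a, hqa⟩ := hnt
      refine ⟨q, (a : N ⧸ Subgroup.center N), fun h => hqa ?_⟩
      rw [hψ] at h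
      apply hL
      exact QuotientGroup.eq.mp h.symm
    obtain ⟨Q₀, ybar, hidx, hy1, hfix, hinv⟩ :=
      ih _ hlt (N ⧸ Subgroup.center N) rfl (hN.to_quotient _) ψ h1 h2 h3
    obtain ⟨x, rfl⟩ := QuotientGroup.mk_surjective ybar
    have hx0 : ∀ q ∈ Q₀, φ q x = x := by
      intro q hq
      apply hL
      have h4 := hfix q hq
      rw [hψ] at h4
      exact QuotientGroup.eq.mp h4.symm
    obtain ⟨q₁, hq₁⟩ : ∃ q₁, q₁ ∉ Q₀ := by
      by_contra hcon
      have htop : Q₀ = ⊤ := by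
        rw [eq_top_iff]
        intro q _
        by_contra hq
        exact hcon ⟨q, hq⟩
      rw [htop, Subgroup.index_top] at hidx
      omega
    obtain ⟨y, hydef⟩ : ∃ y : N, y = x⁻¹ * φ q₁ x := ⟨_, rfl⟩
    have hy : y ≠ 1 := by
      intro h
      rw [hydef] at h
      have h4 : φ q₁ x = x := (inv_mul_eq_one.mp h).symm
      have h5 := hinv q₁ hq₁
      rw [hψ, h4] at h5
      apply hy1
      apply t97eigp_sq_one r hr2 (hN.to_quotient _)
      rw [pow_two]
      nth_rewrite 1 [h5]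
      exact inv_mul_cancel _
    have hyfix : ∀ q ∈ Q₀, φ q y = y := by
      intro q hq
      rw [hydef, map_mul, map_inv, hφcomm q₁ q x, hx0 q hq]
    have hyinv : φ q₁ y = y⁻¹ := by
      rw [hydef, map_mul, map_inv, hφsq, mul_inv_rev, inv_inv]
    refine ⟨Q₀, y, hidx, hy, hyfix, ?_⟩
    intro q hq
    have hmem : q₁⁻¹ * q ∈ Q₀ := by
      rw [Subgroup.mul_mem_iff_of_index_two hidx]
      constructor
      · intro h
        exact absurd (Q₀.inv_mem_iff.mp h) hq₁
      · intro h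
        exact absurd h hq
    have hq' : q = q₁ * (q₁⁻¹ * q) := by group
    rw [hq', map_mul, MulAut.mul_apply, hyfix _ hmem, hyinv]

/-- Abstract eigen-element lemma for `r`-groups. -/
theorem eigen_pgroup {N : Type*} [Group N] [Finite N] (r : ℕ) [Fact r.Prime] (hr2 : r ≠ 2)
    (hN : IsPGroup r N) {Q : Type*} [Group Q] [Finite Q] (hQ : IsPGroup 2 Q) (φ : Q →* MulAut N)
    (hcomm : ∀ q q' : Q, φ (q * q') = φ (q' * q)) (hsq : ∀ q : Q, φ (q ^ 2) = 1)
    (hnt : ∃ (q : Q) (a : N), φ q a ≠ a) :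
    ∃ (Q₀ : Subgroup Q) (y : N), Q₀.index = 2 ∧ y ≠ 1 ∧ (∀ q ∈ Q₀, φ q y = y) ∧
      (∀ q : Q, q ∉ Q₀ → φ q y = y⁻¹) :=
  t97eigp_main r hr2 (Nat.card N) N rfl hN φ hcomm hsq hnt

end Cfsg.Agent.Helper18.T97
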