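import Mathlib
import Cfsg.Agent.Lib.T97.T97Defs
import Cfsg.Agent.Lib.T97.T97EIGP

/-! S3797 piece T97-EIGAPP (helper18 design; see plans/S3797_plan.md).  STUB: overwrite this file, keeping the
statement, the namespace and the imports (you may ADD imports of library files outside Lib/T97, or of
T97 files that are listed as dependencies).  Aux lemmas: fresh names with prefix `t97eigapp_`. -/

set_option autoImplicit false

namespace Cfsg.Agent.Helper18.T97

variable {X : Type*} [Group X]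

/-- conjugation action of a subgroup `W` of the normaliser of `N₀` on `↥N₀`. -/
def t97eigapp_phi (N₀ W : Subgroup X) (hWN : W ≤ Subgroup.normalizer (N₀ : Set X)) :
    ↥W →* MulAut ↥N₀ where
  toFun w :=
    { toFun := fun n => ⟨(w : X) * n * (w : X)⁻¹,
        (Subgroup.mem_normalizer_iff.mp (hWN w.2) n).mp n.2⟩
      invFun := fun n => ⟨(w : X)⁻¹ * n * (w : X), by
        have h := (Subgroup.mem_normalizer_iff.mp (hWN w.2) ((w : X)⁻¹ * n * (w : X))).mpr
          (by
            have e : (w : X) * ((w : X)⁻¹ * (n : X) * (w : X)) * (w : X)⁻¹ = n := by group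
            rw [e]; exact n.2)
        exact h⟩
      left_inv := by
        intro n
        apply Subtype.ext
        show (w : X)⁻¹ * ((w : X) * n * (w : X)⁻¹) * (w : X) = n
        group
      right_inv := by
        intro n
        apply Subtype.ext
        show (w : X) * ((w : X)⁻¹ * n * (w : X)) * (w : X)⁻¹ = n
        group
      map_mul' := by
        intro a b
        apply Subtype.ext
        show (w : X) * ((a : X) * (b : X)) * (w : X)⁻¹
          = ((w : X) * a * (w : X)⁻¹) * ((w : X) * b * (w : X)⁻¹)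
        group }
  map_one' := by
    apply MulEquiv.ext
    intro n
    apply Subtype.ext
    show ((1 : ↥W) : X) * n * ((1 : ↥W) : X)⁻¹ = n
    simp
  map_mul' := by
    intro a b
    apply MulEquiv.ext
    intro n
    apply Subtype.ext
    show ((a * b : ↥W) : X) * n * ((a * b : ↥W) : X)⁻¹
      = (a : X) * ((b : X) * n * (b : X)⁻¹) * (a : X)⁻¹
    rw [Subgroup.coe_mul]
    group

theorem t97eigapp_phi_coe (N₀ W : Subgroup X) (hWN : W ≤ Subgroup.normalizer (N₀ : Set X))
    (w : ↥W) (n : ↥N₀) :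
    ((t97eigapp_phi N₀ W hWN w n : ↥N₀) : X) = (w : X) * n * (w : X)⁻¹ := rfl

/-- Internal form of the eigen-element lemma.  Apply `eigen_pgroup` with `N := ↥N₀`, `Q := ↥W`, `φ w :=` conjugation by `w` on `↥N₀` (well defined by `hWN`;
`MulAut.conjNormal`-style).  `hcomm`: `w w'` and `w' w` differ by `w w' w⁻¹ w'⁻¹ ∈ C(N₀)` (`hcm`); `hsq` from the hypothesis `hsq`; `hnt` from `hWnc`.
`W₀ := Q₀.map W.subtype`; `W₀.relIndex W = Q₀.index = 2`. -/
theorem exists_eigen [Finite X] (r : ℕ) [Fact r.Prime] (hr2 : r ≠ 2) (N₀ W : Subgroup X)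
    (hNr : IsPGroup r N₀) (hW2 : IsPGroup 2 W) (hWN : W ≤ Subgroup.normalizer (N₀ : Set X))
    (hWnc : ¬ W ≤ Subgroup.centralizer (N₀ : Set X))
    (hsq : ∀ w ∈ W, w ^ 2 ∈ Subgroup.centralizer (N₀ : Set X))
    (hcm : ∀ w ∈ W, ∀ w' ∈ W, w * w' * w⁻¹ * w'⁻¹ ∈ Subgroup.centralizer (N₀ : Set X)) :
    ∃ (W₀ : Subgroup X) (y : X), IsEigen N₀ W W₀ y := by
  -- an element of the centraliser acts trivially on N₀
  have hcent : ∀ c ∈ Subgroup.centralizer (N₀ : Set X), ∀ m ∈ N₀, c * m * c⁻¹ = m := by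
    intro c hc m hm
    have := Subgroup.mem_centralizer_iff.mp hc m hm
    calc c * m * c⁻¹ = (c * m) * c⁻¹ := by group
      _ = (m * c) * c⁻¹ := by rw [this]
      _ = m := by group
  have hcomm : ∀ q q' : ↥W, t97eigapp_phi N₀ W hWN (q * q') = t97eigapp_phi N₀ W hWN (q' * q) := by
    intro q q'
    apply MulEquiv.ext
    intro n
    apply Subtype.ext
    rw [t97eigapp_phi_coe, t97eigapp_phi_coe, Subgroup.coe_mul, Subgroup.coe_mul]
    have hm : (q' : X) * (q : X) * n * ((q' : X) * (q : X))⁻¹ ∈ N₀ := by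
      have := (t97eigapp_phi N₀ W hWN (q' * q) n).2
      rw [t97eigapp_phi_coe, Subgroup.coe_mul] at this
      exact this
    have hc := hcent _ (hcm q q.2 q' q'.2) _ hm
    calc (q : X) * (q' : X) * n * ((q : X) * (q' : X))⁻¹
        = ((q : X) * (q' : X) * (q : X)⁻¹ * (q' : X)⁻¹)
            * ((q' : X) * (q : X) * n * ((q' : X) * (q : X))⁻¹)
            * ((q : X) * (q' : X) * (q : X)⁻¹ * (q' : X)⁻¹)⁻¹ := by group
      _ = (q' : X) * (q : X) * n * ((q' : X) * (q : X))⁻¹ := hc
  have hsq' : ∀ q : ↥W, t97eigapp_phi N₀ W hWN (q ^ 2) = 1 := by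
    intro q
    apply MulEquiv.ext
    intro n
    apply Subtype.ext
    rw [t97eigapp_phi_coe, Subgroup.coe_pow]
    exact hcent _ (hsq q q.2) n n.2
  have hnt : ∃ (q : ↥W) (a : ↥N₀), t97eigapp_phi N₀ W hWN q a ≠ a := by
    by_contra hcon
    push Not at hcon
    apply hWnc
    intro w hw
    rw [Subgroup.mem_centralizer_iff]
    intro m hm
    have h1 := congrArg Subtype.val (hcon ⟨w, hw⟩ ⟨m, hm⟩)
    rw [t97eigapp_phi_coe] at h1
    have h1' : w * m * w⁻¹ = m := h1
    calc m * w = (w * m * w⁻¹) * w := by rw [h1']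
      _ = w * m := by group
  obtain ⟨Q₀, y, hidx, hy1, hfix, hinv⟩ :=
    eigen_pgroup (N := ↥N₀) r hr2 hNr (Q := ↥W) hW2 (t97eigapp_phi N₀ W hWN) hcomm hsq' hnt
  refine ⟨Q₀.map W.subtype, (y : X), ?_⟩
  refine ⟨Subgroup.map_subtype_le Q₀, ?_, y.2, ?_, ?_, ?_⟩
  · have : (Q₀.map W.subtype).subgroupOf W = Q₀ := by
      unfold Subgroup.subgroupOf
      exact Subgroup.comap_map_eq_self_of_injective (Subgroup.subtype_injective W) Q₀
    unfold Subgroup.relIndex
    rw [this, hidx]
  · intro h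
    apply hy1
    exact Subtype.ext h
  · rintro w ⟨q, hq, rfl⟩
    have := congrArg Subtype.val (hfix q hq)
    rw [t97eigapp_phi_coe] at this
    exact this
  · intro w hw hwn
    have hq : (⟨w, hw⟩ : ↥W) ∉ Q₀ := by
      intro hq
      apply hwn
      exact ⟨⟨w, hw⟩, hq, rfl⟩
    have := congrArg Subtype.val (hinv ⟨w, hw⟩ hq)
    rw [t97eigapp_phi_coe] at this
    simpa using this

end Cfsg.Agent.Helper18.T97
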