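import Mathlib
import Cfsg.Agent.Lib.T97.T97Defs

/-! S3797 piece T97-FAITH (helper18 design; see plans/S3797_plan.md).  STUB: overwrite this file, keeping the
statement, the namespace and the imports (you may ADD imports of library files outside Lib/T97, or of
T97 files that are listed as dependencies).  Aux lemmas: fresh names with prefix `t97faith_`. -/

set_option autoImplicit false

namespace Cfsg.Agent.Helper18.T97

variable {X : Type*} [Group X]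

/-- if `z = a k a⁻¹ k⁻¹` commutes with `a` then `a^j k a^(-j) = z^j k`. -/
theorem t97faith_pow (a k : X)
    (hz : a * (a * k * a⁻¹ * k⁻¹) = (a * k * a⁻¹ * k⁻¹) * a) (j : ℕ) :
    a ^ j * k * a⁻¹ ^ j = (a * k * a⁻¹ * k⁻¹) ^ j * k := by
  induction j with
  | zero => simp
  | succ j ih =>
    have hc : Commute a (a * k * a⁻¹ * k⁻¹) := hz
    have hcj : a * (a * k * a⁻¹ * k⁻¹) ^ j = (a * k * a⁻¹ * k⁻¹) ^ j * a := (hc.pow_right j).eq
    calc a ^ (j + 1) * k * a⁻¹ ^ (j + 1)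
        = a * (a ^ j * k * a⁻¹ ^ j) * a⁻¹ := by rw [pow_succ', pow_succ]; group
      _ = a * ((a * k * a⁻¹ * k⁻¹) ^ j * k) * a⁻¹ := by rw [ih]
      _ = (a * (a * k * a⁻¹ * k⁻¹) ^ j) * k * a⁻¹ := by group
      _ = ((a * k * a⁻¹ * k⁻¹) ^ j * a) * k * a⁻¹ := by rw [hcj]
      _ = (a * k * a⁻¹ * k⁻¹) ^ j * (a * k * a⁻¹ * k⁻¹) * k := by group
      _ = (a * k * a⁻¹ * k⁻¹) ^ (j + 1) * k := by rw [pow_succ]

/-- a 2-element `z = [a,k]` commuting with the odd-order element `a` is trivial. -/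
theorem t97faith_comm_eq_one (a k : X) (hodd : Odd (orderOf a))
    (hz : a * (a * k * a⁻¹ * k⁻¹) = (a * k * a⁻¹ * k⁻¹) * a)
    (h2 : ∃ n : ℕ, (a * k * a⁻¹ * k⁻¹) ^ 2 ^ n = 1) : a * k * a⁻¹ * k⁻¹ = 1 := by
  have h1 := t97faith_pow a k hz (orderOf a)
  rw [pow_orderOf_eq_one, inv_pow, pow_orderOf_eq_one, inv_one, one_mul, mul_one] at h1
  have hzj : (a * k * a⁻¹ * k⁻¹) ^ orderOf a = 1 := by
    have : (a * k * a⁻¹ * k⁻¹) ^ orderOf a * k = 1 * k := by rw [one_mul]; exact h1.symm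
    exact mul_right_cancel this
  obtain ⟨n, hn⟩ := h2
  have d1 : orderOf (a * k * a⁻¹ * k⁻¹) ∣ orderOf a := orderOf_dvd_of_pow_eq_one hzj
  have d2 : orderOf (a * k * a⁻¹ * k⁻¹) ∣ 2 ^ n := orderOf_dvd_of_pow_eq_one hn
  have hcop : Nat.Coprime (orderOf a) (2 ^ n) := by
    apply Nat.Coprime.pow_right
    apply Nat.Coprime.symm
    rw [Nat.Prime.coprime_iff_not_dvd Nat.prime_two]
    intro hd
    exact (Nat.not_even_iff_odd.mpr hodd) (even_iff_two_dvd.mpr hd)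
  have := Nat.eq_one_of_dvd_coprimes hcop d1 d2
  exact orderOf_eq_one_iff.mp this

/-- Odd-order `a` acting trivially on `Z(K)` and on `K/Z(K)` for the critical subgroup `K` is trivial.  (1) `a` centralises `K`: for `k ∈ K`, `z := a k a⁻¹ k⁻¹ ∈ Z(K)` commutes
with `a` (`haZ`), so `a^j k a^(-j) = z^j k`; `j = orderOf a` gives `z^j = 1`; `z ∈ R` is a 2-element and `j` is odd: `z = 1`.  (2) for `x ∈ R`, `c := a x a⁻¹ x⁻¹ ∈ R` (normal)
centralises `K`: for `k ∈ K`, `k' := x⁻¹ k x ∈ K`, and `c k c⁻¹ = a x a⁻¹ k' a x⁻¹ a⁻¹ = a x k' x⁻¹ a⁻¹ = a k a⁻¹ = k`.  So `c ∈ R ⊓ C(K) ≤ K` (`hCK`).  (3) `c ∈ K` commutes with `a`, so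
`a^j x a^(-j) = c^j x`, `c^(orderOf a) = 1`, `c = 1`.  Hence `a ∈ C(R) ≤ R` (`h.CR`): `a` is a 2-element of odd order, `a = 1`. -/
theorem faithful_on_crit [Finite X] {R : Subgroup X} (h : Setup R) (K : Subgroup X) (hKR : K ≤ R)
    (hKn : K.Normal) (hCK : R ⊓ Subgroup.centralizer (K : Set X) ≤ K) (a : X) (hodd : Odd (orderOf a))
    (haZ : ∀ z ∈ K ⊓ Subgroup.centralizer (K : Set X), a * z = z * a)
    (haK : ∀ k ∈ K, a * k * a⁻¹ * k⁻¹ ∈ K ⊓ Subgroup.centralizer (K : Set X)) : a = 1 := by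
  have hRn : R.Normal := h.Rn
  -- 2-elements of R
  have h2R : ∀ z ∈ R, ∃ n : ℕ, z ^ 2 ^ n = 1 := by
    intro z hz
    obtain ⟨n, hn⟩ := h.R2 ⟨z, hz⟩
    refine ⟨n, ?_⟩
    have := congrArg Subtype.val hn
    simpa using this
  -- (1) a centralises K
  have h1 : ∀ k ∈ K, a * k = k * a := by
    intro k hk
    have hz := haK k hk
    have hz1 : a * k * a⁻¹ * k⁻¹ = 1 :=
      t97faith_comm_eq_one a k hodd (haZ _ hz) (h2R _ (hKR hz.1))
    calc a * k = (a * k * a⁻¹ * k⁻¹) * k * a := by group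
      _ = k * a := by rw [hz1, one_mul]
  have h1' : ∀ k ∈ K, a⁻¹ * k * a = k := by
    intro k hk
    have := h1 k hk
    calc a⁻¹ * k * a = a⁻¹ * (k * a) := by group
      _ = a⁻¹ * (a * k) := by rw [this]
      _ = k := by group
  -- (2),(3) a centralises R
  have h3 : ∀ x ∈ R, a * x = x * a := by
    intro x hx
    have hcR : a * x * a⁻¹ * x⁻¹ ∈ R := R.mul_mem (hRn.conj_mem x hx a) (R.inv_mem hx)
    have hcC : a * x * a⁻¹ * x⁻¹ ∈ Subgroup.centralizer (K : Set X) := by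
      rw [Subgroup.mem_centralizer_iff]
      intro k hk
      have hk' : x⁻¹ * k * x ∈ K := by
        have := hKn.conj_mem k hk x⁻¹
        simpa using this
      have e := h1' _ hk'
      -- c k c⁻¹ = k
      have : (a * x * a⁻¹ * x⁻¹) * k * (a * x * a⁻¹ * x⁻¹)⁻¹ = k := by
        calc (a * x * a⁻¹ * x⁻¹) * k * (a * x * a⁻¹ * x⁻¹)⁻¹
            = a * x * (a⁻¹ * (x⁻¹ * k * x) * a) * x⁻¹ * a⁻¹ := by group
          _ = a * x * (x⁻¹ * k * x) * x⁻¹ * a⁻¹ := by rw [e]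
          _ = a * k * a⁻¹ := by group
          _ = k * a * a⁻¹ := by rw [h1 k hk]
          _ = k := by group
      calc k * (a * x * a⁻¹ * x⁻¹)
          = ((a * x * a⁻¹ * x⁻¹) * k * (a * x * a⁻¹ * x⁻¹)⁻¹) * (a * x * a⁻¹ * x⁻¹) := by rw [this]
        _ = (a * x * a⁻¹ * x⁻¹) * k := by group
    have hcK : a * x * a⁻¹ * x⁻¹ ∈ K := hCK ⟨hcR, hcC⟩
    have hc1 : a * x * a⁻¹ * x⁻¹ = 1 :=
      t97faith_comm_eq_one a x hodd (h1 _ hcK) (h2R _ hcR)
    calc a * x = (a * x * a⁻¹ * x⁻¹) * x * a := by group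
      _ = x * a := by rw [hc1, one_mul]
  have haR : a ∈ R := by
    apply h.CR
    rw [Subgroup.mem_centralizer_iff]
    intro x hx
    exact (h3 x hx).symm
  obtain ⟨n, hn⟩ := h2R a haR
  have d2 : orderOf a ∣ 2 ^ n := orderOf_dvd_of_pow_eq_one hn
  have hcop : Nat.Coprime (orderOf a) (2 ^ n) := by
    apply Nat.Coprime.pow_right
    apply Nat.Coprime.symm
    rw [Nat.Prime.coprime_iff_not_dvd Nat.prime_two]
    intro hd
    exact (Nat.not_even_iff_odd.mpr hodd) (even_iff_two_dvd.mpr hd)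
  have : orderOf a = 1 := Nat.eq_one_of_dvd_coprimes hcop dvd_rfl d2
  exact orderOf_eq_one_iff.mp this

end Cfsg.Agent.Helper18.T97
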