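import Mathlib
import Cfsg.Agent.Lib.T97.T97Defs
import Cfsg.Agent.Lib.T97.T97INVOL

/-! S3797 piece T97-FPF2 (helper18 design; see plans/S3797_plan.md).  Proved by helper4. -/

set_option autoImplicit false

namespace Cfsg.Agent.Helper18.T97

variable {X : Type*} [Group X]

/-- A scalar element outside `C` commutes with no nontrivial 2-element.  If `t ≠ 1`, `orderOf t = 2^j` with `j ≥ 1`, then `τ := t^(2^(j-1))` is
an involution commuting with `d`; `τ ∈ omegaZ R` (`invol_mem c.su`); `c.fpf d hdY hdC τ _ _` gives `τ = 1`, contradiction. -/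
theorem fpf_two [Finite X] {R : Subgroup X} {n : ℕ} {Y : Subgroup X} (c : Ctx R n Y)
    (d : X) (hdY : d ∈ Y) (hdC : d ∉ CE R) (t : X) (ht : ∃ j : ℕ, orderOf t = 2 ^ j)
    (hcomm : d * t * d⁻¹ = t) : t = 1 := by
  obtain ⟨j, hj⟩ := ht
  rcases Nat.eq_zero_or_pos j with h0 | hpos
  · rw [h0, pow_zero] at hj
    exact orderOf_eq_one_iff.mp hj
  · exfalso
    obtain ⟨k, rfl⟩ : ∃ k, j = k + 1 := ⟨j - 1, by omega⟩
    set τ : X := t ^ (2 ^ k) with hτ
    have hτ2 : τ ^ 2 = 1 := by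
      rw [hτ, ← pow_mul, ← pow_succ, ← hj]
      exact pow_orderOf_eq_one t
    have hτ1 : τ ≠ 1 := by
      intro h1
      have hdvd : orderOf t ∣ 2 ^ k := orderOf_dvd_of_pow_eq_one h1
      rw [hj] at hdvd
      have hle : 2 ^ (k + 1) ≤ 2 ^ k := Nat.le_of_dvd (by positivity) hdvd
      rw [pow_succ] at hle
      have : 0 < 2 ^ k := by positivity
      omega
    have hτc : d * τ * d⁻¹ = τ := by
      rw [hτ, ← conj_pow, hcomm]
    have hmem : τ ∈ omegaZ R := invol_mem c.su τ hτ1 hτ2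
    exact hτ1 (c.fpf d hdY hdC τ hmem hτc)

end Cfsg.Agent.Helper18.T97
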