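import Mathlib
import Cfsg.Agent.Lib.T97.T97Defs
import Cfsg.Agent.Lib.T97.T97INVOL
import Cfsg.Agent.Lib.T97.T97ENORM

/-! S3797 piece T97-STAR (helper18 design; see plans/S3797_plan.md).  STUB: overwrite this file, keeping the
statement, the namespace and the imports (you may ADD imports of library files outside Lib/T97, or of
T97 files that are listed as dependencies).  Aux lemmas: fresh names with prefix `t97star_`. -/

set_option autoImplicit false

namespace Cfsg.Agent.Helper18.T97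

variable {X : Type*} [Group X]

/-- KEY TRICK (**).  If `N_X(P)` had even order, Cauchy gives an involution `τ ∈ N_X(P)`; `τ ∈ E` (`invol_mem`).
For `p ∈ P`: `τ p τ⁻¹ p⁻¹ ∈ P` (τ normalises `P`) and `= τ (p τ⁻¹ p⁻¹) ∈ E` (`E` normal), and `E ⊓ P = ⊥`
(`E` is a 2-group: exponent 2; `|P|` odd).  So `τ` centralises `P`: `τ ∈ E ⊓ C(P) = ⊥`, contradiction. -/
theorem odd_normalizer [Finite X] {R : Subgroup X} (h : Setup R) (P : Subgroup X)
    (hP : Odd (Nat.card P)) (hfix : omegaZ R ⊓ Subgroup.centralizer (P : Set X) = ⊥) :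
    Odd (Nat.card (Subgroup.normalizer (P : Set X))) := by
  by_contra hodd
  rw [Nat.not_odd_iff_even] at hodd
  have h2 : 2 ∣ Nat.card (Subgroup.normalizer (P : Set X)) := hodd.two_dvd
  haveI : Fact (Nat.Prime 2) := ⟨Nat.prime_two⟩
  obtain ⟨t, ht⟩ := exists_prime_orderOf_dvd_card' 2 h2
  have htne : (t : X) ≠ 1 := by
    intro h1
    have : t = 1 := Subtype.ext h1
    rw [this, orderOf_one] at ht
    norm_num at ht
  have ht2 : (t : X) ^ 2 = 1 := by
    have := pow_orderOf_eq_one t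
    rw [ht] at this
    have h3 := congrArg Subtype.val this
    simpa using h3
  have htE : (t : X) ∈ omegaZ R := invol_mem h (t : X) htne ht2
  have hEn : (omegaZ R).Normal := omegaZ_normal h.Rn
  have htN := t.2
  have hcent : (t : X) ∈ Subgroup.centralizer (P : Set X) := by
    rw [Subgroup.mem_centralizer_iff]
    intro q hq
    have hq' : q ∈ P := hq
    have hc1 : (t : X) * q * (t : X)⁻¹ ∈ P := (Subgroup.mem_normalizer_iff.mp htN q).mp hq'
    have hcP : (t : X) * q * (t : X)⁻¹ * q⁻¹ ∈ P := P.mul_mem hc1 (P.inv_mem hq')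
    have hcE : (t : X) * q * (t : X)⁻¹ * q⁻¹ ∈ omegaZ R := by
      have h1 : q * (t : X)⁻¹ * q⁻¹ ∈ omegaZ R := hEn.conj_mem _ ((omegaZ R).inv_mem htE) q
      have := (omegaZ R).mul_mem htE h1
      have he : (t : X) * (q * (t : X)⁻¹ * q⁻¹) = (t : X) * q * (t : X)⁻¹ * q⁻¹ := by group
      rwa [he] at this
    have hc2 : ((t : X) * q * (t : X)⁻¹ * q⁻¹) ^ 2 = 1 := (mem_omegaZ.mp hcE).2.2
    have hc1' : (t : X) * q * (t : X)⁻¹ * q⁻¹ = 1 := by
      have hd2 : orderOf ((t : X) * q * (t : X)⁻¹ * q⁻¹) ∣ 2 := orderOf_dvd_of_pow_eq_one hc2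
      have hdP : orderOf ((t : X) * q * (t : X)⁻¹ * q⁻¹) ∣ Nat.card P := by
        have := orderOf_dvd_natCard (⟨_, hcP⟩ : ↥P)
        rwa [Subgroup.orderOf_mk] at this
      have hcop : Nat.Coprime 2 (Nat.card P) := (Nat.coprime_two_left).mpr hP
      have := Nat.eq_one_of_dvd_coprimes hcop hd2 hdP
      exact orderOf_eq_one_iff.mp this
    -- from `t q t⁻¹ q⁻¹ = 1` get `q * t = t * q`
    have h3 : (t : X) * q * (t : X)⁻¹ = q := mul_inv_eq_one.mp hc1'
    have h4 : (t : X) * q = q * (t : X) := mul_inv_eq_iff_eq_mul.mp h3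
    exact h4.symm
  have : (t : X) ∈ omegaZ R ⊓ Subgroup.centralizer (P : Set X) := ⟨htE, hcent⟩
  rw [hfix, Subgroup.mem_bot] at this
  exact htne this

end Cfsg.Agent.Helper18.T97
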