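import Mathlib
import Cfsg.Agent.Lib.T97.T97Defs
import Cfsg.Agent.Lib.T97.T97STAR

/-! S3797 piece T97-FRAT (helper18 design; see plans/S3797_plan.md). -/

set_option autoImplicit false

namespace Cfsg.Agent.Helper18.T97

variable {X : Type*} [Group X]

/-- Frattini + (**).  `Sylow.normalizer_sup_eq_top P : (P.map Y.subtype).normalizer ⊔ Y = ⊤`, so
`Y.index = Y.relIndex (N ⊔ Y) = (N ⊓ Y).relIndex N` divides `|N|` (`N = N_X(P)`), which is odd by `odd_normalizer`
(`|P|` is a power of the odd prime `r`). -/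
theorem odd_index_of_sylow [Finite X] {R : Subgroup X} (h : Setup R) (Y : Subgroup X) [Y.Normal]
    (r : ℕ) [Fact r.Prime] (hr : r ≠ 2) (P : Sylow r Y)
    (hfix : omegaZ R ⊓
      Subgroup.centralizer (((P : Subgroup Y).map Y.subtype : Subgroup X) : Set X) = ⊥) :
    ¬ 2 ∣ Y.index := by
  have hPcard : Odd (Nat.card ((P : Subgroup Y).map Y.subtype : Subgroup X)) := by
    have h1 : Nat.card ((P : Subgroup Y).map Y.subtype : Subgroup X) = Nat.card (P : Subgroup Y) :=
      Subgroup.card_map_of_injective Y.subtype_injective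
    rw [h1]
    obtain ⟨k, hk⟩ := IsPGroup.iff_card.mp P.isPGroup'
    rw [hk]
    have hrodd : Odd r := (Fact.out : r.Prime).odd_of_ne_two hr
    exact hrodd.pow
  have hN := odd_normalizer h _ hPcard hfix
  have hsup := Sylow.normalizer_sup_eq_top P
  have h2 : Y.index = Y.relIndex
      (Subgroup.normalizer (((P : Subgroup Y).map Y.subtype : Subgroup X) : Set X)) := by
    rw [← Subgroup.relIndex_top_right, ← hsup, Subgroup.relIndex_sup_right]
  intro h2dvd
  rw [h2] at h2dvd
  have h3 := dvd_trans h2dvd (Subgroup.relIndex_dvd_card Y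
      (Subgroup.normalizer (((P : Subgroup Y).map Y.subtype : Subgroup X) : Set X)))
  exact (Nat.not_even_iff_odd.mpr hN) (even_iff_two_dvd.mpr h3)

end Cfsg.Agent.Helper18.T97
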