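import Mathlib

/-! S3797 (helper18 design), outer block "Sylow part" (helper3).

From: `G` solvable, all involutions conjugate, every involution of the Sylow 2-subgroup `S` central
in `S`, derive the second conjunct of S3797: `S` homocyclic, or nonabelian with a solvable group of
automorphisms transitive on its involutions. -/

set_option autoImplicit false

namespace Cfsg.Agent.Helper3.T97Syl

/-- every element of `Multiplicative (ZMod k)` has `k`-th power one -/
theorem zmod_pow_self (k : ℕ) (g : Multiplicative (ZMod k)) : g ^ k = 1 := by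
  have h : k • (Multiplicative.toAdd g) = 0 := by
    rw [nsmul_eq_mul, ZMod.natCast_self, zero_mul]
  have h2 : g ^ k = Multiplicative.ofAdd (k • (Multiplicative.toAdd g)) := by
    rw [ofAdd_nsmul, ofAdd_toAdd]
  rw [h2, h, ofAdd_zero]

/-- a product of cyclic groups of exponent dividing `2^M` all of whose involutions are
`2^(M-1)`-th powers is homocyclic -/
theorem pi_zmod_key {ι : Type} [DecidableEq ι] (n : ι → ℕ) (hn : ∀ i, 1 < n i) (M : ℕ)
    (hM : ∀ a : ((i : ι) → Multiplicative (ZMod (n i))), a ^ (2 ^ M) = 1)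
    (hP : ∀ x : ((i : ι) → Multiplicative (ZMod (n i))), x ≠ 1 → x ^ 2 = 1 →
      ∃ w, w ^ (2 ^ (M - 1)) = x) :
    ∀ i, n i = 2 ^ M := by
  intro i
  -- `n i ∣ 2^M`
  have h1 : n i ∣ 2 ^ M := by
    have h2 := congrFun (hM (Pi.mulSingle i (Multiplicative.ofAdd (1 : ZMod (n i))))) i
    rw [Pi.pow_apply, Pi.mulSingle_eq_same, Pi.one_apply, ← ofAdd_nsmul, ofAdd_eq_one,
      nsmul_one] at h2
    exact (ZMod.natCast_eq_zero_iff _ _).mp h2
  obtain ⟨e, heM, hne⟩ := (Nat.dvd_prime_pow Nat.prime_two).mp h1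
  have he1 : 1 ≤ e := by
    rcases Nat.eq_zero_or_pos e with h | h
    · have := hn i
      rw [hne, h, pow_zero] at this
      omega
    · exact h
  by_contra hcon
  have heM' : e ≤ M - 1 := by
    have : e ≠ M := fun h => hcon (by rw [hne, h])
    omega
  -- the involution of the `i`-th factor
  set a : Multiplicative (ZMod (n i)) := Multiplicative.ofAdd (((2 ^ (e - 1) : ℕ)) : ZMod (n i))
    with ha
  have ha1 : a ≠ 1 := by
    rw [ha, Ne, ofAdd_eq_one, ZMod.natCast_eq_zero_iff, hne]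
    intro hdvd
    have h3 := Nat.le_of_dvd (pow_pos (by norm_num) _) hdvd
    have h4 : 2 ^ (e - 1) < 2 ^ e := Nat.pow_lt_pow_right (by norm_num) (by omega)
    omega
  have ha2 : a ^ 2 = 1 := by
    rw [ha, ← ofAdd_nsmul, ofAdd_eq_one, nsmul_eq_mul, ← Nat.cast_mul,
      ZMod.natCast_eq_zero_iff, hne]
    have : 2 * 2 ^ (e - 1) = 2 ^ e := by
      rw [← pow_succ']
      congr 1
      omega
    rw [this]
  have hx1 : Pi.mulSingle i a ≠ (1 : (i : ι) → Multiplicative (ZMod (n i))) := by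
    intro h
    apply ha1
    have := congrFun h i
    rwa [Pi.mulSingle_eq_same] at this
  have hx2 : (Pi.mulSingle i a : (i : ι) → Multiplicative (ZMod (n i))) ^ 2 = 1 := by
    rw [← Pi.mulSingle_pow, ha2, Pi.mulSingle_one]
  obtain ⟨w, hw⟩ := hP _ hx1 hx2
  have h5 := congrFun hw i
  rw [Pi.pow_apply, Pi.mulSingle_eq_same] at h5
  apply ha1
  rw [← h5]
  obtain ⟨c, hc⟩ : n i ∣ 2 ^ (M - 1) := by
    rw [hne]
    exact pow_dvd_pow 2 heM'
  rw [hc, pow_mul, zmod_pow_self, one_pow]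

/-- abstract homocyclic recognition: exponent dividing `2^M`, every involution a `2^(M-1)`-th
power -/
theorem homocyclic_of_pow {A : Type*} [CommGroup A] [Finite A] (M : ℕ)
    (hM : ∀ a : A, a ^ (2 ^ M) = 1)
    (hP : ∀ x : A, x ≠ 1 → x ^ 2 = 1 → ∃ w : A, w ^ (2 ^ (M - 1)) = x) :
    ∃ r : ℕ, Nonempty (A ≃* (Fin r → Multiplicative (ZMod (2 ^ M)))) := by
  classical
  obtain ⟨ι, _, n, hn, ⟨e⟩⟩ := CommGroup.equiv_prod_multiplicative_zmod_of_finite A
  have key : ∀ i, n i = 2 ^ M := by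
    apply pi_zmod_key n hn M
    · intro a
      have h1 := hM (e.symm a)
      rw [← map_pow] at h1
      have h2 : e (e.symm (a ^ 2 ^ M)) = e 1 := by rw [h1]
      rwa [MulEquiv.apply_symm_apply, map_one] at h2
    · intro x hx1 hx2
      have hx1' : e.symm x ≠ 1 := by
        intro h
        apply hx1
        have h2 : e (e.symm x) = e 1 := by rw [h]
        rwa [MulEquiv.apply_symm_apply, map_one] at h2
      obtain ⟨w, hw⟩ := hP (e.symm x) hx1' (by rw [← map_pow, hx2, map_one])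
      exact ⟨e w, by rw [← map_pow, hw, MulEquiv.apply_symm_apply]⟩
  have hn' : n = fun _ => 2 ^ M := funext key
  subst hn'
  exact ⟨Fintype.card ι,
    ⟨e.trans (MulEquiv.arrowCongr (Fintype.equivFin ι) (MulEquiv.refl _))⟩⟩

/-- an abelian `2`-group whose automorphism group is transitive on involutions is homocyclic -/
theorem homocyclic_of_trans {A : Type*} [CommGroup A] [Finite A] (h2 : IsPGroup 2 A)
    (hT : ∀ x y : A, x ≠ 1 → x ^ 2 = 1 → y ≠ 1 → y ^ 2 = 1 → ∃ α : MulAut A, α x = y) :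
    ∃ m r : ℕ, Nonempty (A ≃* (Fin r → Multiplicative (ZMod (2 ^ m)))) := by
  classical
  obtain ⟨z, hz⟩ := Finite.exists_max (fun a : A => orderOf a)
  obtain ⟨M, hM⟩ : ∃ M, orderOf z = 2 ^ M := (IsPGroup.iff_orderOf.mp h2) z
  have hall : ∀ a : A, a ^ (2 ^ M) = 1 := by
    intro a
    obtain ⟨j, hj⟩ := (IsPGroup.iff_orderOf.mp h2) a
    have hle := hz a
    rw [hj, hM] at hle
    have hjM : j ≤ M := (Nat.pow_le_pow_iff_right (by norm_num)).mp hle
    rw [← orderOf_dvd_iff_pow_eq_one, hj]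
    exact pow_dvd_pow 2 hjM
  refine ⟨M, homocyclic_of_pow M hall ?_⟩
  intro x hx1 hx2
  have hM1 : 1 ≤ M := by
    by_contra h
    have h0 : M = 0 := by omega
    apply hx1
    have := hall x
    rwa [h0, pow_zero, pow_one] at this
  have hy1 : z ^ (2 ^ (M - 1)) ≠ 1 := by
    intro h
    rw [← orderOf_dvd_iff_pow_eq_one, hM] at h
    have h3 := Nat.le_of_dvd (pow_pos (by norm_num) _) h
    have h4 : 2 ^ (M - 1) < 2 ^ M := Nat.pow_lt_pow_right (by norm_num) (by omega)
    omega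
  have hy2 : (z ^ (2 ^ (M - 1))) ^ 2 = 1 := by
    rw [← pow_mul, ← pow_succ]
    have : M - 1 + 1 = M := by omega
    rw [this]
    exact hall z
  obtain ⟨α, hα⟩ := hT _ x hy1 hy2 hx1 hx2
  exact ⟨α z, by rw [← map_pow, hα]⟩

open scoped IsMulCommutative in
/-- **Sylow part of S3797.** -/
theorem t97_sylow_part {G : Type*} [Group G] [Finite G] (hG : Group.IsSolvable G) (S : Sylow 2 G)
    (hconj : ∀ x y : G, x ≠ 1 → x ^ 2 = 1 → y ≠ 1 → y ^ 2 = 1 → IsConj x y)
    (hcent : ∀ x ∈ (S : Subgroup G), x ^ 2 = 1 →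
      x ∈ Subgroup.centralizer ((S : Subgroup G) : Set G)) :
    (∃ m r : ℕ, Nonempty (↥(S : Subgroup G) ≃* (Fin r → Multiplicative (ZMod (2 ^ m))))) ∨
    (¬ IsMulCommutative (S : Subgroup G) ∧ ∃ Y : Subgroup (MulAut ↥(S : Subgroup G)),
      Group.IsSolvable Y ∧
       ∀ x y : ↥(S : Subgroup G), x ≠ 1 → x ^ 2 = 1 → y ≠ 1 → y ^ 2 = 1 → ∃ a ∈ Y, a x = y) := by
  -- transitivity of `N_G(S)` on the involutions of `S`
  have htr : ∀ x y : ↥(S : Subgroup G), x ≠ 1 → x ^ 2 = 1 → y ≠ 1 → y ^ 2 = 1 →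
      ∃ a ∈ ((S : Subgroup G).normalizerMonoidHom).range, a x = y := by
    intro x y hx1 hx2 hy1 hy2
    have hx1' : (x : G) ≠ 1 := fun h => hx1 (Subtype.ext h)
    have hy1' : (y : G) ≠ 1 := fun h => hy1 (Subtype.ext h)
    have hx2' : (x : G) ^ 2 = 1 := by
      have := congrArg Subtype.val hx2
      simpa using this
    have hy2' : (y : G) ^ 2 = 1 := by
      have := congrArg Subtype.val hy2
      simpa using this
    obtain ⟨g, hg⟩ := isConj_iff.mp (hconj x y hx1' hx2' hy1' hy2')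
    have hxc := hcent x x.2 hx2'
    have hyc := hcent y y.2 hy2'
    obtain ⟨n, hn, hnx⟩ := S.conj_eq_normalizer_conj_of_mem_centralizer (x : G) g⁻¹ hxc
      (by rw [inv_inv, hg]; exact hyc)
    rw [inv_inv, hg] at hnx
    refine ⟨(S : Subgroup G).normalizerMonoidHom ⟨n⁻¹, inv_mem hn⟩, ⟨_, rfl⟩, ?_⟩
    apply Subtype.ext
    rw [hnx]
    show n⁻¹ * (x : G) * n⁻¹⁻¹ = n⁻¹ * (x : G) * n
    rw [inv_inv]
  by_cases hab : IsMulCommutative ↥(S : Subgroup G)
  · left
    apply homocyclic_of_trans S.isPGroup'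
    intro x y hx1 hx2 hy1 hy2
    obtain ⟨a, _, ha⟩ := htr x y hx1 hx2 hy1 hy2
    exact ⟨a, ha⟩
  · right
    refine ⟨hab, ((S : Subgroup G).normalizerMonoidHom).range, ?_, htr⟩
    exact Group.isSolvable_of_surjective (f := (S : Subgroup G).normalizerMonoidHom.rangeRestrict)
      (MonoidHom.rangeRestrict_surjective _)

end Cfsg.Agent.Helper3.T97Syl
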