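import Mathlib
import Cfsg.Agent.Lib.T97.T97Defs
import Cfsg.Agent.Lib.T97.T97SYL

/-! S3797 piece T97-HOMO (helper18 design; see plans/S3797_plan.md).  STUB: overwrite this file, keeping the
statement, the namespace and the imports (you may ADD imports of library files outside Lib/T97, or of
T97 files that are listed as dependencies).  Aux lemmas: fresh names with prefix `t97homo_`. -/

set_option autoImplicit false

namespace Cfsg.Agent.Helper18.T97

variable {X : Type*} [Group X]

/-- An abelian 2-group with automorphisms transitive on involutions is homocyclic.  Trivial `P`: `r = 0`.  Otherwise let `2^m = Monoid.exponent P` (`m ≥ 1`), `x₀` of order `2^m`; `i₀ := x₀^(2^(m-1))` is an involution and a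
`2^(m-1)`-th power; automorphisms preserve "being a `2^(m-1)`-th power", so by `htr` EVERY involution is a `2^(m-1)`-th power.  Mathlib `CommGroup.equiv_prod_multiplicative_zmod_of_finite` : `P ≃* ((i : ι) → Multiplicative (ZMod (n i)))`,
`1 < n i`; each `n i` divides `|P|` hence `n i = 2^(k i)`, `1 ≤ k i ≤ m`.  If `k i < m` the involution `e_i` (`2^(k i - 1)` in coordinate `i`, `0` elsewhere) is not a `2^(m-1)`-th power (coordinate `i` of a `2^(m-1)`-th power is
`2^(m-1) * c = 0` in `ZMod (2^(k i))`): contradiction.  So all `n i = 2^m`; reindex `ι ≃ Fin r` (`Fintype.equivFin`, `MulEquiv.piCongrLeft`-style). -/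
theorem homocyclic_of_trans {P : Type*} [Group P] [Finite P] (hP : IsPGroup 2 P)
    (hc : ∀ a b : P, a * b = b * a) (Yv : Subgroup (MulAut P))
    (htr : ∀ x y : P, x ≠ 1 → x ^ 2 = 1 → y ≠ 1 → y ^ 2 = 1 → ∃ a ∈ Yv, a x = y) :
    ∃ m r : ℕ, Nonempty (P ≃* (Fin r → Multiplicative (ZMod (2 ^ m)))) := by
  let _ : CommGroup P := { (inferInstance : Group P) with mul_comm := hc }
  apply Cfsg.Agent.Helper3.T97Syl.homocyclic_of_trans hP
  intro x y hx1 hx2 hy1 hy2
  obtain ⟨a, _, ha⟩ := htr x y hx1 hx2 hy1 hy2
  exact ⟨a, ha⟩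

end Cfsg.Agent.Helper18.T97
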