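import Mathlib
import Cfsg.Agent.Lib.T97.T97Defs
import Cfsg.Agent.Lib.Helper7.HupMain

/-! S3797 piece T97-HUP1 (helper18 design; see plans/S3797_plan.md).  STUB: overwrite this file, keeping the
statement, the namespace and the imports (you may ADD imports of library files outside Lib/T97, or of
T97 files that are listed as dependencies).  Aux lemmas: fresh names with prefix `t97hup1_`. -/

set_option autoImplicit false

namespace Cfsg.Agent.Helper18.T97

/-- Huppert's theorem for a solvable group acting transitively on the non-identity elements of an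
elementary abelian `2`-group (abstract form). -/
theorem t97hup1_aux {A : Type*} [CommGroup A] [Finite A] (h2 : ∀ a : A, a ^ 2 = 1)
    (n : ℕ) (hn1 : 1 ≤ n) (hcard : Nat.card A = 2 ^ n)
    {X : Type*} [Group X] (hsol : Group.IsSolvable X) (φ : X →* MulAut A)
    (htr : ∀ a b : A, a ≠ 1 → b ≠ 1 → ∃ g : X, φ g a = b) :
    ∃ (F : Type) (_ : Field F) (_ : Fintype F) (e : Additive A ≃+ F),
      ∀ x : X, ∃ (a : F) (σ : F ≃+* F), ∀ v : A,
        e (Additive.ofMul (φ x v)) = a * σ (e (Additive.ofMul v)) := by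
  classical
  haveI : Fact (Nat.Prime 2) := ⟨Nat.prime_two⟩
  letI : Module (ZMod 2) (Additive A) := AddCommGroup.zmodModule (n := 2) (by
    intro x
    have h := h2 (Additive.toMul x)
    exact congrArg Additive.ofMul h)
  haveI : Finite (Additive A) := inferInstanceAs (Finite A)
  haveI : Nontrivial (Additive A) := by
    apply (Finite.one_lt_card_iff_nontrivial).1
    have h1 : Nat.card (Additive A) = Nat.card A := rfl
    rw [h1, hcard]
    exact Nat.one_lt_pow (by omega) (by norm_num)
  -- the representation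
  let ρ : X →* (Additive A ≃ₗ[ZMod 2] Additive A) :=
    { toFun := fun x =>
        { (MulEquiv.toAdditive (φ x)) with
          map_smul' := fun c v => ZMod.map_smul (MulEquiv.toAdditive (φ x)) c v }
      map_one' := by
        apply LinearEquiv.ext
        intro v
        show Additive.ofMul (φ 1 (Additive.toMul v)) = v
        rw [map_one]
        rfl
      map_mul' := by
        intro x y
        apply LinearEquiv.ext
        intro v
        show Additive.ofMul (φ (x * y) (Additive.toMul v)) =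
          Additive.ofMul (φ x (Additive.toMul (Additive.ofMul (φ y (Additive.toMul v)))))
        rw [map_mul]
        rfl }
  have hρ : ∀ (x : X) (v : Additive A), ρ x v = Additive.ofMul (φ x (Additive.toMul v)) :=
    fun _ _ => rfl
  have hsolH : Group.IsSolvable ρ.range :=
    Group.isSolvable_of_surjective (f := ρ.rangeRestrict) ρ.rangeRestrict_surjective
  have htrH : Cfsg.Agent.Helper7.Hup.Trans ρ.range := by
    intro v w hv hw
    have hv1 : Additive.toMul v ≠ 1 := fun h => hv (by rw [← ofMul_toMul v, h]; rfl)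
    have hw1 : Additive.toMul w ≠ 1 := fun h => hw (by rw [← ofMul_toMul w, h]; rfl)
    obtain ⟨g, hg⟩ := htr _ _ hv1 hw1
    refine ⟨⟨ρ g, ⟨g, rfl⟩⟩, ?_⟩
    show ρ g v = w
    rw [hρ, hg]
    rfl
  rcases Cfsg.Agent.Helper7.Hup.huppert (p := 2) ρ.range hsolH htrH with
    ⟨F, iF, iFt, e, he⟩ | hbad
  · refine ⟨F, iF, iFt, e, ?_⟩
    intro x
    obtain ⟨a, σ, h⟩ := he ⟨ρ x, ⟨x, rfl⟩⟩
    refine ⟨a, σ, ?_⟩
    intro v
    have h3 := h (Additive.ofMul v)
    exact h3
  · exfalso
    have h1 : Nat.card (Additive A) = Nat.card A := rfl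
    rw [h1, hcard] at hbad
    have heven : 2 ∣ 2 ^ n := dvd_pow_self 2 (by omega)
    simp only [Set.mem_insert_iff, Set.mem_singleton_iff] at hbad
    rcases hbad with h | h | h | h | h | h <;> rw [h] at heven <;> omega

variable {X : Type*} [Group X]

/-- Huppert interface.  Make `V := Additive ↥E` a `ZMod 2`-vector space (`CommGroup ↥E` from `hc` via
`{ (inferInstance : Group ↥E) with mul_comm := ... }`, then `AddCommGroup.zmodModule` from `h2`), let `ρ : X →* (V ≃ₗ[ZMod 2] V)`
be conjugation (`conjN E x`), `H := ρ.range`: solvable (quotient of `X`), `Cfsg.Agent.Helper7.Hup.Trans H` from `htr`,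
`Nontrivial V` from `hcard`, `hn1`.  Apply `Cfsg.Agent.Helper7.Hup.huppert (p := 2) H` (Lib/Helper7/HupMain.lean): the second
alternative `Nat.card V ∈ {9,25,49,121,529,81}` is impossible since `Nat.card V = 2^n` is even or 1.  (See Lib/Helper14/SAMain.lean
line ~96 for a use of `huppert`.) -/
theorem semilinear [Finite X] (hsol : Group.IsSolvable X) (E : Subgroup X) [hn : E.Normal]
    (hc : ∀ a ∈ E, ∀ b ∈ E, a * b = b * a) (h2 : ∀ a ∈ E, a ^ 2 = 1) (n : ℕ) (hn1 : 1 ≤ n)
    (hcard : Nat.card E = 2 ^ n)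
    (htr : ∀ a ∈ E, ∀ b ∈ E, a ≠ 1 → b ≠ 1 → ∃ g : X, g * a * g⁻¹ = b) :
    ∃ (F : Type) (_ : Field F) (_ : Fintype F) (e : Additive ↥E ≃+ F),
      ∀ x : X, ∃ (a : F) (σ : F ≃+* F), ∀ v : ↥E,
        e (Additive.ofMul (conjN E x v)) = a * σ (e (Additive.ofMul v)) := by
  classical
  letI iC : CommGroup ↥E :=
    { (inferInstance : Group ↥E) with
      mul_comm := fun a b => Subtype.ext (hc a.1 a.2 b.1 b.2) }
  have h2' : ∀ a : ↥E, a ^ 2 = 1 := fun a => Subtype.ext (by
    rw [Subgroup.coe_pow, Subgroup.coe_one]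
    exact h2 a.1 a.2)
  have htr' : ∀ a b : ↥E, a ≠ 1 → b ≠ 1 → ∃ g : X, (MulAut.conjNormal g : MulAut ↥E) a = b := by
    intro a b ha hb
    have ha1 : (a : X) ≠ 1 := fun h => ha (Subtype.ext h)
    have hb1 : (b : X) ≠ 1 := fun h => hb (Subtype.ext h)
    obtain ⟨g, hg⟩ := htr a.1 a.2 b.1 b.2 ha1 hb1
    refine ⟨g, Subtype.ext ?_⟩
    rw [MulAut.conjNormal_apply]
    exact hg
  obtain ⟨F, iF, iFt, e, he⟩ :=
    t97hup1_aux (A := ↥E) h2' n hn1 hcard hsol (MulAut.conjNormal : X →* MulAut ↥E) htr'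
  refine ⟨F, iF, iFt, e, ?_⟩
  intro x
  obtain ⟨a, σ, h⟩ := he x
  refine ⟨a, σ, ?_⟩
  intro v
  have h3 := h v
  have h4 : (MulAut.conjNormal x : MulAut ↥E) v = conjN E x v := Subtype.ext (by
    rw [MulAut.conjNormal_apply]
    rfl)
  rw [h4] at h3
  exact h3

end Cfsg.Agent.Helper18.T97
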