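import Mathlib
import Cfsg.Agent.Lib.T97.T97Defs

/-! S3797 piece T97-IND (helper18 design; see plans/S3797_plan.md).  STUB: overwrite this file, keeping the
statement, the namespace and the imports (you may ADD imports of library files outside Lib/T97, or of
T97 files that are listed as dependencies).  Aux lemmas: fresh names with prefix `t97ind_`. -/

set_option autoImplicit false

namespace Cfsg.Agent.Helper18.T97

variable {X : Type*} [Group X]

/-- elements of the join of two elementwise commuting subgroups are products -/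
theorem t97ind_mem_sup {H K : Subgroup X} (hc : ∀ h ∈ H, ∀ k ∈ K, h * k = k * h) {x : X}
    (hx : x ∈ H ⊔ K) : ∃ h ∈ H, ∃ k ∈ K, x = h * k := by
  rw [Subgroup.sup_eq_closure] at hx
  induction hx using Subgroup.closure_induction with
  | mem y hy =>
    rcases hy with hy | hy
    · exact ⟨y, hy, 1, K.one_mem, by simp⟩
    · exact ⟨1, H.one_mem, y, hy, by simp⟩
  | one => exact ⟨1, H.one_mem, 1, K.one_mem, by simp⟩
  | mul a b _ _ iha ihb =>
    obtain ⟨h1, hh1, k1, hk1, rfl⟩ := iha
    obtain ⟨h2, hh2, k2, hk2, rfl⟩ := ihb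
    refine ⟨h1 * h2, H.mul_mem hh1 hh2, k1 * k2, K.mul_mem hk1 hk2, ?_⟩
    have := hc h2 hh2 k1 hk1
    calc h1 * k1 * (h2 * k2) = h1 * (k1 * h2) * k2 := by group
      _ = h1 * (h2 * k1) * k2 := by rw [this]
      _ = h1 * h2 * (k1 * k2) := by group
  | inv a _ iha =>
    obtain ⟨h1, hh1, k1, hk1, rfl⟩ := iha
    refine ⟨h1⁻¹, H.inv_mem hh1, k1⁻¹, K.inv_mem hk1, ?_⟩
    have := hc h1 hh1 k1 hk1
    rw [mul_inv_rev]
    have e : k1⁻¹ * h1⁻¹ = (h1 * k1)⁻¹ := by group
    have e' : h1⁻¹ * k1⁻¹ = (k1 * h1)⁻¹ := by group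
    rw [e, e', this]

/-- Eigenvectors with distinct characters are independent.  Let `ψ : (Fin m → ZMod r) → X`, `c ↦ ∏ i, z i ^ (c i).val` (a "homomorphism" into the commutative
subgroup `closure (range z)`); it suffices to show `ψ` injective on exponent vectors (then `r^m = card (Fin m → ZMod r) ≤ card closure`).  Show: if `∏ i, z i ^ a i = 1`
then every `z i ^ a i = 1` — by strong induction on the number of `i` with `z i ^ a i ≠ 1`: if there are two such indices `i ≠ j`, conjugate the relation by the `g` of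
`hsep i j` (inverts `z i`, fixes `z j`, each other `z k` fixed or inverted) and multiply with the original relation: `∏_{k fixed by g} z k ^ (2 * a k) = 1`, a relation with
fewer nontrivial terms (the term `i` is gone, the term `j` survives since `r` is odd), so by induction `z j ^ (2 a j) = 1`, hence `z j ^ a j = 1`: contradiction.  One nontrivial
term is impossible. -/
theorem independent_eigen [Finite X] (r : ℕ) [Fact r.Prime] (hr2 : r ≠ 2) (m : ℕ) (z : Fin m → X)
    (hcomm : ∀ i j, z i * z j = z j * z i) (h1 : ∀ i, z i ≠ 1) (hr : ∀ i, z i ^ r = 1)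
    (hsep : ∀ i j, i ≠ j → ∃ g : X, g * z i * g⁻¹ = (z i)⁻¹ ∧ g * z j * g⁻¹ = z j ∧
      ∀ k, g * z k * g⁻¹ = z k ∨ g * z k * g⁻¹ = (z k)⁻¹) :
    r ^ m ≤ Nat.card (Subgroup.closure (Set.range z)) := by
  classical
  obtain ⟨A, hAdef⟩ : ∃ A : Subgroup X, A = Subgroup.closure (Set.range z) := ⟨_, rfl⟩
  rw [← hAdef]
  -- A is commutative
  have hAc : ∀ u ∈ A, ∀ v ∈ A, u * v = v * u := by
    intro u hu v hv
    have hcomm' : ∀ x ∈ Set.range z, ∀ y ∈ Set.range z, x * y = y * x := by
      rintro _ ⟨i, rfl⟩ _ ⟨j, rfl⟩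
      exact hcomm i j
    have hI := Subgroup.isMulCommutative_closure hcomm'
    rw [hAdef] at hu hv
    have := hI.is_comm.comm ⟨u, hu⟩ ⟨v, hv⟩
    exact congrArg Subtype.val this
  have hzA : ∀ i, Subgroup.zpowers (z i) ≤ A := by
    intro i
    rw [Subgroup.zpowers_le, hAdef]
    exact Subgroup.subset_closure ⟨i, rfl⟩
  -- orders
  have hord : ∀ i, orderOf (z i) = r := fun i => orderOf_eq_prime (hr i) (h1 i)
  have hodd : ∀ i, ∀ x ∈ Subgroup.zpowers (z i), x ^ 2 = 1 → x = 1 := by
    intro i x hx hx2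
    obtain ⟨k, rfl⟩ := Subgroup.mem_zpowers_iff.mp hx
    have h1' : ((z i) ^ k) ^ r = 1 := by
      rw [← zpow_natCast, ← zpow_mul, mul_comm, zpow_mul, zpow_natCast, hr i, one_zpow]
    have ho1 : orderOf ((z i) ^ k) ∣ r := orderOf_dvd_of_pow_eq_one h1'
    have ho2 : orderOf ((z i) ^ k) ∣ 2 := orderOf_dvd_of_pow_eq_one hx2
    have hcop : Nat.Coprime r 2 := by
      rw [Nat.coprime_comm, Nat.Prime.coprime_iff_not_dvd Nat.prime_two]
      intro h2
      have := (Nat.prime_dvd_prime_iff_eq Nat.prime_two (Fact.out : r.Prime)).mp h2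
      exact hr2 this.symm
    exact orderOf_eq_one_iff.mp (Nat.eq_one_of_dvd_coprimes hcop ho1 ho2)
  -- the key disjointness, by induction on a finset of indices
  have key : ∀ (j : Fin m) (s : Finset (Fin m)), j ∉ s → ∀ x ∈ Subgroup.zpowers (z j),
      x ∈ (⨆ i ∈ s, Subgroup.zpowers (z i)) → x = 1 := by
    intro j s
    induction s using Finset.induction_on with
    | empty =>
      intro _ x _ hx
      simpa using hx
    | insert i₀ s hi₀ ih =>
      intro hj x hxj hx
      have hji : i₀ ≠ j := by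
        rintro rfl
        exact hj (Finset.mem_insert_self _ _)
      have hjs : j ∉ s := fun h => hj (Finset.mem_insert_of_mem h)
      rw [Finset.iSup_insert] at hx
      have hBA : (⨆ i ∈ s, Subgroup.zpowers (z i)) ≤ A :=
        iSup₂_le fun i _ => hzA i
      obtain ⟨c, hc, b, hb, hxcb⟩ := t97ind_mem_sup
        (fun h hh k hk => hAc h (hzA i₀ hh) k (hBA hk)) hx
      obtain ⟨g, hg1, hg2, hg3⟩ := hsep i₀ j hji
      -- conjugation by g
      have hgx : g * x * g⁻¹ = x := by
        obtain ⟨k, rfl⟩ := Subgroup.mem_zpowers_iff.mp hxj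
        have : g * (z j) ^ k * g⁻¹ = (g * z j * g⁻¹) ^ k := by
          simp [conj_zpow]
        rw [this, hg2]
      have hgc : g * c * g⁻¹ = c⁻¹ := by
        obtain ⟨k, rfl⟩ := Subgroup.mem_zpowers_iff.mp hc
        have : g * (z i₀) ^ k * g⁻¹ = (g * z i₀ * g⁻¹) ^ k := by
          simp [conj_zpow]
        rw [this, hg1, inv_zpow]
      have hgb : g * b * g⁻¹ ∈ (⨆ i ∈ s, Subgroup.zpowers (z i)) := by
        have hmap : (⨆ i ∈ s, Subgroup.zpowers (z i)).map (MulAut.conj g).toMonoidHom ≤
            (⨆ i ∈ s, Subgroup.zpowers (z i)) := by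
          rw [Subgroup.map_iSup]
          refine iSup_le fun i => ?_
          rw [Subgroup.map_iSup]
          refine iSup_le fun hi => ?_
          rw [MonoidHom.map_zpowers]
          have hle : Subgroup.zpowers ((MulAut.conj g).toMonoidHom (z i)) ≤
              Subgroup.zpowers (z i) := by
            rw [Subgroup.zpowers_le]
            show g * z i * g⁻¹ ∈ Subgroup.zpowers (z i)
            rcases hg3 i with h | h
            · rw [h]; exact Subgroup.mem_zpowers _
            · rw [h]; exact Subgroup.inv_mem _ (Subgroup.mem_zpowers _)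
          exact hle.trans (le_iSup₂ (f := fun i _ => Subgroup.zpowers (z i)) i hi)
        exact hmap ⟨b, hb, rfl⟩
      -- x^2 = b * (g b g⁻¹)
      have hx2 : x ^ 2 = b * (g * b * g⁻¹) := by
        have e1 : x = c⁻¹ * (g * b * g⁻¹) := by
          calc x = g * x * g⁻¹ := hgx.symm
            _ = (g * c * g⁻¹) * (g * b * g⁻¹) := by rw [hxcb]; group
            _ = c⁻¹ * (g * b * g⁻¹) := by rw [hgc]
        have hcb : c * b = b * c := hAc c (hzA i₀ hc) b (hBA hb)
        calc x ^ 2 = x * x := pow_two x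
          _ = (c * b) * (c⁻¹ * (g * b * g⁻¹)) := by nth_rewrite 1 [hxcb]; nth_rewrite 1 [e1]; rfl
          _ = (b * c) * (c⁻¹ * (g * b * g⁻¹)) := by rw [hcb]
          _ = b * (g * b * g⁻¹) := by group
      have hx2j : x ^ 2 ∈ Subgroup.zpowers (z j) := Subgroup.pow_mem _ hxj 2
      have hx2s : x ^ 2 ∈ (⨆ i ∈ s, Subgroup.zpowers (z i)) := by
        rw [hx2]; exact Subgroup.mul_mem _ hb hgb
      have := ih hjs (x ^ 2) hx2j hx2s
      exact hodd j x hxj this
  -- independence
  have hind : iSupIndep (fun i => Subgroup.zpowers (z i)) := by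
    intro j
    rw [Subgroup.disjoint_def]
    intro x hxj hx
    apply key j (Finset.univ.erase j) (Finset.notMem_erase j _) x hxj
    have hle : (⨆ (i : Fin m) (_ : i ≠ j), Subgroup.zpowers (z i)) ≤
        ⨆ i ∈ Finset.univ.erase j, Subgroup.zpowers (z i) := by
      refine iSup₂_le fun i hi => ?_
      exact le_iSup₂ (f := fun i _ => Subgroup.zpowers (z i)) i
        (Finset.mem_erase.mpr ⟨hi, Finset.mem_univ i⟩)
    exact hle hx
  -- the injective product map
  have hcommP : Pairwise fun i j : Fin m => ∀ x y : X, x ∈ Subgroup.zpowers (z i) →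
      y ∈ Subgroup.zpowers (z j) → Commute x y := by
    intro i j _ x y hx hy
    exact hAc x (hzA i hx) y (hzA j hy)
  have hinj := Subgroup.injective_noncommPiCoprod_of_iSupIndep (hcomm := hcommP) hind
  have hrange : ∀ c, Subgroup.noncommPiCoprod hcommP c ∈ A := by
    intro c
    have h1 : Subgroup.noncommPiCoprod hcommP c ∈ (Subgroup.noncommPiCoprod hcommP).range :=
      ⟨c, rfl⟩
    rw [Subgroup.noncommPiCoprod_range] at h1
    exact (iSup_le hzA) h1
  have hle : Nat.card (∀ i : Fin m, Subgroup.zpowers (z i)) ≤ Nat.card A :=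
    Nat.card_le_card_of_injective (fun c => (⟨Subgroup.noncommPiCoprod hcommP c, hrange c⟩ : A))
      (fun c d hcd => hinj (congrArg Subtype.val hcd))
  have hcard : Nat.card (∀ i : Fin m, Subgroup.zpowers (z i)) = r ^ m := by
    rw [Nat.card_pi]
    simp [Nat.card_zpowers, hord]
  rw [← hcard]
  exact hle

end Cfsg.Agent.Helper18.T97
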