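import Mathlib
import Cfsg.Agent.Lib.T97.T97Defs
import Cfsg.Agent.Lib.Helper14.GAG39PCQ
import Cfsg.Agent.Lib.Helper16.Solvable2
import Cfsg.Agent.Lib.Helper7.Bender
import Cfsg.Agent.Lib.Helper10.Cores

/-! S3797 piece T97-KR (helper18 design; see plans/S3797_plan.md). -/

set_option autoImplicit false

namespace Cfsg.Agent.Helper18.T97

variable {X : Type*} [Group X]

/-- `R = O_2(X)` under the set-up. -/
theorem t97kr_R_eq_pCore {R : Subgroup X} (h : Setup R) : R = Cfsg.pCore 2 X := by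
  haveI : Fact (Nat.Prime 2) := ⟨Nat.prime_two⟩
  apply le_antisymm
  · exact le_sSup ⟨h.Rn, h.R2⟩
  · exact sSup_le fun Q hQ => h.Rmax Q hQ.1 hQ.2

/-- A 2-power part of an element: if `x` maps to an involution in a quotient, a 2-element maps to the same involution. -/
theorem t97kr_two_part [Finite X] {Y : Type*} [Group Y] (φ : X →* Y) (t₀ : X) (hq : φ t₀ ^ 2 = 1) :
    ∃ t : X, (∃ j : ℕ, orderOf t = 2 ^ j) ∧ φ t = φ t₀ := by
  have hpos : 0 < orderOf t₀ := orderOf_pos t₀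
  obtain ⟨a, b, hb, hab⟩ := Nat.exists_eq_two_pow_mul_odd (n := orderOf t₀) hpos.ne'
  refine ⟨t₀ ^ b, ?_, ?_⟩
  · have h1 : (t₀ ^ b) ^ (2 ^ a) = 1 := by
      rw [← pow_mul, mul_comm, ← hab]; exact pow_orderOf_eq_one t₀
    have h2 : orderOf (t₀ ^ b) ∣ 2 ^ a := orderOf_dvd_of_pow_eq_one h1
    obtain ⟨j, -, hj⟩ := (Nat.dvd_prime_pow Nat.prime_two).1 h2
    exact ⟨j, hj⟩
  · rw [map_pow]
    obtain ⟨c, hc⟩ := hb
    rw [hc, pow_succ, pow_mul, hq, one_pow, one_mul]

theorem exists_KR [Finite X] {R : Subgroup X} (h : Setup R) (hev : 2 ∣ R.index) :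
    ∃ (r : ℕ) (K : Subgroup X), r.Prime ∧ r ≠ 2 ∧ K.Normal ∧ R ≤ K ∧
      (∃ m : ℕ, R.relIndex K = r ^ m) ∧
      ∃ t k : X, (∃ j : ℕ, orderOf t = 2 ^ j) ∧ k ∈ K ∧ t * k * t⁻¹ * k⁻¹ ∉ R := by
  classical
  haveI : Fact (Nat.Prime 2) := ⟨Nat.prime_two⟩
  haveI := h.Rn
  haveI := h.sol
  have hcore : R = Cfsg.pCore 2 X := t97kr_R_eq_pCore h
  have hbot : Cfsg.pCore 2 (X ⧸ R) = ⊥ :=
    Cfsg.Agent.Helper21.GAG39.pCore_quotient_eq_bot R h.R2 hcore
  have hsolq : Group.IsSolvable (X ⧸ R) := inferInstance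
  have hCF := Cfsg.Agent.Helper16.centralizer_fittingSubgroup_le_of_isSolvable hsolq
  -- an involution of the quotient
  have hcard : 2 ∣ Nat.card (X ⧸ R) := by
    rw [← Subgroup.index_eq_card]; exact hev
  obtain ⟨tq, htq⟩ := exists_prime_orderOf_dvd_card' 2 hcard
  have htq2 : tq ^ 2 = 1 := by rw [← htq]; exact pow_orderOf_eq_one tq
  have htq1 : tq ≠ 1 := by
    intro h1; rw [h1, orderOf_one] at htq; omega
  have htqF : tq ∉ Cfsg.fittingSubgroup (X ⧸ R) := by
    intro hx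
    have := Cfsg.Agent.Helper7.mem_pCore_of_mem_fittingSubgroup 2 hx ⟨1, by simpa using htq2⟩
    rw [hbot, Subgroup.mem_bot] at this
    exact htq1 this
  have htqC : tq ∉ Subgroup.centralizer (Cfsg.fittingSubgroup (X ⧸ R) : Set (X ⧸ R)) :=
    fun hx => htqF (hCF hx)
  -- some prime r with tq not centralizing pCore r
  have hex : ∃ r : Nat.Primes, ∃ f ∈ Cfsg.pCore (r : ℕ) (X ⧸ R), f * tq ≠ tq * f := by
    by_contra hno
    push Not at hno
    apply htqC
    rw [Cfsg.Agent.Helper7.fittingSubgroup_eq_iSup_pCore]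
    have hle : (⨆ r : Nat.Primes, Cfsg.pCore (r : ℕ) (X ⧸ R)) ≤
        Subgroup.centralizer ({tq} : Set (X ⧸ R)) := by
      apply iSup_le
      intro r f hf
      rw [Subgroup.mem_centralizer_iff]
      intro y hy
      rw [Set.mem_singleton_iff] at hy
      subst hy
      exact (hno r f hf).symm
    rw [Subgroup.mem_centralizer_iff]
    intro f hf
    have := hle hf
    rw [Subgroup.mem_centralizer_iff] at this
    exact (this tq rfl).symm
  obtain ⟨r, f, hf, hne⟩ := hex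
  have hr2 : (r : ℕ) ≠ 2 := by
    intro h2
    rw [h2, hbot, Subgroup.mem_bot] at hf
    apply hne; rw [hf]; simp
  haveI : Fact (r : ℕ).Prime := ⟨r.2⟩
  set Q : Subgroup (X ⧸ R) := Cfsg.pCore (r : ℕ) (X ⧸ R) with hQ
  have hQn : Q.Normal := Cfsg.Agent.Helper10.pCore_normal _
  have hQp : IsPGroup (r : ℕ) Q := Cfsg.Agent.Helper10.pCore_isPGroup _
  refine ⟨r, Q.comap (QuotientGroup.mk' R), r.2, hr2, ?_, ?_, ?_, ?_⟩
  · exact hQn.comap _
  · intro x hx
    rw [Subgroup.mem_comap]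
    have : (QuotientGroup.mk' R) x = 1 := by
      rw [QuotientGroup.mk'_apply, QuotientGroup.eq_one_iff]; exact hx
    rw [this]; exact Q.one_mem
  · obtain ⟨m, hm⟩ := (IsPGroup.iff_card).1 hQp
    refine ⟨m, ?_⟩
    have hR : (⊥ : Subgroup (X ⧸ R)).comap (QuotientGroup.mk' R) = R := by
      ext x
      rw [Subgroup.mem_comap, Subgroup.mem_bot, QuotientGroup.mk'_apply, QuotientGroup.eq_one_iff]
    have hsurj : Function.Surjective (QuotientGroup.mk' R) := QuotientGroup.mk'_surjective R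
    calc R.relIndex (Q.comap (QuotientGroup.mk' R))
        = ((⊥ : Subgroup (X ⧸ R)).comap (QuotientGroup.mk' R)).relIndex
            (Q.comap (QuotientGroup.mk' R)) := by rw [hR]
      _ = (r : ℕ) ^ m := by
        rw [Subgroup.relIndex_comap, Subgroup.map_comap_eq_self_of_surjective hsurj,
          Subgroup.relIndex_bot_left, hm]
  · obtain ⟨t₀, ht₀⟩ := QuotientGroup.mk'_surjective R tq
    obtain ⟨k, hk⟩ := QuotientGroup.mk'_surjective R f
    obtain ⟨t, ht, hte⟩ := t97kr_two_part (QuotientGroup.mk' R) t₀ (by rw [ht₀]; exact htq2)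
    refine ⟨t, k, ht, ?_, ?_⟩
    · rw [Subgroup.mem_comap, hk]; exact hf
    · intro hmem
      have h1 : (QuotientGroup.mk' R) (t * k * t⁻¹ * k⁻¹) = 1 := by
        rw [QuotientGroup.mk'_apply, QuotientGroup.eq_one_iff]; exact hmem
      rw [map_mul, map_mul, map_mul, map_inv, map_inv, hte, ht₀, hk] at h1
      apply hne
      have h2 : tq * f * tq⁻¹ = f := mul_inv_eq_one.1 h1
      calc f * tq = (tq * f * tq⁻¹) * tq := by rw [h2]
        _ = tq * f := by group

end Cfsg.Agent.Helper18.T97
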