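import Mathlib
import Cfsg.Agent.Lib.T97.T97Defs

/-! S3797 piece T97-LIFT (helper18 design; see plans/S3797_plan.md).  STUB: overwrite this file, keeping the
statement, the namespace and the imports (you may ADD imports of library files outside Lib/T97, or of
T97 files that are listed as dependencies).  Aux lemmas: fresh names with prefix `t97lift_`. -/

set_option autoImplicit false

namespace Cfsg.Agent.Helper18.T97

variable {X : Type*} [Group X]

/-- Involutions lift modulo a normal subgroup of odd order.  Pick `g₀ ↦ x`; `orderOf g₀ = 2^a * b` with `b` odd; `g := g₀^b` maps to `x^b = x` (`b` odd, `x^2 = 1`) and has 2-power order;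
`g^2 ↦ x^2 = 1`, so `g^2 ∈ K` has 2-power order in a group of odd order: `g^2 = 1`; `g ≠ 1` since its image is `x ≠ 1`. -/
theorem exists_invol_lift {G : Type*} [Group G] [Finite G] (K : Subgroup G) [K.Normal]
    (hK : Odd (Nat.card K)) (x : G ⧸ K) (hx1 : x ≠ 1) (hx2 : x ^ 2 = 1) :
    ∃ g : G, g ≠ 1 ∧ g ^ 2 = 1 ∧ (QuotientGroup.mk g : G ⧸ K) = x := by
  obtain ⟨g, rfl⟩ := QuotientGroup.mk'_surjective K x
  obtain ⟨k, hk⟩ := hK
  have hg2 : g ^ 2 ∈ K := by
    have h : QuotientGroup.mk' K (g ^ 2) = 1 := by rw [map_pow]; exact hx2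
    exact (QuotientGroup.eq_one_iff _).mp h
  have hmk : QuotientGroup.mk' K (g ^ Nat.card K) = QuotientGroup.mk' K g := by
    rw [map_pow, hk, pow_succ, pow_mul, hx2, one_pow, one_mul]
  refine ⟨g ^ Nat.card K, ?_, ?_, hmk⟩
  · intro h
    rw [h, map_one] at hmk
    exact hx1 hmk.symm
  · rw [← pow_mul, mul_comm, pow_mul]
    have h : (⟨g ^ 2, hg2⟩ : K) ^ Nat.card K = 1 := pow_card_eq_one'
    have h' : ((⟨g ^ 2, hg2⟩ : K) ^ Nat.card K : K).1 = (1 : K).1 := by rw [h]
    rw [Subgroup.coe_pow] at h'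
    exact h'

end Cfsg.Agent.Helper18.T97
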