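import Mathlib
import Cfsg.Agent.Lib.T97.T97Defs

/-! S3797 piece T97-MIN (helper18 design; see plans/S3797_plan.md). -/

set_option autoImplicit false

namespace Cfsg.Agent.Helper18.T97

variable {X : Type*} [Group X]

/-- Finiteness: among the subgroups `M ≤ N` normalised by `T` and `D` and not centralised by `T` (nonempty: `N` itself) pick a minimal one
(`Set.Finite.exists_minimal` / well-foundedness of `<` on `Subgroup X`, `Finite (Subgroup X)`). -/
theorem exists_min [Finite X] (N T D : Subgroup X) (hTN : T ≤ Subgroup.normalizer (N : Set X))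
    (hDN : D ≤ Subgroup.normalizer (N : Set X)) (hTnc : ¬ T ≤ Subgroup.centralizer (N : Set X)) :
    ∃ N₀ : Subgroup X, N₀ ≤ N ∧ T ≤ Subgroup.normalizer (N₀ : Set X) ∧
      D ≤ Subgroup.normalizer (N₀ : Set X) ∧ ¬ T ≤ Subgroup.centralizer (N₀ : Set X) ∧
      ∀ M : Subgroup X, M < N₀ → T ≤ Subgroup.normalizer (M : Set X) →
        D ≤ Subgroup.normalizer (M : Set X) → T ≤ Subgroup.centralizer (M : Set X) := by
  classical
  let S : Set (Subgroup X) := {M | M ≤ N ∧ T ≤ Subgroup.normalizer (M : Set X) ∧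
    D ≤ Subgroup.normalizer (M : Set X) ∧ ¬ T ≤ Subgroup.centralizer (M : Set X)}
  have hne : S.Nonempty := ⟨N, le_refl N, hTN, hDN, hTnc⟩
  have hwf : WellFounded ((· < ·) : Subgroup X → Subgroup X → Prop) := wellFounded_lt
  obtain ⟨h1, h2, h3, h4⟩ := hwf.min_mem S hne
  refine ⟨hwf.min S hne, h1, h2, h3, h4, ?_⟩
  intro M hM hTM hDM
  by_contra hnc
  exact hwf.not_lt_min S (x := M) ⟨hM.le.trans h1, hTM, hDM, hnc⟩ hM

end Cfsg.Agent.Helper18.T97
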