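import Mathlib
import Cfsg.Agent.Lib.T97.T97Defs

/-! S3797 piece T97-MINA (helper18 design; see plans/S3797_plan.md).  Proved by helper2. -/

set_option autoImplicit false

namespace Cfsg.Agent.Helper18.T97

variable {X : Type*} [Group X]

/-- conjugation by an element of the normaliser, as an automorphism of the subgroup -/
def t97mina_conj (N₀ : Subgroup X) (g : X) (hg : g ∈ Subgroup.normalizer (N₀ : Set X)) :
    ↥N₀ ≃* ↥N₀ where
  toFun x := ⟨g * x * g⁻¹, (Subgroup.mem_normalizer_iff.mp hg x).mp x.2⟩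
  invFun x := ⟨g⁻¹ * x * g, by
    apply (Subgroup.mem_normalizer_iff.mp hg (g⁻¹ * x * g)).mpr
    have e : g * (g⁻¹ * (x : X) * g) * g⁻¹ = x := by group
    rw [e]; exact x.2⟩
  left_inv x := by
    apply Subtype.ext
    show g⁻¹ * (g * (x : X) * g⁻¹) * g = x
    group
  right_inv x := by
    apply Subtype.ext
    show g * (g⁻¹ * (x : X) * g) * g⁻¹ = x
    group
  map_mul' x y := by
    apply Subtype.ext
    show g * ((x : X) * y) * g⁻¹ = (g * x * g⁻¹) * (g * y * g⁻¹)
    group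

/-- conjugation by an element normalising `N₀` maps `PhiOf N₀` into itself -/
theorem t97mina_conj_mem (N₀ : Subgroup X) {g x : X} (hg : g ∈ Subgroup.normalizer (N₀ : Set X))
    (hx : x ∈ PhiOf N₀) : g * x * g⁻¹ ∈ PhiOf N₀ := by
  obtain ⟨y, hy, rfl⟩ := hx
  refine ⟨t97mina_conj N₀ g hg y, ?_, rfl⟩
  have hchar : (frattini ↥N₀).Characteristic := frattini_characteristic
  have := Subgroup.characteristic_iff_comap_eq.mp hchar (t97mina_conj N₀ g hg)
  have hy' : y ∈ (frattini ↥N₀).comap (t97mina_conj N₀ g hg).toMonoidHom := by rw [this]; exact hy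
  exact hy'

theorem t97mina_le_normalizer (N₀ S : Subgroup X) (hS : S ≤ Subgroup.normalizer (N₀ : Set X)) :
    S ≤ Subgroup.normalizer ((PhiOf N₀ : Subgroup X) : Set X) := by
  intro g hg
  rw [Subgroup.mem_normalizer_iff]
  intro x
  constructor
  · intro hx
    exact t97mina_conj_mem N₀ (hS hg) hx
  · intro hx
    have := t97mina_conj_mem N₀ (hS (S.inv_mem hg)) hx
    have e : g⁻¹ * (g * x * g⁻¹) * g⁻¹⁻¹ = x := by group
    rwa [e] at this

theorem t97mina_phi_lt [Finite X] (N₀ : Subgroup X) (hne : N₀ ≠ ⊥) : PhiOf N₀ < N₀ := by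
  have hle : PhiOf N₀ ≤ N₀ := Subgroup.map_subtype_le _
  refine lt_of_le_of_ne hle ?_
  intro heq
  have hnt : Nontrivial ↥N₀ := (Subgroup.nontrivial_iff_ne_bot N₀).mpr hne
  rcases eq_top_or_exists_le_coatom (⊥ : Subgroup ↥N₀) with h | ⟨K, hK, -⟩
  · exact bot_ne_top h
  · have hfr : frattini ↥N₀ ≤ K := frattini_le_coatom hK
    apply hK.1
    rw [eq_top_iff]
    intro x _
    have hx : (x : X) ∈ PhiOf N₀ := by rw [heq]; exact x.2
    obtain ⟨y, hy, hyx⟩ := hx
    have : y = x := Subtype.ext hyx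
    rw [← this]
    exact hfr hy

/-- `T` centralises `Φ(N₀)`.  `N₀ ≠ ⊥` (else centralised), a nontrivial finite `r`-group, so `frattini ↥N₀ ≠ ⊤` (e.g. `frattini_nilpotent`/a maximal
subgroup exists: `Subgroup.exists_isCoatom`... or Lib lemma), hence `PhiOf N₀ < N₀`.  Conjugation by `g ∈ N_X(N₀)` restricts to an automorphism of
`↥N₀`, and `frattini` is characteristic (`frattini_characteristic`), so `T, D ≤ N_X(PhiOf N₀)`.  Apply `hmin`. -/
theorem min_frattini_central [Finite X] (r : ℕ) [Fact r.Prime] (hr2 : r ≠ 2) (N₀ T D : Subgroup X)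
    (hNr : IsPGroup r N₀) (hT2 : IsPGroup 2 T)
    (hTN : T ≤ Subgroup.normalizer (N₀ : Set X)) (hDN : D ≤ Subgroup.normalizer (N₀ : Set X))
    (hDT : D ≤ Subgroup.normalizer (T : Set X))
    (hTnc : ¬ T ≤ Subgroup.centralizer (N₀ : Set X))
    (hmin : ∀ M : Subgroup X, M < N₀ → T ≤ Subgroup.normalizer (M : Set X) →
        D ≤ Subgroup.normalizer (M : Set X) → T ≤ Subgroup.centralizer (M : Set X)) :
    (∀ x ∈ PhiOf N₀, ∀ t ∈ T, t * x = x * t) := by
  have hne : N₀ ≠ ⊥ := by
    intro h0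
    apply hTnc
    intro t _
    rw [Subgroup.mem_centralizer_iff]
    intro n hn
    rw [h0] at hn
    have : n = 1 := Subgroup.mem_bot.mp hn
    rw [this, one_mul, mul_one]
  have hcent := hmin (PhiOf N₀) (t97mina_phi_lt N₀ hne) (t97mina_le_normalizer N₀ T hTN)
    (t97mina_le_normalizer N₀ D hDN)
  intro x hx t ht
  exact ((Subgroup.mem_centralizer_iff.mp (hcent ht)) x hx).symm

end Cfsg.Agent.Helper18.T97
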