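import Mathlib
import Cfsg.Agent.Lib.T97.T97Defs

/-! S3797 piece T97-MINB (helper18 design; see plans/S3797_plan.md).  Proved by helper2. -/

set_option autoImplicit false

namespace Cfsg.Agent.Helper18.T97

variable {X : Type*} [Group X]

/-- conjugation by an element normalising `N₀` and `T` maps `⁅N₀, T⁆` into itself -/
theorem t97minb_conj_mem (N₀ T : Subgroup X) {g x : X}
    (hgN : g ∈ Subgroup.normalizer (N₀ : Set X)) (hgT : g ∈ Subgroup.normalizer (T : Set X))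
    (hx : x ∈ ⁅N₀, T⁆) : g * x * g⁻¹ ∈ ⁅N₀, T⁆ := by
  set f : X →* X := (MulAut.conj g).toMonoidHom with hf
  have h1 : N₀.map f ≤ N₀ := by
    rintro _ ⟨n, hn, rfl⟩
    show g * n * g⁻¹ ∈ N₀
    exact (Subgroup.mem_normalizer_iff.mp hgN n).mp hn
  have h2 : T.map f ≤ T := by
    rintro _ ⟨t, ht, rfl⟩
    show g * t * g⁻¹ ∈ T
    exact (Subgroup.mem_normalizer_iff.mp hgT t).mp ht
  have h3 : (⁅N₀, T⁆).map f ≤ ⁅N₀, T⁆ := by
    rw [Subgroup.map_commutator]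
    exact Subgroup.commutator_mono h1 h2
  exact h3 ⟨x, hx, rfl⟩

theorem t97minb_le_normalizer (N₀ T S : Subgroup X) (hSN : S ≤ Subgroup.normalizer (N₀ : Set X))
    (hST : S ≤ Subgroup.normalizer (T : Set X)) :
    S ≤ Subgroup.normalizer ((⁅N₀, T⁆ : Subgroup X) : Set X) := by
  intro g hg
  rw [Subgroup.mem_normalizer_iff]
  intro x
  constructor
  · intro hx
    exact t97minb_conj_mem N₀ T (hSN hg) (hST hg) hx
  · intro hx
    have hg' := S.inv_mem hg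
    have := t97minb_conj_mem N₀ T (hSN hg') (hST hg') hx
    have e : g⁻¹ * (g * x * g⁻¹) * g⁻¹⁻¹ = x := by group
    rwa [e] at this

section t97minb_aux

open scoped commutatorElement

theorem t97minb_comm_le (N₀ T : Subgroup X) (hTN : T ≤ Subgroup.normalizer (N₀ : Set X)) :
    ⁅N₀, T⁆ ≤ N₀ := by
  rw [Subgroup.commutator_le]
  intro n hn t ht
  have h1 : t * n⁻¹ * t⁻¹ ∈ N₀ :=
    (Subgroup.mem_normalizer_iff.mp (hTN ht) n⁻¹).mp (N₀.inv_mem hn)
  have e : ⁅n, t⁆ = n * (t * n⁻¹ * t⁻¹) := by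
    rw [commutatorElement_def]; group
  rw [e]
  exact N₀.mul_mem hn h1

theorem t97minb_mem (N₀ T : Subgroup X) {t n : X} (ht : t ∈ T) (hn : n ∈ N₀) :
    t * n * t⁻¹ * n⁻¹ ∈ ⁅N₀, T⁆ := by
  rw [Subgroup.commutator_comm]
  have : t * n * t⁻¹ * n⁻¹ = ⁅t, n⁆ := by rw [commutatorElement_def]
  rw [this]
  exact Subgroup.commutator_mem_commutator ht hn

end t97minb_aux

/-- if `t c t⁻¹ = c` and `t n t⁻¹ = c * n` then `t^i n t^(-i) = c^i * n` -/
theorem t97minb_iter (t n c : X) (h1 : t * n * t⁻¹ = c * n) (h2 : t * c * t⁻¹ = c) (i : ℕ) :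
    t ^ i * n * (t ^ i)⁻¹ = c ^ i * n := by
  induction i with
  | zero => simp
  | succ i ih =>
    have e : t ^ (i + 1) * n * (t ^ (i + 1))⁻¹ = t * (t ^ i * n * (t ^ i)⁻¹) * t⁻¹ := by
      rw [pow_succ']; group
    rw [e, ih]
    have e2 : t * (c ^ i * n) * t⁻¹ = (t * c * t⁻¹) ^ i * (t * n * t⁻¹) := by
      rw [conj_pow]; group
    rw [e2, h1, h2, pow_succ, mul_assoc]

/-- `N₀ = [N₀, T]`.  `M := ⁅N₀, T⁆ ≤ N₀` (`T` normalises `N₀`), and `M` is normalised by `T` and by `D` (both normalise `N₀` and `T`; conjugation maps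
generators `⁅n, t⁆` to generators).  If `M < N₀` then `T ≤ C(M)` by `hmin`; then for `t ∈ T`, `n ∈ N₀`: `c := t n t⁻¹ n⁻¹ ∈ M` commutes with `t`,
so `t^i n t^(-i) = c^i n`; with `i = orderOf t = 2^j`: `c^(2^j) = 1`, and `c ∈ N₀` has `r`-power order (`r` odd), so `c = 1`: `T ≤ C(N₀)`, contradiction.
Hence `M = N₀`. -/
theorem min_commutator [Finite X] (r : ℕ) [Fact r.Prime] (hr2 : r ≠ 2) (N₀ T D : Subgroup X)
    (hNr : IsPGroup r N₀) (hT2 : IsPGroup 2 T)
    (hTN : T ≤ Subgroup.normalizer (N₀ : Set X)) (hDN : D ≤ Subgroup.normalizer (N₀ : Set X))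
    (hDT : D ≤ Subgroup.normalizer (T : Set X))
    (hTnc : ¬ T ≤ Subgroup.centralizer (N₀ : Set X))
    (hmin : ∀ M : Subgroup X, M < N₀ → T ≤ Subgroup.normalizer (M : Set X) →
        D ≤ Subgroup.normalizer (M : Set X) → T ≤ Subgroup.centralizer (M : Set X)) :
    N₀ ≤ ⁅N₀, T⁆ := by
  have hle : ⁅N₀, T⁆ ≤ N₀ := t97minb_comm_le N₀ T hTN
  by_contra hnot
  have hlt : ⁅N₀, T⁆ < N₀ := lt_of_le_of_ne hle (fun h => hnot (le_of_eq h.symm))
  have hcent := hmin ⁅N₀, T⁆ hlt (t97minb_le_normalizer N₀ T T hTN Subgroup.le_normalizer)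
    (t97minb_le_normalizer N₀ T D hDN hDT)
  apply hTnc
  intro t ht
  rw [Subgroup.mem_centralizer_iff]
  intro n hn
  set c := t * n * t⁻¹ * n⁻¹ with hc
  have hcM : c ∈ ⁅N₀, T⁆ := t97minb_mem N₀ T ht hn
  have hcN : c ∈ N₀ := hle hcM
  have hct : t * c * t⁻¹ = c := by
    have := (Subgroup.mem_centralizer_iff.mp (hcent ht)) c hcM
    calc t * c * t⁻¹ = c * t * t⁻¹ := by rw [this]
      _ = c := by group
  have htn : t * n * t⁻¹ = c * n := by rw [hc]; group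
  have hiter := t97minb_iter t n c htn hct (orderOf t)
  rw [pow_orderOf_eq_one, inv_one, one_mul, mul_one] at hiter
  have hco : c ^ orderOf t = 1 := by
    have := congrArg (fun u => u * n⁻¹) hiter
    simpa using this.symm
  obtain ⟨j, hj⟩ := (IsPGroup.iff_orderOf.mp hT2) ⟨t, ht⟩
  rw [Subgroup.orderOf_mk] at hj
  obtain ⟨a, ha⟩ := (IsPGroup.iff_orderOf.mp hNr) ⟨c, hcN⟩
  rw [Subgroup.orderOf_mk] at ha
  have hdvd : orderOf c ∣ orderOf t := orderOf_dvd_of_pow_eq_one hco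
  rw [ha, hj] at hdvd
  have hcop : Nat.Coprime (r ^ a) (2 ^ j) := by
    apply Nat.Coprime.pow
    exact (Nat.coprime_primes (Fact.out : r.Prime) Nat.prime_two).mpr hr2
  have h1 : r ^ a = 1 := Nat.Coprime.eq_one_of_dvd hcop hdvd
  have hc1 : c = 1 := by
    rw [← orderOf_eq_one_iff, ha, h1]
  have : t * n * t⁻¹ = n := by rw [htn, hc1, one_mul]
  calc n * t = (t * n * t⁻¹) * t := by rw [this]
    _ = t * n := by group

end Cfsg.Agent.Helper18.T97
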