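import Mathlib
import Cfsg.Agent.Lib.T97.T97Defs

/-! S3797 piece T97-MINC (helper18 design; see plans/S3797_plan.md). -/

set_option autoImplicit false

namespace Cfsg.Agent.Helper18.T97

open scoped commutatorElement

variable {X : Type*} [Group X]

/-- `PhiOf N₀` is normalised by `N₀`. -/
theorem t97minc_conj_mem (N₀ : Subgroup X) {x n : X} (hx : x ∈ PhiOf N₀) (hn : n ∈ N₀) :
    n * x * n⁻¹ ∈ PhiOf N₀ := by
  obtain ⟨x', hx', rfl⟩ := Subgroup.mem_map.mp hx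
  haveI : (frattini ↥N₀).Normal := inferInstance
  have h1 : (⟨n, hn⟩ : ↥N₀) * x' * (⟨n, hn⟩ : ↥N₀)⁻¹ ∈ frattini ↥N₀ :=
    Subgroup.Normal.conj_mem inferInstance x' hx' _
  exact Subgroup.mem_map.mpr ⟨_, h1, rfl⟩

/-- Three subgroups lemma (`Subgroup.commutator_commutator_eq_bot_of_rotate`).  With `P := PhiOf N₀ ≤ N₀` (normal in `N₀`, `T`-centralised):
`⁅⁅P, T⁆, N₀⁆ = ⊥` (as `⁅P, T⁆ = ⊥`) and `⁅⁅N₀, P⁆, T⁆ ≤ ⁅P, T⁆ = ⊥` (`⁅N₀, P⁆ ≤ P` since `P` is normalised by `N₀`: it is the image of a normal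
subgroup of `↥N₀`), hence `⁅⁅T, N₀⁆, P⁆ = ⊥`; `N₀ ≤ ⁅N₀, T⁆ = ⁅T, N₀⁆` gives `⁅N₀, P⁆ = ⊥`. -/
theorem min_frattini_center (N₀ T : Subgroup X)
    (hTN : T ≤ Subgroup.normalizer (N₀ : Set X))
    (hPhiT : ∀ x ∈ PhiOf N₀, ∀ t ∈ T, t * x = x * t) (hcomm : N₀ ≤ ⁅N₀, T⁆) :
    ∀ x ∈ PhiOf N₀, ∀ y ∈ N₀, x * y = y * x := by
  have hPT : ⁅PhiOf N₀, T⁆ = ⊥ := by
    rw [Subgroup.commutator_eq_bot_iff_le_centralizer]
    intro x hx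
    rw [Subgroup.mem_centralizer_iff]
    intro t ht
    exact hPhiT x hx t ht
  have hNP : ⁅N₀, PhiOf N₀⁆ ≤ PhiOf N₀ := by
    rw [Subgroup.commutator_le]
    intro n hn x hx
    rw [commutatorElement_def]
    exact (PhiOf N₀).mul_mem (t97minc_conj_mem N₀ hx hn) ((PhiOf N₀).inv_mem hx)
  have h1 : ⁅⁅N₀, PhiOf N₀⁆, T⁆ = ⊥ := by
    rw [eq_bot_iff, ← hPT]
    exact Subgroup.commutator_mono hNP le_rfl
  have h2 : ⁅⁅PhiOf N₀, T⁆, N₀⁆ = ⊥ := by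
    rw [hPT, Subgroup.commutator_bot_left]
  have h3 : ⁅⁅T, N₀⁆, PhiOf N₀⁆ = ⊥ := Subgroup.commutator_commutator_eq_bot_of_rotate h1 h2
  have h4 : ⁅N₀, PhiOf N₀⁆ = ⊥ := by
    rw [eq_bot_iff, ← h3]
    refine Subgroup.commutator_mono ?_ le_rfl
    rw [Subgroup.commutator_comm]
    exact hcomm
  intro x hx y hy
  have h5 : ⁅y, x⁆ ∈ ⁅N₀, PhiOf N₀⁆ := Subgroup.commutator_mem_commutator hy hx
  rw [h4, Subgroup.mem_bot, commutatorElement_eq_one_iff_mul_comm] at h5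
  exact h5.symm

end Cfsg.Agent.Helper18.T97
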