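import Mathlib
import Cfsg.Agent.Lib.T97.T97Defs
import Cfsg.Agent.Lib.T97.T97STAR

/-! S3797 piece T97-NC (helper18 design; see plans/S3797_plan.md).  STUB: overwrite this file, keeping the
statement, the namespace and the imports (you may ADD imports of library files outside Lib/T97, or of
T97 files that are listed as dependencies).  Aux lemmas: fresh names with prefix `t97nc_`. -/

set_option autoImplicit false

namespace Cfsg.Agent.Helper18.T97

variable {X : Type*} [Group X]

/-- `N` centralises `E = omegaZ R`.  `L := N_X(N)`; `R ⊔ L = ⊤` with `R` normal gives `R.index = (R ⊓ L).relIndex L ∣ |L|`, so `|L|` is even.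
`|N|` is odd (`r`-group, `r ≠ 2`).  By `odd_normalizer` (contrapositive) `E ⊓ C(N) ≠ ⊥`: pick `v ≠ 1` there.  `v` centralises `R` (`v ∈ E`)
and `N`, hence `K = R ⊔ N` (`Subgroup.centralizer` of a closure / `sup_le`).  For `b ∈ E`, `b ≠ 1`: `b = g v g⁻¹` (`c.su.conj`, both
involutions), which centralises `g K g⁻¹ = K`.  So `E ≤ C(K)`, i.e. `N ≤ K ≤ C(E) = CE R`. -/
theorem N_le_CE [Finite X] {R : Subgroup X} {n : ℕ} {Y : Subgroup X} (c : Ctx R n Y)
    (hev : 2 ∣ R.index) (K N : Subgroup X) (hKn : K.Normal) (r : ℕ) [Fact r.Prime] (hr2 : r ≠ 2)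
    (hNr : IsPGroup r N) (hRN : R ⊔ N = K) (hL : R ⊔ Subgroup.normalizer (N : Set X) = ⊤) :
    N ≤ CE R := by
  classical
  have hsu := c.su
  haveI hRn : R.Normal := hsu.Rn
  -- `|N_X(N)|` is even
  have hevL : 2 ∣ Nat.card (Subgroup.normalizer (N : Set X)) := by
    have h1 : R.relIndex (R ⊔ Subgroup.normalizer (N : Set X)) =
        R.relIndex (Subgroup.normalizer (N : Set X)) := Subgroup.relIndex_sup_left _ _
    rw [hL, Subgroup.relIndex_top_right] at h1
    rw [h1] at hev
    exact dvd_trans hev (Subgroup.relIndex_dvd_card _ _)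
  -- `|N|` is odd
  have hNodd : Odd (Nat.card N) := by
    obtain ⟨k, hk⟩ := hNr.exists_card_eq
    rw [hk]
    apply Odd.pow
    exact (Fact.out : r.Prime).odd_of_ne_two hr2
  -- a nontrivial element of `E` centralising `N`
  have hne : omegaZ R ⊓ Subgroup.centralizer (N : Set X) ≠ ⊥ := by
    intro hbot
    have hodd := odd_normalizer hsu N hNodd hbot
    rw [← Nat.not_even_iff_odd] at hodd
    exact hodd (even_iff_two_dvd.mpr hevL)
  obtain ⟨w, hw⟩ := Subgroup.ne_bot_iff_exists_ne_one.mp hne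
  obtain ⟨v, hv, hv1⟩ : ∃ v : X, v ∈ omegaZ R ⊓ Subgroup.centralizer (N : Set X) ∧ v ≠ 1 :=
    ⟨(w : X), w.2, fun h => hw (Subtype.ext h)⟩
  obtain ⟨hvE, hvN⟩ := Subgroup.mem_inf.mp hv
  obtain ⟨hvR, hvCR, hv2⟩ := mem_omegaZ.mp hvE
  -- `v` commutes with `K`
  have hvK : ∀ k ∈ K, k * v = v * k := by
    have hR' : R ≤ Subgroup.centralizer ({v} : Set X) := by
      intro x hx
      rw [Subgroup.mem_centralizer_iff]
      intro y hy
      rw [Set.mem_singleton_iff] at hy
      rw [hy]
      exact (Subgroup.mem_centralizer_iff.mp hvCR x hx).symm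
    have hN' : N ≤ Subgroup.centralizer ({v} : Set X) := by
      intro x hx
      rw [Subgroup.mem_centralizer_iff]
      intro y hy
      rw [Set.mem_singleton_iff] at hy
      rw [hy]
      exact (Subgroup.mem_centralizer_iff.mp hvN x hx).symm
    intro k hk
    have hk' : k ∈ Subgroup.centralizer ({v} : Set X) := by
      rw [← hRN] at hk
      exact (sup_le hR' hN') hk
    exact (Subgroup.mem_centralizer_iff.mp hk' v (Set.mem_singleton v)).symm
  -- every element of `E` commutes with `K`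
  have hNK : N ≤ K := by rw [← hRN]; exact le_sup_right
  intro x hx
  rw [Subgroup.mem_centralizer_iff]
  intro b hb
  have hbE : b ∈ omegaZ R := hb
  by_cases hb1 : b = 1
  · rw [hb1, one_mul, mul_one]
  · have hb2 : b ^ 2 = 1 := (mem_omegaZ.mp hbE).2.2
    obtain ⟨g, hg⟩ := isConj_iff.mp (hsu.conj v b hv1 hv2 hb1 hb2)
    have hxK : g⁻¹ * x * g ∈ K := by
      have := hKn.conj_mem x (hNK hx) g⁻¹
      rwa [inv_inv] at this
    have h1 := hvK _ hxK
    rw [← hg]
    calc g * v * g⁻¹ * x = g * (v * (g⁻¹ * x * g)) * g⁻¹ := by group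
      _ = g * ((g⁻¹ * x * g) * v) * g⁻¹ := by rw [h1]
      _ = x * (g * v * g⁻¹) := by group

end Cfsg.Agent.Helper18.T97
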