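import Mathlib
import Cfsg.Agent.Lib.T97.T97Defs

/-! S3797 piece T97-NFRAT (helper18 design; see plans/S3797_plan.md).  STUB: overwrite this file, keeping the
statement, the namespace and the imports (you may ADD imports of library files outside Lib/T97, or of
T97 files that are listed as dependencies).  Aux lemmas: fresh names with prefix `t97nfrat_`. -/

set_option autoImplicit false

namespace Cfsg.Agent.Helper18.T97

variable {X : Type*} [Group X]

/-- Frattini.  Let `P : Sylow r ↥K`, `N := P.map K.subtype`.  `Sylow.normalizer_sup_eq_top P : N.normalizer ⊔ K = ⊤`.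
`R ⊔ N = K`: `≤` clear; `R ⊓ N = ⊥` (2-group vs `r`-group), `|R ⊔ N| ≥ |R| * |N|`, `|N| = r`-part of `|K| = |R| * r^m`, i.e. `r^m`
(as `|R|` is a power of 2), so `|R ⊔ N| ≥ |K|`.  Then `R ⊔ N_X(N) ⊇ R ⊔ N ⊔ N_X(N) = K ⊔ N_X(N) = ⊤` (`N ≤ N_X(N)`). -/
theorem exists_N [Finite X] (R K : Subgroup X) (hRn : R.Normal) (hKn : K.Normal)
    (hR2 : IsPGroup 2 R) (hRK : R ≤ K) (r : ℕ) [Fact r.Prime] (hr2 : r ≠ 2) (m : ℕ)
    (hm : R.relIndex K = r ^ m) :
    ∃ N : Subgroup X, N ≤ K ∧ IsPGroup r N ∧ R ⊔ N = K ∧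
      R ⊔ Subgroup.normalizer (N : Set X) = ⊤ := by
  classical
  haveI := hKn
  have P : Sylow r ↥K := default
  have hNK : (P : Subgroup ↥K).map K.subtype ≤ K := Subgroup.map_subtype_le _
  have hNr : IsPGroup r ((P : Subgroup ↥K).map K.subtype) := P.isPGroup'.map K.subtype
  have hsub : ((P : Subgroup ↥K).map K.subtype).subgroupOf K = (P : Subgroup ↥K) :=
    Subgroup.comap_map_eq_self_of_injective K.subtype_injective _
  have hle : R ⊔ (P : Subgroup ↥K).map K.subtype ≤ K := sup_le hRK hNK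
  have hRNK : R ⊔ (P : Subgroup ↥K).map K.subtype = K := by
    apply le_antisymm hle
    have h1 : (R ⊔ (P : Subgroup ↥K).map K.subtype).relIndex K ∣ r ^ m := by
      rw [← hm]
      exact Subgroup.relIndex_dvd_of_le_left K le_sup_left
    have h2 : (R ⊔ (P : Subgroup ↥K).map K.subtype).relIndex K ∣
        ((P : Subgroup ↥K).map K.subtype).relIndex K :=
      Subgroup.relIndex_dvd_of_le_left K le_sup_right
    have h3 : ¬ r ∣ ((P : Subgroup ↥K).map K.subtype).relIndex K := by
      rw [Subgroup.relIndex, hsub]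
      exact P.not_dvd_index
    have h4 : (R ⊔ (P : Subgroup ↥K).map K.subtype).relIndex K = 1 := by
      obtain ⟨j, -, hj⟩ := (Nat.dvd_prime_pow Fact.out).mp h1
      rcases j with _ | j
      · simpa using hj
      · exfalso
        apply h3
        apply dvd_trans _ h2
        rw [hj, pow_succ]
        exact dvd_mul_left r _
    exact Subgroup.relIndex_eq_one.mp h4
  refine ⟨(P : Subgroup ↥K).map K.subtype, hNK, hNr, hRNK, ?_⟩
  have hfr := Sylow.normalizer_sup_eq_top P
  rw [eq_top_iff, ← hfr]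
  refine sup_le le_sup_right ?_
  calc K = R ⊔ (P : Subgroup ↥K).map K.subtype := hRNK.symm
    _ ≤ R ⊔ Subgroup.normalizer (((P : Subgroup ↥K).map K.subtype : Subgroup X) : Set X) :=
      sup_le_sup_left Subgroup.le_normalizer R

end Cfsg.Agent.Helper18.T97
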