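import Mathlib
import Cfsg.Agent.Lib.T97.T97Defs
import Cfsg.Agent.Lib.T97.T97FRAT
import Cfsg.Agent.Lib.T97.T97ORB
import Cfsg.Agent.Lib.T97.T97INVOL

/-! S3797 piece T97-PARTI (helper18 design; see plans/S3797_plan.md).  STUB: overwrite this file, keeping the
statement, the namespace and the imports (you may ADD imports of library files outside Lib/T97, or of
T97 files that are listed as dependencies).  Aux lemmas: fresh names with prefix `t97parti_`. -/

set_option autoImplicit false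

namespace Cfsg.Agent.Helper18.T97

variable {X : Type*} [Group X]

/-- PART I: `X/C` has odd order (`C = CE R`).  `2^n - 1 ∣ C.index` (`orbit_dvd` with `B = ⊤`; transitivity from `h.conj` + `isConj_iff`),
so `C.index ≥ 2^n - 1 > n ≥ Y.index`, hence `C ≠ Y`, `C.relIndex Y ≠ 1`; pick a prime `r ∣ C.relIndex Y`; `r ∣ 2^n - 1` so `r ≠ 2`.
Let `P : Sylow r Y`.  `P.map Y.subtype ≰ C` (else the `r`-part of `|Y|` divides `|C|` and `r ∤ [Y:C]`), so some `y ∈ P`, `y ∉ C`;
by `hfpf` every `v ∈ E` commuting with `y` is `1`: `E ⊓ C(P) = ⊥`.  `odd_index_of_sylow` gives `¬ 2 ∣ Y.index`;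
`C.relIndex Y` is odd (divides `2^n - 1`); `C.index = C.relIndex Y * Y.index` (`Subgroup.relIndex_mul_index hCY`). -/
theorem odd_index_CE [Finite X] {R : Subgroup X} (h : Setup R) (n : ℕ) (hn : 2 ≤ n)
    (hcard : Nat.card (omegaZ R) = 2 ^ n) (Y : Subgroup X) (hYn : Y.Normal) (hCY : CE R ≤ Y)
    (hfpf : ∀ y ∈ Y, y ∉ CE R → ∀ v ∈ omegaZ R, y * v * y⁻¹ = v → v = 1)
    (hrel : (CE R).relIndex Y ∣ 2 ^ n - 1) (hidx : Y.index ≤ n) :
    ¬ 2 ∣ (CE R).index := by
  classical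
  have := hYn
  -- `2^n - 1 ∣ C.index`
  have hB : ∀ a ∈ omegaZ R, ∀ b ∈ omegaZ R, a ≠ 1 → b ≠ 1 →
      ∃ g ∈ (⊤ : Subgroup X), g * a * g⁻¹ = b := by
    intro a ha b hb ha1 hb1
    obtain ⟨g, hg⟩ := isConj_iff.mp (h.conj a b ha1 (mem_omegaZ.mp ha).2.2 hb1 (mem_omegaZ.mp hb).2.2)
    exact ⟨g, Subgroup.mem_top g, hg⟩
  have hdvd : 2 ^ n - 1 ∣ (CE R).index := by
    have := orbit_dvd h n (by omega) hcard ⊤ hB
    rwa [top_inf_eq, Subgroup.relIndex_top_right] at this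
  have hCpos : (CE R).index ≠ 0 := Subgroup.index_ne_zero_of_finite
  have hmul : (CE R).relIndex Y * Y.index = (CE R).index := Subgroup.relIndex_mul_index hCY
  have hlt : n < 2 ^ n - 1 := by
    have h1 : n + 1 < 2 ^ n := by
      clear hcard hrel hidx hdvd
      induction n, hn using Nat.le_induction with
      | base => norm_num
      | succ k hk ih =>
        rw [pow_succ]
        omega
    omega
  have hge : 2 ^ n - 1 ≤ (CE R).index := Nat.le_of_dvd (Nat.pos_of_ne_zero hCpos) hdvd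
  have hrel1 : (CE R).relIndex Y ≠ 1 := by
    intro h1
    rw [h1, one_mul] at hmul
    omega
  obtain ⟨r, hrp, hrdvd⟩ := Nat.exists_prime_and_dvd hrel1
  have : Fact r.Prime := ⟨hrp⟩
  have hodd : ¬ 2 ∣ 2 ^ n - 1 := by
    intro h2
    have h3 : 2 ∣ 2 ^ n := dvd_pow_self 2 (by omega)
    have h4 : 1 ≤ 2 ^ n := Nat.one_le_two_pow
    omega
  have hr2 : r ≠ 2 := by
    rintro rfl
    exact hodd (dvd_trans hrdvd hrel)
  obtain ⟨P⟩ : Nonempty (Sylow r Y) := inferInstance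
  -- `P ≰ C`
  have hPC : ¬ (P : Subgroup Y) ≤ (CE R).subgroupOf Y := by
    intro hle
    have h1 : ((CE R).subgroupOf Y).index ∣ (P : Subgroup Y).index := Subgroup.index_dvd_of_le hle
    exact P.not_dvd_index (dvd_trans hrdvd h1)
  obtain ⟨y, hyP, hyC⟩ := SetLike.not_le_iff_exists.mp hPC
  have hyC' : (y : X) ∉ CE R := fun hc => hyC (Subgroup.mem_subgroupOf.mpr hc)
  have hfix : omegaZ R ⊓
      Subgroup.centralizer (((P : Subgroup Y).map Y.subtype : Subgroup X) : Set X) = ⊥ := by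
    rw [eq_bot_iff]
    intro v hv
    rw [Subgroup.mem_bot]
    obtain ⟨hvE, hvc⟩ := Subgroup.mem_inf.mp hv
    apply hfpf y y.2 hyC' v hvE
    have hyP' : (y : X) ∈ ((P : Subgroup Y).map Y.subtype : Subgroup X) :=
      Subgroup.mem_map.mpr ⟨y, hyP, rfl⟩
    have hc : (y : X) * v = v * y := (Subgroup.mem_centralizer_iff.mp hvc) y hyP'
    rw [hc, mul_inv_cancel_right]
  have hYodd : ¬ 2 ∣ Y.index := odd_index_of_sylow h Y r hr2 P hfix
  have hrelodd : ¬ 2 ∣ (CE R).relIndex Y := fun h2 => hodd (dvd_trans h2 hrel)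
  rw [← hmul]
  intro h2
  rcases (Nat.Prime.dvd_mul Nat.prime_two).mp h2 with h3 | h3
  · exact hrelodd h3
  · exact hYodd h3

end Cfsg.Agent.Helper18.T97
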