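import Mathlib
import Cfsg.Agent.Lib.T97.T97Defs

/-! S3797 piece T97-POW (helper18 design; see plans/S3797_plan.md).  STUB: overwrite this file, keeping the
statement, the namespace and the imports (you may ADD imports of library files outside Lib/T97, or of
T97 files that are listed as dependencies).  Aux lemmas: fresh names with prefix `t97pow_`. -/

set_option autoImplicit false

namespace Cfsg.Agent.Helper18.T97

variable {X : Type*} [Group X]

/-- Replace `y` by a power of order `r`.  `orderOf y = r^a` with `a ≥ 1` (`y ∈ N₀` an `r`-group, `y ≠ 1`); `z := y^(r^(a-1))` has `z^r = 1`, `z ≠ 1`, `z ∈ N₀`;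
`w z w⁻¹ = (w y w⁻¹)^(r^(a-1))` gives the fix/invert properties (`(y⁻¹)^k = (y^k)⁻¹`). -/
theorem eigen_pow [Finite X] (r : ℕ) [Fact r.Prime] (N₀ W W₀ : Subgroup X) (y : X)
    (hNr : IsPGroup r N₀) (h : IsEigen N₀ W W₀ y) :
    ∃ z : X, z ^ r = 1 ∧ IsEigen N₀ W W₀ z := by
  have hr : r.Prime := Fact.out
  obtain ⟨a, ha⟩ := (IsPGroup.iff_orderOf.mp hNr) ⟨y, h.mem⟩
  rw [Subgroup.orderOf_mk] at ha
  have ha0 : a ≠ 0 := by
    intro h0
    rw [h0, pow_zero, orderOf_eq_one_iff] at ha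
    exact h.ne ha
  obtain ⟨b, rfl⟩ := Nat.exists_eq_succ_of_ne_zero ha0
  refine ⟨y ^ (r ^ b), ?_, ?_⟩
  · rw [← pow_mul, ← pow_succ, ← ha]
    exact pow_orderOf_eq_one y
  · refine ⟨h.le, h.idx, N₀.pow_mem h.mem _, ?_, ?_, ?_⟩
    · apply pow_ne_one_of_lt_orderOf (pow_pos hr.pos b).ne'
      rw [ha]
      exact Nat.pow_lt_pow_right hr.one_lt (Nat.lt_succ_self b)
    · intro w hw
      rw [← conj_pow, h.fix w hw]
    · intro w hw hw0
      rw [← conj_pow, h.inv w hw hw0, inv_pow]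

end Cfsg.Agent.Helper18.T97
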