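import Mathlib
import Cfsg.Agent.Lib.T97.T97Defs
import Cfsg.Agent.Lib.T97.T97INVOL

/-! S3797 piece T97-RANK (helper18 design; see plans/S3797_plan.md).  Proved by helper2. -/

set_option autoImplicit false

namespace Cfsg.Agent.Helper18.T97

variable {X : Type*} [Group X]

/-- the squaring homomorphism of an abelian subgroup -/
def t97rank_sq (H : Subgroup X) (hHc : ∀ a ∈ H, ∀ b ∈ H, a * b = b * a) : ↥H →* ↥H where
  toFun a := a ^ 2
  map_one' := one_pow 2
  map_mul' a b := by
    have hc : Commute a b := by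
      apply Subtype.ext
      exact hHc a a.2 b b.2
    exact hc.mul_pow 2

/-- An abelian subgroup `H ≤ R` has only `≤ 2^n` elements of order `≤ 2` (they lie in `omegaZ R` by `invol_mem c.su`, and `Nat.card (omegaZ R) = 2^n`).  The squaring map `H → H` is a homomorphism (abelian) with
kernel of size `≤ 2^n` and range inside `Z`: `|H| ≤ 2^n * |Z|`, so `Z.relIndex H = |H| / |Z| ≤ 2^n`. -/
theorem abelian_rank_bound [Finite X] {R : Subgroup X} {n : ℕ} {Y : Subgroup X} (c : Ctx R n Y)
    (H Z : Subgroup X) (hHR : H ≤ R) (hZH : Z ≤ H) (hHc : ∀ a ∈ H, ∀ b ∈ H, a * b = b * a)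
    (hsq : ∀ a ∈ H, a ^ 2 ∈ Z) : Z.relIndex H ≤ 2 ^ n := by
  set φ := t97rank_sq H hHc with hφ
  -- kernel injects into `omegaZ R`
  have hker : Nat.card φ.ker ≤ 2 ^ n := by
    rw [← c.card]
    have hmem : ∀ a : φ.ker, ((a : ↥H) : X) ∈ omegaZ R := by
      intro a
      have ha : φ (a : ↥H) = 1 := a.2
      have ha2 : ((a : ↥H) : X) ^ 2 = 1 := by
        have := congrArg (fun t : ↥H => (t : X)) ha
        simpa [hφ, t97rank_sq] using this
      by_cases h1 : ((a : ↥H) : X) = 1
      · rw [h1]; exact Subgroup.one_mem _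
      · exact invol_mem c.su _ h1 ha2
    let f : φ.ker → omegaZ R := fun a => ⟨((a : ↥H) : X), hmem a⟩
    have hf : Function.Injective f := by
      intro a b hab
      apply Subtype.ext
      apply Subtype.ext
      exact congrArg (fun t : omegaZ R => (t : X)) hab
    exact Nat.card_le_card_of_injective f hf
  -- range inside `Z`
  have hrange : Nat.card φ.range ≤ Nat.card (Z.subgroupOf H) := by
    apply Subgroup.card_le_of_le
    rintro _ ⟨a, rfl⟩
    rw [Subgroup.mem_subgroupOf]
    have := hsq a a.2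
    simpa [hφ, t97rank_sq] using this
  have h1 : Nat.card φ.range * Nat.card φ.ker = Nat.card ↥H := by
    rw [← Subgroup.index_ker]; exact Subgroup.index_mul_card _
  have h2 : Z.relIndex H * Nat.card (Z.subgroupOf H) = Nat.card ↥H := by
    unfold Subgroup.relIndex
    exact Subgroup.index_mul_card _
  have hpos : 0 < Nat.card (Z.subgroupOf H) := Nat.card_pos
  have h3 : Z.relIndex H * Nat.card (Z.subgroupOf H) ≤ 2 ^ n * Nat.card (Z.subgroupOf H) := by
    rw [h2, ← h1, mul_comm]
    exact Nat.mul_le_mul hker hrange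
  exact Nat.le_of_mul_le_mul_right h3 hpos

end Cfsg.Agent.Helper18.T97
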