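import Mathlib
import Cfsg.Agent.Lib.T97.T97Defs
import Cfsg.Agent.Lib.Helper15.CoprimeGen

/-! S3797 piece T97-RK1 (helper18 design; see plans/S3797_plan.md).  STUB: overwrite this file, keeping the
statement, the namespace and the imports (you may ADD imports of library files outside Lib/T97, or of
T97 files that are listed as dependencies).  Aux lemmas: fresh names with prefix `t97rk1_`. -/

set_option autoImplicit false

namespace Cfsg.Agent.Helper18.T97

variable {X : Type*} [Group X]

/-- in a group of prime exponent `r`, a nontrivial power of `b` generates `b` -/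
theorem t97rk1_mem_zpowers_pow {G : Type*} [Group G] (r : ℕ) [hr : Fact r.Prime] (b : G)
    (hb : b ^ r = 1) (j : ℕ) (hj : ¬ r ∣ j) : b ∈ Subgroup.zpowers (b ^ j) := by
  have hcop : Nat.Coprime j r := (Nat.Coprime.symm ((Nat.Prime.coprime_iff_not_dvd hr.out).2 hj))
  obtain ⟨m, hm⟩ := Nat.exists_mul_mod_eq_one_of_coprime hcop hr.out.one_lt
  rw [Subgroup.mem_zpowers_iff]
  refine ⟨(m : ℤ), ?_⟩
  rw [zpow_natCast, ← pow_mul]
  have h1 : j * m = r * (j * m / r) + 1 := by
    have := Nat.div_add_mod (j * m) r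
    omega
  rw [h1, pow_add, pow_mul, hb, one_pow, one_mul, pow_one]

/-- An elementary abelian `r`-group of automorphisms acting fixed-point-freely is cyclic.  If `Nat.card A > r` pick `a ∈ A`, `a ≠ 1` and `b ∈ A \ zpowers a`; all `a^i * b^j` with
`¬ (r ∣ i ∧ r ∣ j)` are `≠ 1` (elementary abelian: independent), hence fixed-point-free; `Cfsg.Agent.Helper15.eq_one_of_fixedPointFree_pair` (Lib/Helper15/CoprimeGen.lean; `hW` from
`u^2 = 1`, `r` odd) gives `U = 1`, so `MulAut U` is trivial and `A = ⊥`: contradiction. -/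
theorem rank_fpf (r : ℕ) [Fact r.Prime] (hr2 : r ≠ 2) {U : Type*} [CommGroup U] [Finite U]
    (hU : ∀ u : U, u ^ 2 = 1) (A : Subgroup (MulAut U))
    (hAc : ∀ a ∈ A, ∀ b ∈ A, a * b = b * a) (hAr : ∀ a ∈ A, a ^ r = 1)
    (hfpf : ∀ a ∈ A, a ≠ 1 → ∀ u : U, a u = u → u = 1) : Nat.card A ≤ r := by
  classical
  have hrp : r.Prime := Fact.out
  by_contra hlt
  push Not at hlt
  haveI : Finite (MulAut U) := Finite.of_injective (fun f : MulAut U => (f : U → U))
    (fun f g h => MulEquiv.ext (congrFun h))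
  -- pick `a ≠ 1`
  have h1lt : 1 < Nat.card A := lt_trans hrp.one_lt hlt
  obtain ⟨a', ha'⟩ : ∃ a' : ↥A, a' ≠ 1 := by
    haveI : Nontrivial ↥A := (Finite.one_lt_card_iff_nontrivial).1 h1lt
    exact exists_ne 1
  set a : MulAut U := a'.1 with hadef
  have haA : a ∈ A := a'.2
  have ha1 : a ≠ 1 := fun h => ha' (Subtype.ext h)
  have har : a ^ r = 1 := hAr a haA
  -- `zpowers a` has order `r`
  have hoa : orderOf a = r := orderOf_eq_prime har ha1
  have hza : Nat.card (Subgroup.zpowers a) = r := by rw [Nat.card_zpowers, hoa]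
  -- pick `b ∈ A \ zpowers a`
  obtain ⟨b, hbA, hbz⟩ : ∃ b, b ∈ A ∧ b ∉ Subgroup.zpowers a := by
    by_contra hcon
    push Not at hcon
    have hle : A ≤ Subgroup.zpowers a := fun x hx => hcon x hx
    have := Subgroup.card_le_of_le hle
    omega
  have hbr : b ^ r = 1 := hAr b hbA
  -- nontrivial combinations
  have hne : ∀ i j : ℕ, ¬ (r ∣ i ∧ r ∣ j) → a ^ i * b ^ j ≠ 1 := by
    intro i j hij h
    by_cases hj : r ∣ j
    · obtain ⟨c, rfl⟩ := hj
      rw [pow_mul, hbr, one_pow, mul_one] at h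
      have hi : ¬ r ∣ i := fun hi => hij ⟨hi, dvd_mul_right r c⟩
      have := t97rk1_mem_zpowers_pow r a har i hi
      rw [h, Subgroup.zpowers_one_eq_bot, Subgroup.mem_bot] at this
      exact ha1 this
    · have h1 := t97rk1_mem_zpowers_pow r b hbr j hj
      have h2 : b ^ j = (a ^ i)⁻¹ := eq_inv_of_mul_eq_one_right h
      have h3 : b ^ j ∈ Subgroup.zpowers a := by
        rw [h2]
        exact Subgroup.inv_mem _ (Subgroup.pow_mem _ (Subgroup.mem_zpowers a) i)
      have h4 : Subgroup.zpowers (b ^ j) ≤ Subgroup.zpowers a := by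
        rw [Subgroup.zpowers_le]
        exact h3
      exact hbz (h4 h1)
  -- apply the core lemma
  have hW : ∀ w : U, w ^ r = 1 → w = 1 := by
    intro w hw
    have hodd : r % 2 = 1 := by
      rcases hrp.eq_two_or_odd with h | h
      · exact absurd h hr2
      · exact h
    have h1 : r = 2 * (r / 2) + 1 := by omega
    rw [h1, pow_add, pow_mul, hU, one_pow, one_mul, pow_one] at hw
    exact hw
  have hall : ∀ w : U, w = 1 := by
    intro w
    apply Cfsg.Agent.Helper15.eq_one_of_fixedPointFree_pair (p := r) hW a b (hAc a haA b hbA) har hbr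
    intro i j hij w' hw'
    exact hfpf (a ^ i * b ^ j) (A.mul_mem (A.pow_mem haA i) (A.pow_mem hbA j)) (hne i j hij) w' hw'
  apply ha1
  apply MulEquiv.ext
  intro u
  rw [hall u, map_one, map_one]

end Cfsg.Agent.Helper18.T97
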