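import Mathlib
import Cfsg.Agent.Lib.T97.T97Defs

/-! S3797 piece T97-RK2 (helper18 design; see plans/S3797_plan.md).  Proved by helper4. -/

set_option autoImplicit false

namespace Cfsg.Agent.Helper18.T97

variable {X : Type*} [Group X]

/-- the norm `∏_{i<r} y^i u` -/
def t97rk2_norm {U : Type*} [CommGroup U] (y : MulAut U) (r : ℕ) (u : U) : U :=
  ∏ i ∈ Finset.range r, (y ^ i) u

theorem t97rk2_norm_shift {U : Type*} [CommGroup U] (y : MulAut U) (r : ℕ) (hy : y ^ r = 1) (u : U) :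
    t97rk2_norm y r (y u) = t97rk2_norm y r u := by
  unfold t97rk2_norm
  have h1 : ∀ i : ℕ, (y ^ i) (y u) = (y ^ (i + 1)) u := by
    intro i
    rw [pow_succ, MulAut.mul_apply]
  have h2 : ∏ i ∈ Finset.range r, (y ^ i) (y u) = ∏ i ∈ Finset.range r, (y ^ (i + 1)) u :=
    Finset.prod_congr rfl fun i _ => h1 i
  rw [h2]
  have h3 := Finset.prod_range_succ' (fun i => (y ^ i) u) r
  have h4 := Finset.prod_range_succ (fun i => (y ^ i) u) r
  rw [h4] at h3
  simp only [hy, pow_zero, MulAut.one_apply] at h3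
  exact (mul_right_cancel h3).symm

theorem t97rk2_norm_fixed {U : Type*} [CommGroup U] (y : MulAut U) (r : ℕ) (hy : y ^ r = 1) (u : U) :
    y (t97rk2_norm y r u) = t97rk2_norm y r u := by
  have h : y (t97rk2_norm y r u) = t97rk2_norm y r (y u) := by
    unfold t97rk2_norm
    rw [map_prod]
    refine Finset.prod_congr rfl fun i _ => ?_
    rw [← MulAut.mul_apply, ← MulAut.mul_apply, ← pow_succ, ← pow_succ']
  rw [h, t97rk2_norm_shift y r hy]

theorem t97rk2_norm_of_fixed {U : Type*} [CommGroup U] (y : MulAut U) (r : ℕ) (u : U) (hu : y u = u) :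
    t97rk2_norm y r u = u ^ r := by
  unfold t97rk2_norm
  have h : ∀ i : ℕ, (y ^ i) u = u := by
    intro i
    induction i with
    | zero => rfl
    | succ i ih => rw [pow_succ, MulAut.mul_apply, hu, ih]
  rw [Finset.prod_congr rfl fun i _ => h i, Finset.prod_const, Finset.card_range]

theorem t97rk2_norm_div {U : Type*} [CommGroup U] (y : MulAut U) (r : ℕ) (u v : U) :
    t97rk2_norm y r (u / v) = t97rk2_norm y r u / t97rk2_norm y r v := by
  unfold t97rk2_norm
  rw [← Finset.prod_div_distrib]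
  refine Finset.prod_congr rfl fun i _ => ?_
  rw [map_div]

theorem t97rk2_pow_odd {U : Type*} [CommGroup U] (hU : ∀ u : U, u ^ 2 = 1) (r : ℕ) (hr : Odd r)
    (u : U) : u ^ r = u := by
  obtain ⟨k, rfl⟩ := hr
  rw [pow_succ, pow_mul, hU, one_pow, one_mul]

theorem t97rk2_pow_div_mem {U : Type*} [CommGroup U] (y : MulAut U) (u : U) (i : ℕ) :
    (y ^ i) u / u ∈ comSub y := by
  induction i with
  | zero =>
    rw [pow_zero, MulAut.one_apply, div_self']
    exact Subgroup.one_mem _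
  | succ i ih =>
    have h : (y ^ (i + 1)) u / u = (y ((y ^ i) u) / (y ^ i) u) * ((y ^ i) u / u) := by
      rw [pow_succ', MulAut.mul_apply, div_mul_div_cancel]
    rw [h]
    exact Subgroup.mul_mem _ ((mem_comSub y _).2 ⟨_, rfl⟩) ih

/-- Coprime splitting `U = C_U(y) × [U, y]` (orthogonal).  `θ := (y / id) : U →* U` has kernel `fixSub y` and range `comSub y`, so `|fix| * |com| = |U|`.  `fix ⊓ com = ⊥`: if `u = y v / v` is
fixed by `y` then `u^r = ∏_{i<r} y^i u = y^r v / v = 1` (telescoping, `y^r = 1`), and `u^2 = 1`, `r` odd: `u = 1`.  Hence `fix ⊔ com = ⊤` (cardinality).  Invariance: `A` is commutative.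
Orthogonality: for `u` fixed and `v = y w / w`: `β u (y w) = β (y u) (y w) = β u w`, so `β u v = β u (y w) * β u w⁻¹ = 1` (`β u w⁻¹ = (β u w)⁻¹` from `hβr`); similarly on the other side. -/
theorem rank_split (r : ℕ) [Fact r.Prime] (hr2 : r ≠ 2) {U : Type*} [CommGroup U] [Finite U]
    (hU : ∀ u : U, u ^ 2 = 1) {M : Type*} [Group M] (β : U → U → M)
    (hβl : ∀ u u' v : U, β (u * u') v = β u v * β u' v)
    (hβr : ∀ u v v' : U, β u (v * v') = β u v * β u v')
    (A : Subgroup (MulAut U)) (hAc : ∀ a ∈ A, ∀ b ∈ A, a * b = b * a) (hAr : ∀ a ∈ A, a ^ r = 1)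
    (hinv : ∀ a ∈ A, ∀ u v : U, β (a u) (a v) = β u v) (y : MulAut U) (hy : y ∈ A) :
    fixSub y ⊓ comSub y = ⊥ ∧ fixSub y ⊔ comSub y = ⊤ ∧
    (∀ a ∈ A, ∀ u ∈ fixSub y, a u ∈ fixSub y) ∧ (∀ a ∈ A, ∀ u ∈ comSub y, a u ∈ comSub y) ∧
    (∀ u ∈ fixSub y, ∀ v ∈ comSub y, β u v = 1 ∧ β v u = 1) := by
  have hrodd : Odd r := (Fact.out : r.Prime).odd_of_ne_two hr2
  have hyr : y ^ r = 1 := hAr y hy
  have hβr1 : ∀ u : U, β u 1 = 1 := by
    intro u
    have h := hβr u 1 1
    rw [mul_one] at h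
    exact (mul_eq_left.mp h.symm)
  have hβl1 : ∀ v : U, β 1 v = 1 := by
    intro v
    have h := hβl 1 1 v
    rw [mul_one] at h
    exact (mul_eq_left.mp h.symm)
  have hβrinv : ∀ u w : U, β u w⁻¹ = (β u w)⁻¹ := by
    intro u w
    have h := hβr u w w⁻¹
    rw [mul_inv_cancel, hβr1] at h
    exact (eq_inv_of_mul_eq_one_right h.symm)
  have hβlinv : ∀ u w : U, β w⁻¹ u = (β w u)⁻¹ := by
    intro u w
    have h := hβl w w⁻¹ u
    rw [mul_inv_cancel, hβl1] at h
    exact (eq_inv_of_mul_eq_one_right h.symm)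
  refine ⟨?_, ?_, ?_, ?_, ?_⟩
  · rw [eq_bot_iff]
    intro u hu
    rw [Subgroup.mem_inf] at hu
    obtain ⟨hfix, hcom⟩ := hu
    rw [mem_fixSub] at hfix
    rw [mem_comSub] at hcom
    obtain ⟨v, hv⟩ := hcom
    rw [Subgroup.mem_bot]
    have h1 : t97rk2_norm y r u = u ^ r := t97rk2_norm_of_fixed y r u hfix
    have h2 : t97rk2_norm y r u = 1 := by
      rw [← hv, t97rk2_norm_div, t97rk2_norm_shift y r hyr, div_self']
    rw [← t97rk2_pow_odd hU r hrodd u, ← h1, h2]
  · rw [eq_top_iff]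
    intro u _
    have hN : t97rk2_norm y r u ∈ fixSub y := by
      rw [mem_fixSub]
      exact t97rk2_norm_fixed y r hyr u
    have hD : u / t97rk2_norm y r u ∈ comSub y := by
      have h1 : u / t97rk2_norm y r u = ∏ i ∈ Finset.range r, (u / (y ^ i) u) := by
        rw [Finset.prod_div_distrib, Finset.prod_const, Finset.card_range,
          t97rk2_pow_odd hU r hrodd u]
        rfl
      rw [h1]
      refine Subgroup.prod_mem _ fun i _ => ?_
      have h2 : u / (y ^ i) u = ((y ^ i) u / u)⁻¹ := by rw [inv_div]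
      rw [h2]
      exact Subgroup.inv_mem _ (t97rk2_pow_div_mem y u i)
    have h3 : u = t97rk2_norm y r u * (u / t97rk2_norm y r u) := by
      rw [mul_div_cancel]
    rw [h3]
    exact Subgroup.mul_mem_sup hN hD
  · intro a ha u hu
    rw [mem_fixSub] at hu ⊢
    rw [← MulAut.mul_apply, hAc y hy a ha, MulAut.mul_apply, hu]
  · intro a ha u hu
    rw [mem_comSub] at hu ⊢
    obtain ⟨v, rfl⟩ := hu
    refine ⟨a v, ?_⟩
    rw [map_div, ← MulAut.mul_apply, ← MulAut.mul_apply, hAc y hy a ha]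
  · intro u hu v hv
    rw [mem_fixSub] at hu
    rw [mem_comSub] at hv
    obtain ⟨w, rfl⟩ := hv
    constructor
    · rw [div_eq_mul_inv, hβr, hβrinv]
      have h := hinv y hy u w
      rw [hu] at h
      rw [h, mul_inv_cancel]
    · rw [div_eq_mul_inv, hβl, hβlinv]
      have h := hinv y hy w u
      rw [hu] at h
      rw [h, mul_inv_cancel]

end Cfsg.Agent.Helper18.T97
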