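import Mathlib
import Cfsg.Agent.Lib.T97.T97Defs
import Cfsg.Agent.Lib.T97.T97RK1
import Cfsg.Agent.Lib.T97.T97RK2

/-! S3797 piece T97-RK3 (helper18 design; see plans/S3797_plan.md).  STUB: overwrite this file, keeping the
statement, the namespace and the imports (you may ADD imports of library files outside Lib/T97, or of
T97 files that are listed as dependencies).  Aux lemmas: fresh names with prefix `t97rk3_`. -/

set_option autoImplicit false

namespace Cfsg.Agent.Helper18.T97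

variable {X : Type*} [Group X]

/-- restriction of a group of automorphisms to an invariant subgroup -/
def t97rk3_res {U : Type*} [CommGroup U] (A : Subgroup (MulAut U)) (V : Subgroup U)
    (hV : ∀ a ∈ A, ∀ u ∈ V, a u ∈ V) : ↥A →* MulAut ↥V where
  toFun a :=
    { toFun := fun v => ⟨a.1 v.1, hV a.1 a.2 v.1 v.2⟩
      invFun := fun v => ⟨a.1⁻¹ v.1, hV a.1⁻¹ (A.inv_mem a.2) v.1 v.2⟩
      left_inv := fun v => Subtype.ext (MulAut.inv_apply_self U a.1 v.1)
      right_inv := fun v => Subtype.ext (MulAut.apply_inv_self U a.1 v.1)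
      map_mul' := fun v w => Subtype.ext (map_mul a.1 v.1 w.1) }
  map_one' := by
    apply MulEquiv.ext
    intro v
    rfl
  map_mul' := by
    intro a b
    apply MulEquiv.ext
    intro v
    rfl

theorem t97rk3_res_apply {U : Type*} [CommGroup U] (A : Subgroup (MulAut U)) (V : Subgroup U)
    (hV : ∀ a ∈ A, ∀ u ∈ V, a u ∈ V) (a : ↥A) (v : ↥V) :
    ((t97rk3_res A V hV a v : ↥V) : U) = a.1 v.1 := rfl

/-- the join of two subgroups meeting trivially is at least as big as the product -/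
theorem t97rk3_card_sup {U : Type*} [CommGroup U] [Finite U] (H K : Subgroup U) (h : H ⊓ K = ⊥) :
    Nat.card H * Nat.card K ≤ Nat.card ↥(H ⊔ K) := by
  classical
  rw [← Nat.card_prod]
  apply Nat.card_le_card_of_injective
    (fun p : ↥H × ↥K => (⟨p.1.1 * p.2.1, Subgroup.mul_mem _ ((le_sup_left : H ≤ H ⊔ K) p.1.2)
      ((le_sup_right : K ≤ H ⊔ K) p.2.2)⟩ : ↥(H ⊔ K)))
  rintro ⟨a, b⟩ ⟨c, d⟩ heq
  have h1 : a.1 * b.1 = c.1 * d.1 := congrArg Subtype.val heq
  have h2 : c.1⁻¹ * a.1 = d.1 * b.1⁻¹ := by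
    calc c.1⁻¹ * a.1 = c.1⁻¹ * (a.1 * b.1) * b.1⁻¹ := by group
      _ = c.1⁻¹ * (c.1 * d.1) * b.1⁻¹ := by rw [h1]
      _ = d.1 * b.1⁻¹ := by group
  have h3 : c.1⁻¹ * a.1 ∈ H ⊓ K := by
    refine ⟨H.mul_mem (H.inv_mem c.2) a.2, ?_⟩
    rw [h2]
    exact K.mul_mem d.2 (K.inv_mem b.2)
  rw [h, Subgroup.mem_bot] at h3
  have hac : a.1 = c.1 := by
    calc a.1 = c.1 * (c.1⁻¹ * a.1) := by group
      _ = c.1 := by rw [h3, mul_one]
  have hbd : b.1 = d.1 := by
    rw [hac] at h1
    exact mul_left_cancel h1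
  exact Prod.ext (Subtype.ext hac) (Subtype.ext hbd)

universe u

theorem t97rk3_aux (r : ℕ) [Fact r.Prime] (hr2 : r ≠ 2) {M : Type*} [Group M] (n : ℕ) :
    ∀ {U : Type u} [CommGroup U] [Finite U], Nat.card U ≤ n →
    (∀ u : U, u ^ 2 = 1) → ∀ (β : U → U → M),
    (∀ u u' v : U, β (u * u') v = β u v * β u' v) →
    (∀ u v v' : U, β u (v * v') = β u v * β u v') →
    (∀ u : U, β u u = 1) → ∀ (A : Subgroup (MulAut U)),
    (∀ a ∈ A, ∀ b ∈ A, a * b = b * a) → (∀ a ∈ A, a ^ r = 1) →
    (∀ a ∈ A, ∀ u v : U, β (a u) (a v) = β u v) → ∀ (k : ℕ), r ^ k ≤ Nat.card A →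
    ∃ I : Subgroup U, (∀ u ∈ I, ∀ v ∈ I, β u v = 1) ∧ 2 ^ k ≤ Nat.card I := by
  induction n with
  | zero =>
    intro U _ _ hn
    exfalso
    have := Nat.card_pos (α := U)
    omega
  | succ n ih =>
    intro U _ _ hn hU β hβl hβr halt A hAc hAr hinv k hk
    classical
    have hrp : r.Prime := Fact.out
    have hβ1l : ∀ v, β 1 v = 1 := by
      intro v
      have h := hβl 1 1 v
      rw [one_mul] at h
      exact left_eq_mul.mp h
    have hβ1r : ∀ v, β v 1 = 1 := by
      intro v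
      have h := hβr v 1 1
      rw [one_mul] at h
      exact left_eq_mul.mp h
    rcases Nat.eq_zero_or_pos k with hk0 | hkpos
    · refine ⟨⊥, ?_, ?_⟩
      · intro u hu v _
        rw [Subgroup.mem_bot] at hu
        rw [hu]
        exact hβ1l v
      · rw [hk0, Subgroup.card_bot, pow_zero]
    by_cases hfix : ∃ y ∈ A, y ≠ 1 ∧ ∃ u : U, u ≠ 1 ∧ y u = u
    · obtain ⟨y, hyA, hy1, u0, hu01, hyu0⟩ := hfix
      obtain ⟨hinf, hsup, hinv1, hinv2, horth⟩ :=
        rank_split r hr2 hU β hβl hβr A hAc hAr hinv y hyA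
      have hU1top : fixSub y ≠ ⊤ := by
        intro h
        apply hy1
        apply MulEquiv.ext
        intro u
        have hu : u ∈ fixSub y := by rw [h]; exact Subgroup.mem_top u
        exact hu
      have hU2top : comSub y ≠ ⊤ := by
        intro h
        have hmem : u0 ∈ fixSub y ⊓ comSub y := ⟨hyu0, by rw [h]; exact Subgroup.mem_top _⟩
        rw [hinf, Subgroup.mem_bot] at hmem
        exact hu01 hmem
      have hc1 : Nat.card (fixSub y) ≤ n := by
        have h1 := Subgroup.card_le_card_group (fixSub y)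
        have h2 : Nat.card (fixSub y) ≠ Nat.card U :=
          fun h => hU1top ((Subgroup.card_eq_iff_eq_top _).mp h)
        omega
      have hc2 : Nat.card (comSub y) ≤ n := by
        have h1 := Subgroup.card_le_card_group (comSub y)
        have h2 : Nat.card (comSub y) ≠ Nat.card U :=
          fun h => hU2top ((Subgroup.card_eq_iff_eq_top _).mp h)
        omega
      -- a general restriction step
      have hstep : ∀ (V : Subgroup U) (hV : ∀ a ∈ A, ∀ u ∈ V, a u ∈ V), Nat.card V ≤ n →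
          ∃ (a₁ : ℕ) (I : Subgroup U), I ≤ V ∧ (∀ u ∈ I, ∀ v ∈ I, β u v = 1) ∧
            2 ^ a₁ ≤ Nat.card I ∧ Nat.card (t97rk3_res A V hV).range = r ^ a₁ := by
        intro V hV hcV
        have hexp : ∀ g ∈ (t97rk3_res A V hV).range, g ^ r = 1 := by
          rintro g ⟨x, rfl⟩
          rw [← map_pow]
          have : x ^ r = 1 := Subtype.ext (by rw [Subgroup.coe_pow]; exact hAr x.1 x.2)
          rw [this, map_one]
        have hpg : IsPGroup r ↥(t97rk3_res A V hV).range := by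
          intro g
          refine ⟨1, ?_⟩
          rw [pow_one]
          exact Subtype.ext (by rw [Subgroup.coe_pow]; exact hexp g.1 g.2)
        obtain ⟨a₁, ha₁⟩ := IsPGroup.iff_card.mp hpg
        obtain ⟨I, hI, hcI⟩ := ih (U := ↥V) hcV
          (fun u => Subtype.ext (by rw [Subgroup.coe_pow]; exact hU u.1))
          (fun u v => β u.1 v.1)
          (fun u u' v => hβl u.1 u'.1 v.1)
          (fun u v v' => hβr u.1 v.1 v'.1)
          (fun u => halt u.1)
          (t97rk3_res A V hV).range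
          (by
            rintro a ⟨x, rfl⟩ b ⟨z, rfl⟩
            rw [← map_mul, ← map_mul]
            congr 1
            exact Subtype.ext (hAc x.1 x.2 z.1 z.2))
          hexp
          (by
            rintro a ⟨x, rfl⟩ u v
            exact hinv x.1 x.2 u.1 v.1)
          a₁ (le_of_eq ha₁.symm)
        refine ⟨a₁, I.map V.subtype, Subgroup.map_subtype_le I, ?_, ?_, ha₁⟩
        · intro u hu v hv
          obtain ⟨u', hu', rfl⟩ := Subgroup.mem_map.mp hu
          obtain ⟨v', hv', rfl⟩ := Subgroup.mem_map.mp hv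
          exact hI u' hu' v' hv'
        · rw [Subgroup.card_subtype]
          exact hcI
      obtain ⟨a₁, I₁, hI₁le, hI₁, hcI₁, ha₁⟩ := hstep (fixSub y) hinv1 hc1
      obtain ⟨a₂, I₂, hI₂le, hI₂, hcI₂, ha₂⟩ := hstep (comSub y) hinv2 hc2
      -- `|A| ≤ |A₁| * |A₂|`
      have hinj : Function.Injective (fun x : ↥A =>
          (((t97rk3_res A (fixSub y) hinv1).rangeRestrict x,
            (t97rk3_res A (comSub y) hinv2).rangeRestrict x) :
            ↥(t97rk3_res A (fixSub y) hinv1).range × ↥(t97rk3_res A (comSub y) hinv2).range)) := by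
        intro x x' h
        have h1 : t97rk3_res A (fixSub y) hinv1 x = t97rk3_res A (fixSub y) hinv1 x' :=
          congrArg (fun p => (p.1 : MulAut ↥(fixSub y))) h
        have h2 : t97rk3_res A (comSub y) hinv2 x = t97rk3_res A (comSub y) hinv2 x' :=
          congrArg (fun p => (p.2 : MulAut ↥(comSub y))) h
        apply Subtype.ext
        apply MulEquiv.ext
        intro u
        have hu : u ∈ fixSub y ⊔ comSub y := by rw [hsup]; exact Subgroup.mem_top u
        obtain ⟨u₁, hu₁, u₂, hu₂, rfl⟩ := Subgroup.mem_sup.mp hu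
        rw [map_mul, map_mul]
        have e1 : x.1 u₁ = x'.1 u₁ := by
          have := congrArg Subtype.val (DFunLike.congr_fun h1 (⟨u₁, hu₁⟩ : ↥(fixSub y)))
          exact this
        have e2 : x.1 u₂ = x'.1 u₂ := by
          have := congrArg Subtype.val (DFunLike.congr_fun h2 (⟨u₂, hu₂⟩ : ↥(comSub y)))
          exact this
        rw [e1, e2]
      have hcardA : Nat.card A ≤ r ^ a₁ * r ^ a₂ := by
        have := Nat.card_le_card_of_injective _ hinj
        rwa [Nat.card_prod, ha₁, ha₂] at this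
      have hka : k ≤ a₁ + a₂ := by
        have : r ^ k ≤ r ^ (a₁ + a₂) := by rw [pow_add]; exact le_trans hk hcardA
        exact (Nat.pow_le_pow_iff_right hrp.one_lt).mp this
      refine ⟨I₁ ⊔ I₂, ?_, ?_⟩
      · intro x hx z hz
        obtain ⟨x₁, hx₁, x₂, hx₂, rfl⟩ := Subgroup.mem_sup.mp hx
        obtain ⟨z₁, hz₁, z₂, hz₂, rfl⟩ := Subgroup.mem_sup.mp hz
        rw [hβl, hβr, hβr]
        have e1 : β x₁ z₁ = 1 := hI₁ x₁ hx₁ z₁ hz₁
        have e2 : β x₁ z₂ = 1 := (horth x₁ (hI₁le hx₁) z₂ (hI₂le hz₂)).1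
        have e3 : β x₂ z₁ = 1 := (horth z₁ (hI₁le hz₁) x₂ (hI₂le hx₂)).2
        have e4 : β x₂ z₂ = 1 := hI₂ x₂ hx₂ z₂ hz₂
        rw [e1, e2, e3, e4, one_mul, one_mul]
      · have hbot : I₁ ⊓ I₂ = ⊥ := by
          rw [eq_bot_iff, ← hinf]
          exact inf_le_inf hI₁le hI₂le
        have h1 := t97rk3_card_sup I₁ I₂ hbot
        calc 2 ^ k ≤ 2 ^ (a₁ + a₂) := Nat.pow_le_pow_right (by norm_num) hka
          _ = 2 ^ a₁ * 2 ^ a₂ := pow_add 2 a₁ a₂
          _ ≤ Nat.card I₁ * Nat.card I₂ := Nat.mul_le_mul hcI₁ hcI₂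
          _ ≤ Nat.card ↥(I₁ ⊔ I₂) := h1
    · -- all nonidentity elements are fixed-point-free
      push Not at hfix
      have hfpf : ∀ a ∈ A, a ≠ 1 → ∀ u : U, a u = u → u = 1 := by
        intro a ha ha1 u hu
        by_contra hu1
        exact hfix a ha ha1 u hu1 hu
      have hle := rank_fpf r hr2 hU A hAc hAr hfpf
      have hk1 : k = 1 := by
        have : r ^ k ≤ r ^ 1 := by rw [pow_one]; exact le_trans hk hle
        have := (Nat.pow_le_pow_iff_right hrp.one_lt).mp this
        omega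
      subst hk1
      rw [pow_one] at hk
      have h1lt : 1 < Nat.card A := lt_of_lt_of_le hrp.one_lt hk
      obtain ⟨a', ha'⟩ : ∃ a' : ↥A, a' ≠ 1 := by
        have : Nontrivial ↥A := (Finite.one_lt_card_iff_nontrivial).1 h1lt
        exact exists_ne 1
      obtain ⟨u, hu1⟩ : ∃ u : U, u ≠ 1 := by
        by_contra hcon
        push Not at hcon
        apply ha'
        apply Subtype.ext
        apply MulEquiv.ext
        intro u
        rw [hcon u, map_one, map_one]
      have hz : ∀ v ∈ Subgroup.zpowers u, v = 1 ∨ v = u := by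
        intro v hv
        obtain ⟨i, rfl⟩ := Subgroup.mem_zpowers_iff.mp hv
        have h2 : u ^ (2 : ℤ) = 1 := by
          have := hU u
          rw [← zpow_natCast] at this
          exact_mod_cast this
        rcases Int.emod_two_eq_zero_or_one i with h | h
        · left
          rw [← Int.emod_add_mul_ediv i 2, zpow_add, zpow_mul, h2, one_zpow, h, zpow_zero, one_mul]
        · right
          rw [← Int.emod_add_mul_ediv i 2, zpow_add, zpow_mul, h2, one_zpow, h, zpow_one, mul_one]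
      refine ⟨Subgroup.zpowers u, ?_, ?_⟩
      · intro x hx z hz'
        rcases hz x hx with rfl | rfl
        · exact hβ1l z
        · rcases hz z hz' with rfl | rfl
          · exact hβ1r _
          · exact halt _
      · rw [Nat.card_zpowers, orderOf_eq_prime (hU u) hu1, pow_one]

/-- RANK LEMMA: strong induction on `Nat.card U` (generalising `U, β, A, k`).  `A` is an `r`-group; write `Nat.card A = r^a`, `a ≥ k`.  If `a = 0` take `I = ⊥`.
CASE 1: some `y ∈ A`, `y ≠ 1`, has a nontrivial fixed point.  `U₁ := fixSub y`, `U₂ := comSub y` are proper (`U₂ ≠ ⊥` since `y ≠ 1`; `U₁ ≠ ⊥`), `A`-invariant, `U = U₁ × U₂`, mutually orthogonal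
(`rank_split`).  Restriction gives `ρ_i : ↥A →* MulAut ↥U_i` with kernels `K_i`, `K₁ ⊓ K₂ = ⊥` (an automorphism trivial on `U₁` and `U₂` is trivial), so `|K₁| * |K₂| ≤ |A|` and the images
`A_i := ρ_i.range` satisfy `|A₁| * |A₂| ≥ |A|`; with `|A_i| = r^(a_i)`: `a₁ + a₂ ≥ a`.  Induction (`|U_i| < |U|`, `β` restricted) gives isotropic `I_i ≤ U_i` with `|I_i| ≥ 2^(a_i)`; `I := I₁ ⊔ I₂` (images in `U`)
is isotropic (cross terms vanish by orthogonality, `β (u₁ u₂) (v₁ v₂)` expands by `hβl`, `hβr`) and `|I| = |I₁| * |I₂| ≥ 2^a ≥ 2^k` (`I₁ ⊓ I₂ ≤ U₁ ⊓ U₂ = ⊥`).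
CASE 2: every `y ≠ 1` in `A` is fixed-point-free: `rank_fpf` gives `|A| ≤ r`, so `k ≤ a ≤ 1`; if `k = 1` then `A ≠ ⊥` so `U` is nontrivial; take `u ≠ 1`, `I := zpowers u = {1, u}` (isotropic by `halt`
and `β 1 _ = 1`), `|I| = 2`. -/
theorem rank_lemma (r : ℕ) [Fact r.Prime] (hr2 : r ≠ 2) {U : Type*} [CommGroup U] [Finite U]
    (hU : ∀ u : U, u ^ 2 = 1) {M : Type*} [Group M] (β : U → U → M)
    (hβl : ∀ u u' v : U, β (u * u') v = β u v * β u' v)
    (hβr : ∀ u v v' : U, β u (v * v') = β u v * β u v')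
    (halt : ∀ u : U, β u u = 1) (A : Subgroup (MulAut U))
    (hAc : ∀ a ∈ A, ∀ b ∈ A, a * b = b * a) (hAr : ∀ a ∈ A, a ^ r = 1)
    (hinv : ∀ a ∈ A, ∀ u v : U, β (a u) (a v) = β u v) (k : ℕ) (hk : r ^ k ≤ Nat.card A) :
    ∃ I : Subgroup U, (∀ u ∈ I, ∀ v ∈ I, β u v = 1) ∧ 2 ^ k ≤ Nat.card I :=
  t97rk3_aux r hr2 (Nat.card U) le_rfl hU β hβl hβr halt A hAc hAr hinv k hk

end Cfsg.Agent.Helper18.T97
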