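import Mathlib
import Cfsg.Agent.Lib.T97.T97Defs
import Cfsg.Agent.Lib.T97.T97INVOL

/-! S3797 piece T97-ZCEN (helper18 design; see plans/S3797_plan.md).  Proved by helper2. -/

set_option autoImplicit false

namespace Cfsg.Agent.Helper18.T97

variable {X : Type*} [Group X]

/-- iterated conjugation: if `a z a⁻¹ = z * i` and `a i a⁻¹ = i` then `a^j z a^(-j) = z * i^j`. -/
theorem t97zcen_iter (a z i : X) (h1 : a * z * a⁻¹ = z * i) (h2 : a * i * a⁻¹ = i) (j : ℕ) :
    a ^ j * z * (a ^ j)⁻¹ = z * i ^ j := by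
  induction j with
  | zero => simp
  | succ j ih =>
    have e : a ^ (j + 1) * z * (a ^ (j + 1))⁻¹ = a * (a ^ j * z * (a ^ j)⁻¹) * a⁻¹ := by
      rw [pow_succ']; group
    rw [e, ih]
    have e2 : a * (z * i ^ j) * a⁻¹ = (a * z * a⁻¹) * (a * i * a⁻¹) ^ j := by
      rw [conj_pow]; group
    rw [e2, h1, h2, pow_succ', mul_assoc]

/-- An odd-order element centralising all involutions centralises every abelian normal subgroup `Z ≤ R`.  `a` normalises `Z`; `ψ : Z → Z`, `z ↦ z⁻¹ * (a z a⁻¹)` is a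
homomorphism (`Z` abelian).  If `ψ` is nontrivial, its range is a nontrivial 2-group (`Z ≤ R`, `h.R2`) hence contains an involution `i = ψ z'` (Cauchy);
`i ∈ omegaZ R` (`invol_mem h`), so `a i a⁻¹ = i` (`ha`).  Telescoping in the abelian `Z`: `∏_{j < o} a^j i a^(-j) = z'⁻¹ * (a^o z' a^(-o)) = 1` for `o = orderOf a`; the left side is
`i^o`; `o` odd and `i^2 = 1` give `i = 1`: contradiction. -/
theorem centralizes_abelian_normal [Finite X] {R : Subgroup X} (h : Setup R) (Z : Subgroup X)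
    (hZn : Z.Normal) (hZR : Z ≤ R) (hZc : ∀ a ∈ Z, ∀ b ∈ Z, a * b = b * a) (a : X)
    (ha : a ∈ CE R) (hodd : Odd (orderOf a)) : ∀ z ∈ Z, a * z = z * a := by
  intro z hz
  by_contra hne
  set w := a * z * a⁻¹ with hw
  have hwZ : w ∈ Z := hZn.conj_mem z hz a
  set c := z⁻¹ * w with hc
  have hcZ : c ∈ Z := Z.mul_mem (Z.inv_mem hz) hwZ
  have hc1 : c ≠ 1 := by
    intro h1
    apply hne
    have : w = z := by
      have := congrArg (fun t => z * t) h1
      simpa [hc] using this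
    rw [hw] at this
    calc a * z = a * z * a⁻¹ * a := by group
      _ = z * a := by rw [this]
  -- order of c is a power of 2
  obtain ⟨k, hk⟩ : ∃ k : ℕ, orderOf c = 2 ^ k := by
    obtain ⟨k, hk⟩ := (IsPGroup.iff_orderOf.mp h.R2) ⟨c, hZR hcZ⟩
    exact ⟨k, by rw [← hk, Subgroup.orderOf_mk]⟩
  have hk1 : 1 ≤ k := by
    rcases Nat.eq_zero_or_pos k with h0 | h0
    · rw [h0, pow_zero, orderOf_eq_one_iff] at hk
      exact absurd hk hc1
    · exact h0
  set N := 2 ^ (k - 1) with hN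
  have hN2 : N * 2 = 2 ^ k := by
    rw [hN, ← pow_succ]; congr 1; omega
  set i := c ^ N with hi
  set z' := z ^ N with hz'
  have hi2 : i ^ 2 = 1 := by
    rw [hi, ← pow_mul, hN2, ← hk, pow_orderOf_eq_one]
  have hi1 : i ≠ 1 := by
    rw [hi]
    apply pow_ne_one_of_lt_orderOf
    · rw [hN]; positivity
    · rw [hk, hN]; apply Nat.pow_lt_pow_right (by norm_num); omega
  -- i = z'⁻¹ * (a z' a⁻¹)
  have hcomm : Commute z⁻¹ w := by
    have := hZc z⁻¹ (Z.inv_mem hz) w hwZ
    exact this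
  have hiz : i = z'⁻¹ * (a * z' * a⁻¹) := by
    rw [hi, hc, hcomm.mul_pow, hw, conj_pow, hz', inv_pow]
  have hz'Z : z' ∈ Z := Z.pow_mem hz N
  have hiE : i ∈ omegaZ R := invol_mem h i hi1 hi2
  have hai : a * i * a⁻¹ = i := by
    have := (Subgroup.mem_centralizer_iff.mp ha) i hiE
    calc a * i * a⁻¹ = i * a * a⁻¹ := by rw [this]
      _ = i := by group
  have haz : a * z' * a⁻¹ = z' * i := by
    rw [hiz]; group
  have hiter := t97zcen_iter a z' i haz hai (orderOf a)
  rw [pow_orderOf_eq_one, inv_one, one_mul, mul_one] at hiter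
  have hio : i ^ orderOf a = 1 := by
    have := congrArg (fun t => z'⁻¹ * t) hiter
    simpa using this.symm
  have hd1 : orderOf i ∣ orderOf a := orderOf_dvd_of_pow_eq_one hio
  have hd2 : orderOf i ∣ 2 := orderOf_dvd_of_pow_eq_one hi2
  have ho : orderOf i = 2 := by
    rcases (Nat.dvd_prime Nat.prime_two).mp hd2 with h1 | h2
    · rw [orderOf_eq_one_iff] at h1; exact absurd h1 hi1
    · exact h2
  rw [ho] at hd1
  exact (Nat.not_even_iff_odd.mpr hodd) (even_iff_two_dvd.mpr hd1)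

end Cfsg.Agent.Helper18.T97
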