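import Mathlib
import Cfsg.Agent.Lib.T97.T97Defs
import Cfsg.Agent.Lib.T97.T97RK3
import Cfsg.Agent.Lib.T97.T97ZCEN
import Cfsg.Agent.Lib.T97.T97FAITH
import Cfsg.Agent.Lib.NG.NGICRIT

/-! S3797 piece T97-RKAPP (helper18 design; see plans/S3797_plan.md).  Proved by helper4. -/

set_option autoImplicit false
set_option linter.style.haveILetI false

namespace Cfsg.Agent.Helper18.T97

section core

variable {K : Type*} [Group K]

/-- the commutator `a b a⁻¹ b⁻¹` -/
def t97rkapp_cm (a b : K) : K := a * b * a⁻¹ * b⁻¹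

theorem t97rkapp_cm_mul_central (a b z z' : K) (hz : ∀ k, z * k = k * z)
    (hz' : ∀ k, z' * k = k * z') :
    t97rkapp_cm (a * z) (b * z') = t97rkapp_cm a b := by
  unfold t97rkapp_cm
  have h1 : (a * z) * (b * z') * (a * z)⁻¹ * (b * z')⁻¹
      = a * (z * (b * z') * z⁻¹) * a⁻¹ * z'⁻¹ * b⁻¹ := by group
  rw [h1, hz (b * z'), mul_inv_cancel_right]
  have h2 : a * (b * z') * a⁻¹ * z'⁻¹ * b⁻¹ = a * b * (z' * a⁻¹ * z'⁻¹) * b⁻¹ := by group
  rw [h2, hz' a⁻¹, mul_inv_cancel_right]

/-- the quotient by a subgroup containing all commutators is commutative -/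
@[reducible] def t97rkapp_commGroup (N : Subgroup K) [N.Normal]
    (hcm : ∀ a b : K, a * b * a⁻¹ * b⁻¹ ∈ N) : CommGroup (K ⧸ N) :=
  { (QuotientGroup.Quotient.group N) with
    mul_comm := by
      intro x y
      induction x using QuotientGroup.induction_on with
      | H a =>
        induction y using QuotientGroup.induction_on with
        | H b =>
          rw [← QuotientGroup.mk_mul, ← QuotientGroup.mk_mul, QuotientGroup.eq]
          have h := hcm b⁻¹ a⁻¹
          have e : (a * b)⁻¹ * (b * a) = b⁻¹ * a⁻¹ * b⁻¹⁻¹ * a⁻¹⁻¹ := by group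
          rw [e]
          exact h }


theorem t97rkapp_core [Finite K] (N : Subgroup K) [hN : N.Normal]
    (hcen : ∀ z ∈ N, ∀ k : K, z * k = k * z)
    (hcm : ∀ a b : K, a * b * a⁻¹ * b⁻¹ ∈ N) (hsq : ∀ k : K, k ^ 2 ∈ N)
    (r : ℕ) [Fact r.Prime] (hr2 : r ≠ 2) {A₁ : Type*} [Group A₁] (φ : A₁ →* MulAut K)
    (hφN : ∀ a : A₁, ∀ z ∈ N, φ a z = z)
    (hA₁c : ∀ a b : A₁, a * b = b * a) (hA₁r : ∀ a : A₁, a ^ r = 1)
    (hinj : ∀ a : A₁, (∀ k : K, φ a k * k⁻¹ ∈ N) → a = 1)
    (k : ℕ) (hk : r ^ k ≤ Nat.card A₁) :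
    ∃ H : Subgroup K, N ≤ H ∧ (∀ a ∈ H, ∀ b ∈ H, a * b = b * a) ∧ 2 ^ k ≤ N.relIndex H := by
  classical
  letI cg : CommGroup (K ⧸ N) := t97rkapp_commGroup N hcm
  -- the form
  set β : K ⧸ N → K ⧸ N → K := fun u v => t97rkapp_cm u.out v.out with hβ
  have hβmk : ∀ a b : K, β (QuotientGroup.mk a) (QuotientGroup.mk b) = t97rkapp_cm a b := by
    intro a b
    obtain ⟨z, hz⟩ := QuotientGroup.mk_out_eq_mul N a
    obtain ⟨z', hz'⟩ := QuotientGroup.mk_out_eq_mul N b
    show t97rkapp_cm (QuotientGroup.mk a : K ⧸ N).out (QuotientGroup.mk b : K ⧸ N).out = _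
    rw [hz, hz']
    exact t97rkapp_cm_mul_central a b z z' (hcen z z.2) (hcen z' z'.2)
  have hcmN : ∀ a b : K, t97rkapp_cm a b ∈ N := fun a b => hcm a b
  have hβl : ∀ u u' v : K ⧸ N, β (u * u') v = β u v * β u' v := by
    intro u u' v
    induction u using QuotientGroup.induction_on with
    | H a =>
      induction u' using QuotientGroup.induction_on with
      | H a' =>
        induction v using QuotientGroup.induction_on with
        | H b =>
          have e0 : ((QuotientGroup.mk a : K ⧸ N) * (QuotientGroup.mk a' : K ⧸ N))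
              = (QuotientGroup.mk (a * a') : K ⧸ N) := rfl
          rw [e0, hβmk, hβmk, hβmk]
          have e1 : t97rkapp_cm (a * a') b
              = a * t97rkapp_cm a' b * a⁻¹ * t97rkapp_cm a b := by
            unfold t97rkapp_cm; group
          rw [e1, ← hcen _ (hcmN a' b) a, mul_inv_cancel_right, hcen _ (hcmN a' b)]
  have hβr : ∀ u v v' : K ⧸ N, β u (v * v') = β u v * β u v' := by
    intro u v v'
    induction u using QuotientGroup.induction_on with
    | H a =>
      induction v using QuotientGroup.induction_on with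
      | H b =>
        induction v' using QuotientGroup.induction_on with
        | H b' =>
          have e0 : ((QuotientGroup.mk b : K ⧸ N) * (QuotientGroup.mk b' : K ⧸ N))
              = (QuotientGroup.mk (b * b') : K ⧸ N) := rfl
          rw [e0, hβmk, hβmk, hβmk]
          have e1 : t97rkapp_cm a (b * b')
              = t97rkapp_cm a b * (b * t97rkapp_cm a b' * b⁻¹) := by
            unfold t97rkapp_cm; group
          rw [e1, ← hcen _ (hcmN a b') b, mul_inv_cancel_right]
  have halt : ∀ u : K ⧸ N, β u u = 1 := by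
    intro u
    induction u using QuotientGroup.induction_on with
    | H a =>
      rw [hβmk]
      unfold t97rkapp_cm
      group
  have hU : ∀ u : K ⧸ N, u ^ 2 = 1 := by
    intro u
    induction u using QuotientGroup.induction_on with
    | H a =>
      have e0 : (QuotientGroup.mk a : K ⧸ N) ^ 2 = (QuotientGroup.mk (a ^ 2) : K ⧸ N) := rfl
      rw [e0]
      exact (QuotientGroup.eq_one_iff _).2 (hsq a)
  -- the action
  have hmap : ∀ a : A₁, N.map ((φ a : K ≃* K) : K →* K) = N := by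
    intro a
    ext x
    rw [Subgroup.mem_map]
    constructor
    · rintro ⟨z, hz, rfl⟩
      have : (φ a) z = z := hφN a z hz
      show (φ a) z ∈ N
      rw [this]; exact hz
    · intro hx
      exact ⟨x, hx, hφN a x hx⟩
  let ρ : A₁ →* MulAut (K ⧸ N) :=
    { toFun := fun a => QuotientGroup.congr N N (φ a) (hmap a)
      map_one' := by
        apply MulEquiv.ext
        intro x
        induction x using QuotientGroup.induction_on with
        | H b =>
          rw [QuotientGroup.congr_mk, map_one]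
          rfl
      map_mul' := by
        intro a a'
        apply MulEquiv.ext
        intro x
        induction x using QuotientGroup.induction_on with
        | H b =>
          show QuotientGroup.congr N N (φ (a * a')) (hmap (a * a')) (QuotientGroup.mk b)
            = QuotientGroup.congr N N (φ a) (hmap a)
                (QuotientGroup.congr N N (φ a') (hmap a') (QuotientGroup.mk b))
          rw [QuotientGroup.congr_mk, QuotientGroup.congr_mk, QuotientGroup.congr_mk, map_mul]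
          rfl }
  have hρmk : ∀ (a : A₁) (b : K), ρ a (QuotientGroup.mk b) = QuotientGroup.mk (φ a b) := by
    intro a b
    exact QuotientGroup.congr_mk N N (φ a) (hmap a) b
  have hρinj : Function.Injective ρ := by
    rw [injective_iff_map_eq_one]
    intro a ha
    apply hinj a
    intro b
    have h1 : ρ a (QuotientGroup.mk b) = QuotientGroup.mk b := by rw [ha]; rfl
    rw [hρmk, QuotientGroup.eq] at h1
    have h2 := hN.conj_mem _ h1 (φ a b)
    have e : φ a b * ((φ a b)⁻¹ * b) * (φ a b)⁻¹ = b * (φ a b)⁻¹ := by group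
    rw [e] at h2
    have h3 := N.inv_mem h2
    rwa [mul_inv_rev, inv_inv] at h3
  set A : Subgroup (MulAut (K ⧸ N)) := ρ.range with hA
  have hAc : ∀ a ∈ A, ∀ b ∈ A, a * b = b * a := by
    rintro _ ⟨a, rfl⟩ _ ⟨b, rfl⟩
    rw [← map_mul, ← map_mul, hA₁c a b]
  have hAr : ∀ a ∈ A, a ^ r = 1 := by
    rintro _ ⟨a, rfl⟩
    rw [← map_pow, hA₁r a, map_one]
  have hinv : ∀ a ∈ A, ∀ u v : K ⧸ N, β (a u) (a v) = β u v := by
    rintro _ ⟨a, rfl⟩ u v
    induction u using QuotientGroup.induction_on with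
    | H b =>
      induction v using QuotientGroup.induction_on with
      | H b' =>
        rw [hρmk, hρmk, hβmk, hβmk]
        have e1 : t97rkapp_cm (φ a b) (φ a b') = φ a (t97rkapp_cm b b') := by
          unfold t97rkapp_cm
          rw [map_mul, map_mul, map_mul, map_inv, map_inv]
        rw [e1, hφN a _ (hcmN b b')]
  have hcardA : Nat.card A = Nat.card A₁ :=
    (Nat.card_congr (MonoidHom.ofInjective hρinj).toEquiv).symm
  have hk' : r ^ k ≤ Nat.card A := by rw [hcardA]; exact hk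
  obtain ⟨I, hIiso, hIcard⟩ := rank_lemma r hr2 hU β hβl hβr halt A hAc hAr hinv k hk'
  refine ⟨I.comap (QuotientGroup.mk' N), ?_, ?_, ?_⟩
  · intro z hz
    rw [Subgroup.mem_comap]
    have : (QuotientGroup.mk' N) z = 1 := (QuotientGroup.eq_one_iff z).2 hz
    rw [this]
    exact I.one_mem
  · intro a ha b hb
    rw [Subgroup.mem_comap] at ha hb
    have h1 := hIiso _ ha _ hb
    have h2 : β (QuotientGroup.mk a) (QuotientGroup.mk b) = 1 := h1
    rw [hβmk] at h2
    unfold t97rkapp_cm at h2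
    have h3 : a * b = (a * b * a⁻¹ * b⁻¹) * (b * a) := by group
    rw [h3, h2, one_mul]
  · have e1 : N = (⊥ : Subgroup (K ⧸ N)).comap (QuotientGroup.mk' N) := by
      rw [MonoidHom.comap_bot, QuotientGroup.ker_mk']
    have e2 : N.relIndex (I.comap (QuotientGroup.mk' N)) = Nat.card I := by
      have e3 : N.relIndex (I.comap (QuotientGroup.mk' N))
          = ((⊥ : Subgroup (K ⧸ N)).comap (QuotientGroup.mk' N)).relIndex
              (I.comap (QuotientGroup.mk' N)) := by rw [← e1]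
      rw [e3, Subgroup.relIndex_comap,
        Subgroup.map_comap_eq_self_of_surjective (QuotientGroup.mk'_surjective N),
        Subgroup.relIndex_bot_left]
    rw [e2]
    exact hIcard

end core

variable {X : Type*} [Group X]

/-- Apply the rank lemma to the Thompson critical subgroup.  `Cfsg.Agent.Helper17.NG.exists_crit c.su.Rn c.su.R2` (Lib/NG/NGICRIT.lean) gives `K ≤ R`, `K` normal in `X`, `k^2 ∈ C(K)`,
`k x k⁻¹ x⁻¹ ∈ K ⊓ C(K)` (`k ∈ K`, `x ∈ R`), `R ⊓ C(K) ≤ K`.  `Z := K ⊓ C(K)` is an abelian normal subgroup of `X` inside `R`.  Each `a ∈ A₁` has odd order (`a^r = 1`, `r` odd) and lies in `CE R`, so it centralises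
`Z` (`centralizes_abelian_normal`).  `U := ↥K ⧸ Z.subgroupOf K` is commutative of exponent 2 (build the `CommGroup` instance by hand); `β ū v̄ := k k' k⁻¹ k'⁻¹ ∈ X` (take `M := X`) is well defined (`Z` central in `K`),
bi-multiplicative (values are central in `K` and commute with each other), alternating; `ρ : ↥A₁ →* MulAut U` (conjugation; `A₁` normalises `K` and `Z`) preserves `β` (`a` centralises `Z ∋ [k,k']`), and is injective by
`faithful_on_crit`.  `A := ρ.range`, `Nat.card A = Nat.card A₁ ≥ r^(n+1)`.  `rank_lemma` gives an isotropic `I ≤ U` with `|I| ≥ 2^(n+1)`; `H :=` its preimage in `K` (mapped to `X`): `Z ≤ H ≤ K ≤ R`, `H` abelian (commutators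
of elements of `H` are `β = 1`), `h^2 ∈ K ⊓ C(K) = Z`, and `Z.relIndex H = |I|`. -/
theorem exists_big_abelian [Finite X] {R : Subgroup X} {n : ℕ} {Y : Subgroup X} (c : Ctx R n Y)
    (r : ℕ) [Fact r.Prime] (hr2 : r ≠ 2) (A₁ : Subgroup X) (hA₁C : A₁ ≤ CE R)
    (hA₁c : ∀ a ∈ A₁, ∀ b ∈ A₁, a * b = b * a) (hA₁r : ∀ a ∈ A₁, a ^ r = 1)
    (hA₁ : r ^ (n + 1) ≤ Nat.card A₁) :
    ∃ H Z : Subgroup X, H ≤ R ∧ Z ≤ H ∧ (∀ a ∈ H, ∀ b ∈ H, a * b = b * a) ∧
      (∀ a ∈ H, a ^ 2 ∈ Z) ∧ 2 ^ (n + 1) ≤ Z.relIndex H := by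
  obtain ⟨Kc, hKR, hKn, hsq, hcomm, hCK⟩ := Cfsg.Agent.Helper17.NG.exists_crit c.su.Rn c.su.R2
  haveI := hKn
  set Z : Subgroup X := Kc ⊓ Subgroup.centralizer (Kc : Set X) with hZ
  have hZn : Z.Normal := inferInstance
  have hZK : Z ≤ Kc := inf_le_left
  have hZR : Z ≤ R := hZK.trans hKR
  have hZcen : ∀ z ∈ Z, ∀ k ∈ Kc, z * k = k * z := by
    intro z hz k hk
    exact ((Subgroup.mem_centralizer_iff.mp hz.2) k hk).symm
  have hZc : ∀ a ∈ Z, ∀ b ∈ Z, a * b = b * a := fun a ha b hb => hZcen a ha b (hZK hb)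
  have hrodd : Odd r := (Fact.out : r.Prime).odd_of_ne_two hr2
  have hodd : ∀ a ∈ A₁, Odd (orderOf a) := by
    intro a ha
    have h1 : orderOf a ∣ r := orderOf_dvd_of_pow_eq_one (hA₁r a ha)
    exact Odd.of_dvd_nat hrodd h1
  have hAZ : ∀ a ∈ A₁, ∀ z ∈ Z, a * z = z * a := fun a ha =>
    centralizes_abelian_normal c.su Z hZn hZR hZc a (hA₁C ha) (hodd a ha)
  haveI hNn : (Z.subgroupOf Kc).Normal := hZn.subgroupOf Kc
  let φ : ↥A₁ →* MulAut ↥Kc := (MulAut.conjNormal (H := Kc)).comp A₁.subtype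
  have hφ : ∀ (a : ↥A₁) (k : ↥Kc), ((φ a k : ↥Kc) : X) = (a : X) * k * (a : X)⁻¹ := by
    intro a k
    exact MulAut.conjNormal_apply (a : X) k
  obtain ⟨Hk, hNH, hHab, hHidx⟩ := t97rkapp_core (K := ↥Kc) (Z.subgroupOf Kc)
    (by
      intro z hz k
      apply Subtype.ext
      exact hZcen z.1 (Subgroup.mem_subgroupOf.mp hz) k.1 k.2)
    (by
      intro a b
      rw [Subgroup.mem_subgroupOf]
      exact hcomm a.1 a.2 b.1 (hKR b.2))
    (by
      intro k
      rw [Subgroup.mem_subgroupOf]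
      exact ⟨Kc.pow_mem k.2 2, hsq k.1 k.2⟩)
    r hr2 φ
    (by
      intro a z hz
      apply Subtype.ext
      rw [hφ, hAZ a.1 a.2 z.1 (Subgroup.mem_subgroupOf.mp hz), mul_inv_cancel_right])
    (by
      intro a b
      apply Subtype.ext
      exact hA₁c a.1 a.2 b.1 b.2)
    (by
      intro a
      apply Subtype.ext
      exact hA₁r a.1 a.2)
    (by
      intro a ha
      apply Subtype.ext
      refine faithful_on_crit c.su Kc hKR hKn hCK a.1 (hodd a.1 a.2) (hAZ a.1 a.2) ?_
      intro k hk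
      have h1 := ha ⟨k, hk⟩
      rw [Subgroup.mem_subgroupOf] at h1
      have h2 : (((φ a ⟨k, hk⟩) * (⟨k, hk⟩ : ↥Kc)⁻¹ : ↥Kc) : X) = (a : X) * k * (a : X)⁻¹ * k⁻¹ := by
        rw [Subgroup.coe_mul, hφ]
        rfl
      rw [h2] at h1
      exact h1)
    (n + 1) hA₁
  refine ⟨Hk.map Kc.subtype, Z, ?_, ?_, ?_, ?_, ?_⟩
  · exact (Subgroup.map_subtype_le Hk).trans hKR
  · intro z hz
    exact ⟨⟨z, hZK hz⟩, hNH (Subgroup.mem_subgroupOf.mpr hz), rfl⟩
  · rintro _ ⟨a, ha, rfl⟩ _ ⟨b, hb, rfl⟩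
    exact congrArg Subtype.val (hHab a ha b hb)
  · rintro _ ⟨a, _, rfl⟩
    exact ⟨Kc.pow_mem a.2 2, hsq a.1 a.2⟩
  · have e1 : (Z.subgroupOf Kc).map Kc.subtype = Z := Subgroup.map_subgroupOf_eq_of_le hZK
    have e2 : Z.relIndex (Hk.map Kc.subtype) = (Z.subgroupOf Kc).relIndex Hk := by
      conv_lhs => rw [← e1]
      exact Subgroup.relIndex_map_map_of_injective _ _ Kc.subtype_injective
    rw [e2]
    exact hHidx

end Cfsg.Agent.Helper18.T97
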