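import Mathlib
import Cfsg.Agent.Lib.T97.T97Defs

/-! S3797 piece T97-SCAL (helper18 design; see plans/S3797_plan.md).  STUB: overwrite this file, keeping the
statement, the namespace and the imports (you may ADD imports of library files outside Lib/T97, or of
T97 files that are listed as dependencies).  Aux lemmas: fresh names with prefix `t97scal_`. -/

set_option autoImplicit false

namespace Cfsg.Agent.Helper18.T97

variable {X : Type*} [Group X]

/-- The scalar subgroup `Sg.ker`.  (1) `x ∈ C(E)`: `conjN E x v = v`, so `e v = a * Sg x (e v)` for all `v`; `v` with `e v = 1` gives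
`a = 1`, hence `Sg x = 1` (`RingEquiv.ext`).  (2) `y ∈ Sg.ker`: `e(conjN E y v) = a * e v`; `y ∉ C(E)` forces `a ≠ 1`; a fixed `v`
has `(a - 1) * e v = 0`, so `e v = 0`, `v = 1`.  (3) `y ↦ a_y` is a homomorphism `↥Sg.ker →* Fˣ` (`a_y ≠ 0`) with kernel
`C(E).subgroupOf Sg.ker`, so the relIndex divides `|Fˣ| = |F| - 1 = 2^n - 1` (`Nat.card F = Nat.card E` via `e`;
`Subgroup.card_dvd_of_injective` / `Subgroup.index_ker`). -/
theorem scalar_props [Finite X] (E : Subgroup X) [hn : E.Normal] (n : ℕ)
    (hcard : Nat.card E = 2 ^ n) (F : Type) [Field F] [Fintype F] (e : Additive ↥E ≃+ F)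
    (Sg : X →* (F ≃+* F))
    (hSg : ∀ x : X, ∃ a : F, ∀ v : ↥E,
        e (Additive.ofMul (conjN E x v)) = a * Sg x (e (Additive.ofMul v))) :
    Subgroup.centralizer (E : Set X) ≤ Sg.ker ∧
    (∀ y ∈ Sg.ker, y ∉ Subgroup.centralizer (E : Set X) → ∀ v ∈ E, y * v * y⁻¹ = v → v = 1) ∧
    (Subgroup.centralizer (E : Set X)).relIndex Sg.ker ∣ 2 ^ n - 1 := by
  classical
  have ε_mul : ∀ v w : ↥E, e (Additive.ofMul (v * w)) =
      e (Additive.ofMul v) + e (Additive.ofMul w) := by
    intro v w
    rw [ofMul_mul, map_add]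
  have ε_one : e (Additive.ofMul (1 : ↥E)) = 0 := by
    rw [ofMul_one, map_zero]
  have ε_inj : ∀ v w : ↥E, e (Additive.ofMul v) = e (Additive.ofMul w) → v = w := by
    intro v w h
    exact Additive.ofMul.injective (e.injective h)
  have ε_surj : ∀ f : F, ∃ v : ↥E, e (Additive.ofMul v) = f := by
    intro f
    refine ⟨Additive.toMul (e.symm f), ?_⟩
    rw [ofMul_toMul, AddEquiv.apply_symm_apply]
  obtain ⟨v₁, hv₁⟩ := ε_surj 1
  have hv₁ne : v₁ ≠ 1 := by
    intro h
    rw [h, ε_one] at hv₁
    exact zero_ne_one hv₁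
  -- the scalar of `x` is `ε (x v₁ x⁻¹)`
  have hkey : ∀ (x : X) (v : ↥E), e (Additive.ofMul (conjN E x v)) =
      e (Additive.ofMul (conjN E x v₁)) * Sg x (e (Additive.ofMul v)) := by
    intro x v
    obtain ⟨a, ha⟩ := hSg x
    have h2 : e (Additive.ofMul (conjN E x v₁)) = a := by
      rw [ha v₁, hv₁, map_one, mul_one]
    rw [h2]
    exact ha v
  have hconj_mul : ∀ (x y : X) (v : ↥E), conjN E (x * y) v = conjN E x (conjN E y v) := by
    intro x y v
    apply Subtype.ext
    simp only [conjN_coe]
    group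
  have hcen : ∀ x : X, x ∈ Subgroup.centralizer (E : Set X) ↔ ∀ v : ↥E, conjN E x v = v := by
    intro x
    rw [Subgroup.mem_centralizer_iff]
    constructor
    · intro h v
      apply Subtype.ext
      rw [conjN_coe, ← h v v.2, mul_inv_cancel_right]
    · intro h v hv
      have h3 := congrArg Subtype.val (h ⟨v, hv⟩)
      rw [conjN_coe] at h3
      calc v * x = (x * v * x⁻¹) * x := by rw [h3]
        _ = x * v := by group
  have hker : ∀ y ∈ Sg.ker, ∀ f : F, Sg y f = f := by
    intro y hy f
    rw [MonoidHom.mem_ker] at hy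
    rw [hy]
    rfl
  -- (1)
  have h1 : Subgroup.centralizer (E : Set X) ≤ Sg.ker := by
    intro x hx
    rw [MonoidHom.mem_ker]
    have hx' := (hcen x).1 hx
    apply RingEquiv.ext
    intro f
    obtain ⟨v, rfl⟩ := ε_surj f
    have h3 := hkey x v
    rw [hx' v, hx' v₁, hv₁, one_mul] at h3
    rw [← h3]
    rfl
  -- characterisation of the centraliser inside the kernel by the scalar
  have hscal : ∀ y ∈ Sg.ker, (y ∈ Subgroup.centralizer (E : Set X) ↔
      e (Additive.ofMul (conjN E y v₁)) = 1) := by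
    intro y hy
    constructor
    · intro hc
      rw [(hcen y).1 hc v₁, hv₁]
    · intro ha
      rw [hcen]
      intro v
      apply ε_inj
      rw [hkey y v, ha, one_mul, hker y hy]
  refine ⟨h1, ?_, ?_⟩
  · -- (2)
    intro y hy hyc v hv hfix
    have ha : e (Additive.ofMul (conjN E y v₁)) ≠ 1 := fun h => hyc ((hscal y hy).2 h)
    have hfix' : conjN E y ⟨v, hv⟩ = ⟨v, hv⟩ := Subtype.ext hfix
    have h3 := hkey y ⟨v, hv⟩
    rw [hfix', hker y hy] at h3
    have h4 : (e (Additive.ofMul (conjN E y v₁)) - 1) * e (Additive.ofMul (⟨v, hv⟩ : ↥E)) = 0 := by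
      rw [sub_mul, one_mul, ← h3, sub_self]
    rcases mul_eq_zero.mp h4 with h5 | h5
    · exact absurd (sub_eq_zero.mp h5) ha
    · have h6 : (⟨v, hv⟩ : ↥E) = 1 := ε_inj _ _ (by rw [h5, ε_one])
      exact congrArg Subtype.val h6
  · -- (3)
    have hne : ∀ y : X, e (Additive.ofMul (conjN E y v₁)) ≠ 0 := by
      intro y h0
      apply hv₁ne
      have h3 : conjN E y v₁ = 1 := ε_inj _ _ (by rw [h0, ε_one])
      have h4 := congrArg Subtype.val h3
      rw [conjN_coe, Subgroup.coe_one] at h4
      apply Subtype.ext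
      rw [Subgroup.coe_one]
      calc (v₁ : X) = y⁻¹ * (y * v₁ * y⁻¹) * y := by group
        _ = 1 := by rw [h4]; group
    let φ : ↥Sg.ker →* Fˣ :=
      { toFun := fun y => Units.mk0 (e (Additive.ofMul (conjN E (y : X) v₁))) (hne y)
        map_one' := by
          apply Units.ext
          show e (Additive.ofMul (conjN E ((1 : ↥Sg.ker) : X) v₁)) = 1
          have h3 : conjN E ((1 : ↥Sg.ker) : X) v₁ = v₁ := by
            apply Subtype.ext
            rw [conjN_coe, Subgroup.coe_one]
            group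
          rw [h3, hv₁]
        map_mul' := by
          intro y y'
          apply Units.ext
          show e (Additive.ofMul (conjN E ((y * y' : ↥Sg.ker) : X) v₁)) =
            e (Additive.ofMul (conjN E (y : X) v₁)) * e (Additive.ofMul (conjN E (y' : X) v₁))
          rw [Subgroup.coe_mul, hconj_mul, hkey (y : X) (conjN E (y' : X) v₁), hker y y.2] }
    have hφker : φ.ker = (Subgroup.centralizer (E : Set X)).subgroupOf Sg.ker := by
      ext y
      rw [MonoidHom.mem_ker, Subgroup.mem_subgroupOf, hscal (y : X) y.2]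
      constructor
      · intro h
        exact congrArg Units.val h
      · intro h
        apply Units.ext
        exact h
    have hcardF : Nat.card F = 2 ^ n := by
      rw [← hcard]
      exact (Nat.card_congr e.toEquiv).symm
    have hunits : Nat.card Fˣ = 2 ^ n - 1 := by
      rw [Nat.card_units, hcardF]
    unfold Subgroup.relIndex
    rw [← hφker, Subgroup.index_ker, ← hunits]
    exact Subgroup.card_subgroup_dvd_card _

end Cfsg.Agent.Helper18.T97
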