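import Mathlib
import Cfsg.Agent.Lib.T97.T97Defs
import Cfsg.Agent.Lib.Helper27.SAAUT

/-! S3797 piece T97-SIDX (helper18 design; see plans/S3797_plan.md).  STUB: overwrite this file, keeping the
statement, the namespace and the imports (you may ADD imports of library files outside Lib/T97, or of
T97 files that are listed as dependencies).  Aux lemmas: fresh names with prefix `t97sidx_`. -/

set_option autoImplicit false

namespace Cfsg.Agent.Helper18.T97

variable {X : Type*} [Group X]

/-- `Sg.ker.index = Nat.card Sg.range` (`Subgroup.index_ker`) `≤ Nat.card (F ≃+* F) = n` by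
`Cfsg.Agent.Helper14.SA.card_ringAut (p := 2) F n hn1 hF` (Lib/Helper27/SAAUT.lean), `hF : Fintype.card F = 2 ^ n` from `e`, `hcard`. -/
theorem sigma_index [Finite X] (E : Subgroup X) (n : ℕ) (hn1 : 1 ≤ n)
    (hcard : Nat.card E = 2 ^ n) (F : Type) [Field F] [Fintype F] (e : Additive ↥E ≃+ F)
    (Sg : X →* (F ≃+* F)) : Sg.ker.index ≤ n := by
  haveI : Fact (Nat.Prime 2) := ⟨Nat.prime_two⟩
  have hF : Fintype.card F = 2 ^ n := by
    rw [← Nat.card_eq_fintype_card, ← Nat.card_congr e.toEquiv]
    exact hcard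
  have hA : Nat.card (F ≃+* F) = n := Cfsg.Agent.Helper14.SA.card_ringAut (p := 2) F n hn1 hF
  haveI : Finite (F ≃+* F) := Nat.finite_of_card_ne_zero (by rw [hA]; omega)
  rw [Subgroup.index_ker, ← hA]
  exact Nat.card_le_card_of_injective _ Subtype.coe_injective

end Cfsg.Agent.Helper18.T97
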