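import Mathlib
import Cfsg.Agent.Lib.T97.T97Defs

/-! S3797 piece T97-SIGMA (helper18 design; see plans/S3797_plan.md).  Aux lemmas carry the prefix `t97sigma_`. -/

set_option autoImplicit false

namespace Cfsg.Agent.Helper18.T97

variable {X : Type*} [Group X]

theorem t97sigma_conj_ne (E : Subgroup X) [hn : E.Normal] (x : X) (v : ↥E) (h : conjN E x v = 1) :
    v = 1 := by
  have h1 : (conjN E x v : X) = 1 := by rw [h]; rfl
  rw [conjN_coe] at h1
  apply Subtype.ext
  have h2 : (v : X) = x⁻¹ * (x * v * x⁻¹) * x := by group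
  rw [h2, h1]
  simp

/-- The field-automorphism part is a homomorphism.  For each `x` the pair `(a, σ)` is unique: `a ≠ 0` (else `conjN E x v = 1`
for all `v`, so `v = 1` for all `v`, but `F` is nontrivial so `E` is), `a = e(conjN E x v₁)` where `e v₁ = 1`, and then
`σ u = a⁻¹ * e(conjN E x (e.symm u))`.  Choose `Sg x := σ_x`; `conjN E (x*y) v = conjN E x (conjN E y v)` gives
`a_{xy} σ_{xy}(u) = a_x σ_x(a_y) σ_x(σ_y(u))`, whence `σ_{xy} = σ_x * σ_y` by uniqueness (`RingAut.mul_apply`). -/
theorem exists_sigma [Finite X] (E : Subgroup X) [hn : E.Normal] (F : Type) [Field F] [Fintype F]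
    (e : Additive ↥E ≃+ F)
    (hsl : ∀ x : X, ∃ (a : F) (σ : F ≃+* F), ∀ v : ↥E,
        e (Additive.ofMul (conjN E x v)) = a * σ (e (Additive.ofMul v))) :
    ∃ Sg : X →* (F ≃+* F), ∀ x : X, ∃ a : F, ∀ v : ↥E,
        e (Additive.ofMul (conjN E x v)) = a * Sg x (e (Additive.ofMul v)) := by
  classical
  choose a σ h using hsl
  have hu : ∀ (x : X) (u : F),
      e (Additive.ofMul (conjN E x (Additive.toMul (e.symm u)))) = a x * σ x u := by
    intro x u
    have h1 := h x (Additive.toMul (e.symm u))
    rwa [ofMul_toMul, e.apply_symm_apply] at h1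
  have ha : ∀ x, a x ≠ 0 := by
    intro x h0
    have h1 := hu x 1
    rw [h0, zero_mul] at h1
    have h2 : Additive.ofMul (conjN E x (Additive.toMul (e.symm 1))) = 0 :=
      (AddEquiv.map_eq_zero_iff e).mp h1
    have h3 : conjN E x (Additive.toMul (e.symm 1)) = 1 := h2
    have h4 := t97sigma_conj_ne E x _ h3
    have h5 : e.symm 1 = 0 := h4
    have h6 : (1 : F) = 0 := by rw [← e.apply_symm_apply 1, h5, map_zero]
    exact one_ne_zero h6
  have huniq : ∀ (x : X) (a' : F) (σ' : F ≃+* F),
      (∀ u : F, e (Additive.ofMul (conjN E x (Additive.toMul (e.symm u)))) = a' * σ' u) →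
      σ' = σ x := by
    intro x a' σ' h'
    have h1 : a' = a x := by
      have h2 := h' 1
      rw [hu x 1, map_one, map_one, mul_one, mul_one] at h2
      exact h2.symm
    ext u
    have h2 := h' u
    rw [hu x u, h1] at h2
    exact (mul_left_cancel₀ (ha x) h2).symm
  refine ⟨{ toFun := σ, map_one' := ?_, map_mul' := ?_ }, fun x => ⟨a x, h x⟩⟩
  · symm
    apply huniq 1 1 1
    intro u
    have h1 : conjN E 1 (Additive.toMul (e.symm u)) = Additive.toMul (e.symm u) := by
      apply Subtype.ext
      rw [conjN_coe]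
      group
    rw [h1, ofMul_toMul, e.apply_symm_apply, one_mul]
    rfl
  · intro x y
    symm
    apply huniq (x * y) (a x * σ x (a y)) (σ x * σ y)
    intro u
    have h1 : conjN E (x * y) (Additive.toMul (e.symm u)) =
        conjN E x (conjN E y (Additive.toMul (e.symm u))) := by
      apply Subtype.ext
      simp only [conjN_coe]
      group
    rw [h1, h x, hu y u, map_mul, RingAut.mul_apply, mul_assoc]

end Cfsg.Agent.Helper18.T97
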