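import Mathlib
import Cfsg.Agent.Lib.T97.T97Defs

/-! S3797 piece T97-TL (helper18 design; see plans/S3797_plan.md).  STUB: overwrite this file, keeping the
statement, the namespace and the imports (you may ADD imports of library files outside Lib/T97, or of
T97 files that are listed as dependencies).  Aux lemmas: fresh names with prefix `t97tl_`. -/

set_option autoImplicit false

namespace Cfsg.Agent.Helper18.T97

variable {X : Type*} [Group X]

/-- A Sylow 2-subgroup of `L = N_X(N)` not centralising `N`.  Write `t = ρ * l` with `ρ ∈ R`, `l ∈ L` (`R ⊔ L = ⊤`, `R` normal: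
`Subgroup.mem_sup_of_normal_left`-style).  Modulo `R` (normal) `l ≡ t`, so `l^(2^j) ∈ R`, hence `l` is a 2-element (`R` is a 2-group).
Write `k = ρ' * ν` with `ρ' ∈ R`, `ν ∈ N` (`K = R ⊔ N`).  Modulo `R`: `t k t⁻¹ k⁻¹ ≡ l ν l⁻¹ ν⁻¹`, so `l ν l⁻¹ ν⁻¹ ∉ R`, in particular `≠ 1`:
`l` does not centralise `N`.  Take `T : Sylow 2 ↥L` containing `⟨l, _⟩` (`IsPGroup.exists_le_sylow` applied to `Subgroup.zpowers`). -/
theorem exists_T [Finite X] {R : Subgroup X} (h : Setup R) (K N : Subgroup X) (hKn : K.Normal)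
    (hRN : R ⊔ N = K) (hL : R ⊔ Subgroup.normalizer (N : Set X) = ⊤)
    (t k : X) (ht : ∃ j : ℕ, orderOf t = 2 ^ j) (hk : k ∈ K) (htk : t * k * t⁻¹ * k⁻¹ ∉ R) :
    ∃ T : Sylow 2 ↥(Subgroup.normalizer (N : Set X)),
      ¬ ((T : Subgroup ↥(Subgroup.normalizer (N : Set X))).map
          (Subgroup.normalizer (N : Set X)).subtype ≤ Subgroup.centralizer (N : Set X)) := by
  have : Fact (Nat.Prime 2) := ⟨Nat.prime_two⟩
  have hRn : R.Normal := h.Rn
  obtain ⟨j, hj⟩ := ht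
  -- decompose t
  have htop : t ∈ R ⊔ Subgroup.normalizer (N : Set X) := by rw [hL]; exact Subgroup.mem_top t
  obtain ⟨ρ, hρ, l, hl, hρl⟩ := Subgroup.mem_sup_of_normal_left.mp htop
  -- decompose k
  have hk' : k ∈ R ⊔ N := by rw [hRN]; exact hk
  obtain ⟨ρ', hρ', ν, hν, hρν⟩ := Subgroup.mem_sup_of_normal_left.mp hk'
  -- images mod R
  have hmkρ : QuotientGroup.mk' R ρ = 1 := (QuotientGroup.eq_one_iff ρ).mpr hρ
  have hmkρ' : QuotientGroup.mk' R ρ' = 1 := (QuotientGroup.eq_one_iff ρ').mpr hρ'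
  have hmkt : QuotientGroup.mk' R t = QuotientGroup.mk' R l := by
    rw [← hρl, map_mul, hmkρ, one_mul]
  have hmkk : QuotientGroup.mk' R k = QuotientGroup.mk' R ν := by
    rw [← hρν, map_mul, hmkρ', one_mul]
  -- l is a 2-element
  have hl2R : l ^ 2 ^ j ∈ R := by
    rw [← QuotientGroup.eq_one_iff (N := R)]
    have e : ((l ^ 2 ^ j : X) : X ⧸ R) = (QuotientGroup.mk' R l) ^ 2 ^ j := by simp
    rw [e, ← hmkt, ← map_pow, ← hj, pow_orderOf_eq_one, map_one]
  obtain ⟨i, hi⟩ := h.R2 ⟨l ^ 2 ^ j, hl2R⟩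
  have hl2 : l ^ 2 ^ (j + i) = 1 := by
    have h' := congrArg (fun w : R => (w : X)) hi
    simp only [Subgroup.coe_pow, Subgroup.coe_one] at h'
    rw [pow_add, pow_mul]
    exact h'
  -- l does not centralise N
  have hlν : l * ν * l⁻¹ * ν⁻¹ ∉ R := by
    intro hmem
    apply htk
    rw [← QuotientGroup.eq_one_iff (N := R)]
    have e1 : ((t * k * t⁻¹ * k⁻¹ : X) : X ⧸ R) = QuotientGroup.mk' R t * QuotientGroup.mk' R k *
        (QuotientGroup.mk' R t)⁻¹ * (QuotientGroup.mk' R k)⁻¹ := by simp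
    have e2 : QuotientGroup.mk' R (l * ν * l⁻¹ * ν⁻¹) = 1 := (QuotientGroup.eq_one_iff _).mpr hmem
    rw [e1, hmkt, hmkk, ← map_inv, ← map_inv, ← map_mul, ← map_mul, ← map_mul]
    exact e2
  have hlc : l ∉ Subgroup.centralizer (N : Set X) := by
    intro hc
    apply hlν
    have hcomm : ν * l = l * ν := Subgroup.mem_centralizer_iff.mp hc ν hν
    have : l * ν * l⁻¹ * ν⁻¹ = 1 := by rw [← hcomm]; group
    rw [this]; exact R.one_mem
  -- the Sylow subgroup
  have hP : IsPGroup 2 (Subgroup.zpowers (⟨l, hl⟩ : ↥(Subgroup.normalizer (N : Set X)))) := by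
    rintro ⟨x, hx⟩
    obtain ⟨m, rfl⟩ := Subgroup.mem_zpowers_iff.mp hx
    refine ⟨j + i, ?_⟩
    apply Subtype.ext
    apply Subtype.ext
    simp only [Subgroup.coe_pow, Subgroup.coe_zpow, Subgroup.coe_one]
    rw [← zpow_natCast, ← zpow_mul, mul_comm, zpow_mul, zpow_natCast, hl2, one_zpow]
  obtain ⟨T, hT⟩ := hP.exists_le_sylow
  refine ⟨T, ?_⟩
  intro hle
  apply hlc
  apply hle
  exact ⟨⟨l, hl⟩, hT (Subgroup.mem_zpowers _), rfl⟩

end Cfsg.Agent.Helper18.T97
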