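import Mathlib
import Cfsg.Agent.Lib.T97.T97Defs

/-! S3797 piece T97-W (helper18 design; see plans/S3797_plan.md).  Proved by helper2. -/

set_option autoImplicit false

namespace Cfsg.Agent.Helper18.T97

variable {X : Type*} [Group X]

/-- an element normalising `N₀` normalises `C(N₀)` -/
theorem t97w_conj_mem (N₀ : Subgroup X) {g c : X} (hg : g ∈ Subgroup.normalizer (N₀ : Set X))
    (hc : c ∈ Subgroup.centralizer (N₀ : Set X)) :
    g * c * g⁻¹ ∈ Subgroup.centralizer (N₀ : Set X) := by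
  rw [Subgroup.mem_centralizer_iff]
  intro n hn
  have hn' : g⁻¹ * n * g ∈ N₀ := by
    have := (Subgroup.mem_normalizer_iff.mp hg (g⁻¹ * n * g)).mpr
    apply this
    have e : g * (g⁻¹ * n * g) * g⁻¹ = n := by group
    rw [e]; exact hn
  have hcomm := (Subgroup.mem_centralizer_iff.mp hc) (g⁻¹ * n * g) hn'
  calc n * (g * c * g⁻¹) = g * ((g⁻¹ * n * g) * c) * g⁻¹ := by group
    _ = g * (c * (g⁻¹ * n * g)) * g⁻¹ := by rw [hcomm]
    _ = g * c * g⁻¹ * n := by group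

/-- the subgroup `W` -/
def t97w_W (N₀ T : Subgroup X) (hTN : T ≤ Subgroup.normalizer (N₀ : Set X)) : Subgroup X where
  carrier := {w | w ∈ T ∧ w ^ 2 ∈ Subgroup.centralizer (N₀ : Set X) ∧
    ∀ t ∈ T, w * t * w⁻¹ * t⁻¹ ∈ Subgroup.centralizer (N₀ : Set X)}
  one_mem' := by
    refine ⟨T.one_mem, by simp, ?_⟩
    intro t _
    simp
  mul_mem' := by
    rintro a b ⟨haT, ha2, hac⟩ ⟨hbT, hb2, hbc⟩
    refine ⟨T.mul_mem haT hbT, ?_, ?_⟩
    · have e : (a * b) ^ 2 = a ^ 2 * (a⁻¹ * (b * a * b⁻¹ * a⁻¹) * a⁻¹⁻¹) * b ^ 2 := by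
        rw [pow_two, pow_two, pow_two]; group
      rw [e]
      refine Subgroup.mul_mem _ (Subgroup.mul_mem _ ha2 ?_) hb2
      exact t97w_conj_mem N₀ (hTN (T.inv_mem haT)) (hbc a haT)
    · intro t ht
      have e : a * b * t * (a * b)⁻¹ * t⁻¹ = (a * (b * t * b⁻¹ * t⁻¹) * a⁻¹) * (a * t * a⁻¹ * t⁻¹) := by
        group
      rw [e]
      exact Subgroup.mul_mem _ (t97w_conj_mem N₀ (hTN haT) (hbc t ht)) (hac t ht)
  inv_mem' := by
    rintro a ⟨haT, ha2, hac⟩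
    refine ⟨T.inv_mem haT, ?_, ?_⟩
    · rw [inv_pow]; exact Subgroup.inv_mem _ ha2
    · intro t ht
      have e : a⁻¹ * t * a⁻¹⁻¹ * t⁻¹ = a⁻¹ * (a * t * a⁻¹ * t⁻¹)⁻¹ * a⁻¹⁻¹ := by group
      rw [e]
      exact t97w_conj_mem N₀ (hTN (T.inv_mem haT)) (Subgroup.inv_mem _ (hac t ht))

/-- conjugation by an element normalising `T` and `N₀` preserves `W` -/
theorem t97w_conj_W (N₀ T : Subgroup X) (hTN : T ≤ Subgroup.normalizer (N₀ : Set X)) {d w : X}
    (hdN : d ∈ Subgroup.normalizer (N₀ : Set X)) (hdT : d ∈ Subgroup.normalizer (T : Set X))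
    (hw : w ∈ t97w_W N₀ T hTN) : d * w * d⁻¹ ∈ t97w_W N₀ T hTN := by
  obtain ⟨hwT, hw2, hwc⟩ := hw
  refine ⟨(Subgroup.mem_normalizer_iff.mp hdT w).mp hwT, ?_, ?_⟩
  · rw [conj_pow]; exact t97w_conj_mem N₀ hdN hw2
  · intro t ht
    have ht' : d⁻¹ * t * d ∈ T := by
      apply (Subgroup.mem_normalizer_iff.mp hdT (d⁻¹ * t * d)).mpr
      have e : d * (d⁻¹ * t * d) * d⁻¹ = t := by group
      rw [e]; exact ht
    have e : d * w * d⁻¹ * t * (d * w * d⁻¹)⁻¹ * t⁻¹ =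
        d * (w * (d⁻¹ * t * d) * w⁻¹ * (d⁻¹ * t * d)⁻¹) * d⁻¹ := by group
    rw [e]
    exact t97w_conj_mem N₀ hdN (hwc _ ht')

/-- `W :=` preimage in `T` of `Ω₁(Z(T/T₁))`, `T₁ := T ⊓ C(N₀)` (normal in `T` as `T` normalises `N₀`).  Concretely
`W = {w ∈ T | w^2 ∈ C(N₀) ∧ ∀ t ∈ T, w t w⁻¹ t⁻¹ ∈ C(N₀)}` (a subgroup because `T₁` is normal in `T`; or define it as a `comap` of
`Subgroup.center` of the quotient `↥T ⧸ T₁.subgroupOf T` intersected with the square-trivial elements).  `T/T₁` is a nontrivial 2-group, so its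
centre contains an element of order 2 (`IsPGroup.center_nontrivial` + Cauchy), whose lift `w` lies in `W` and not in `C(N₀)`.  `D` normalises
`T` and `N₀`, hence `C(N₀)`, hence `W`. -/
theorem exists_W [Finite X] (N₀ T D : Subgroup X) (hT2 : IsPGroup 2 T)
    (hTN : T ≤ Subgroup.normalizer (N₀ : Set X)) (hDN : D ≤ Subgroup.normalizer (N₀ : Set X))
    (hDT : D ≤ Subgroup.normalizer (T : Set X))
    (hTnc : ¬ T ≤ Subgroup.centralizer (N₀ : Set X)) :
    ∃ W : Subgroup X, W ≤ T ∧ ¬ W ≤ Subgroup.centralizer (N₀ : Set X) ∧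
      (∀ w ∈ W, w ^ 2 ∈ Subgroup.centralizer (N₀ : Set X)) ∧
      (∀ w ∈ W, ∀ t ∈ T, w * t * w⁻¹ * t⁻¹ ∈ Subgroup.centralizer (N₀ : Set X)) ∧
      D ≤ Subgroup.normalizer (W : Set X) := by
  refine ⟨t97w_W N₀ T hTN, fun w hw => hw.1, ?_, fun w hw => hw.2.1, fun w hw => hw.2.2, ?_⟩
  · -- existence of an element of `W` outside `C(N₀)`
    set Cn := Subgroup.centralizer (N₀ : Set X) with hCn
    set T₁ : Subgroup ↥T := Cn.subgroupOf T with hT₁
    have hnorm : T₁.Normal := by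
      constructor
      intro n hn g
      rw [hT₁, Subgroup.mem_subgroupOf] at hn ⊢
      have := t97w_conj_mem N₀ (hTN g.2) hn
      simpa using this
    obtain ⟨t, htT, htC⟩ := SetLike.not_le_iff_exists.mp hTnc
    have hnt : Nontrivial (↥T ⧸ T₁) := by
      refine ⟨⟨(QuotientGroup.mk' T₁) ⟨t, htT⟩, 1, ?_⟩⟩
      intro h1
      have : (⟨t, htT⟩ : ↥T) ∈ T₁ := (QuotientGroup.eq_one_iff _).mp h1
      rw [hT₁, Subgroup.mem_subgroupOf] at this
      exact htC this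
    have hQ2 : IsPGroup 2 (↥T ⧸ T₁) := hT2.to_quotient T₁
    have hcn : Nontrivial (Subgroup.center (↥T ⧸ T₁)) := hQ2.center_nontrivial
    obtain ⟨⟨z, hzc⟩, hz1⟩ := exists_ne (1 : Subgroup.center (↥T ⧸ T₁))
    have hz1' : z ≠ 1 := fun h => hz1 (Subtype.ext h)
    obtain ⟨k, hk⟩ := (IsPGroup.iff_orderOf.mp hQ2) z
    have hk1 : 1 ≤ k := by
      rcases Nat.eq_zero_or_pos k with h0 | h0
      · rw [h0, pow_zero, orderOf_eq_one_iff] at hk
        exact absurd hk hz1'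
      · exact h0
    set M := 2 ^ (k - 1) with hM
    have hM2 : M * 2 = 2 ^ k := by
      rw [hM, ← pow_succ]; congr 1; omega
    set z' := z ^ M with hz'
    have hz'c : z' ∈ Subgroup.center (↥T ⧸ T₁) := Subgroup.pow_mem _ hzc M
    have hz'2 : z' ^ 2 = 1 := by
      rw [hz', ← pow_mul, hM2, ← hk, pow_orderOf_eq_one]
    have hz'1 : z' ≠ 1 := by
      rw [hz']
      apply pow_ne_one_of_lt_orderOf
      · rw [hM]; positivity
      · rw [hk, hM]; apply Nat.pow_lt_pow_right (by norm_num); omega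
    obtain ⟨w', hw'⟩ := QuotientGroup.mk'_surjective T₁ z'
    have hmem : ∀ u : ↥T, (QuotientGroup.mk' T₁) u = 1 → (u : X) ∈ Cn := by
      intro u hu
      have : u ∈ T₁ := (QuotientGroup.eq_one_iff _).mp hu
      rw [hT₁, Subgroup.mem_subgroupOf] at this
      exact this
    intro hle
    have hwW : (w' : X) ∈ t97w_W N₀ T hTN := by
      refine ⟨w'.2, ?_, ?_⟩
      · have := hmem (w' ^ 2) (by rw [map_pow, hw', hz'2])
        simpa using this
      · intro t ht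
        have hcomm : (QuotientGroup.mk' T₁) ⟨t, ht⟩ * z' = z' * (QuotientGroup.mk' T₁) ⟨t, ht⟩ :=
          Subgroup.mem_center_iff.mp hz'c _
        have := hmem (w' * ⟨t, ht⟩ * w'⁻¹ * ⟨t, ht⟩⁻¹) (by
          rw [map_mul, map_mul, map_mul, map_inv, map_inv, hw', ← hcomm]
          group)
        simpa using this
    have hwC : (w' : X) ∈ Cn := hle hwW
    apply hz'1
    rw [← hw']
    apply (QuotientGroup.eq_one_iff _).mpr
    rw [hT₁, Subgroup.mem_subgroupOf]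
    exact hwC
  · intro d hd
    rw [Subgroup.mem_normalizer_iff]
    intro w
    constructor
    · intro hw
      exact t97w_conj_W N₀ T hTN (hDN hd) (hDT hd) hw
    · intro hw
      have hd' : d⁻¹ ∈ D := D.inv_mem hd
      have := t97w_conj_W N₀ T hTN (hDN hd') (hDT hd') hw
      have e : d⁻¹ * (d * w * d⁻¹) * d⁻¹⁻¹ = w := by group
      rwa [e] at this

end Cfsg.Agent.Helper18.T97
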