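import Mathlib
import Cfsg.Agent.Lib.T97.T97Defs
import Cfsg.Agent.Lib.T97.T97ENORM
import Cfsg.Agent.Lib.T97.T97INVOL
import Cfsg.Agent.Lib.T97.T97CARDE
import Cfsg.Agent.Lib.T97.T97STAR
import Cfsg.Agent.Lib.T97.T97FRAT
import Cfsg.Agent.Lib.T97.T97ORB
import Cfsg.Agent.Lib.T97.T97HUP1
import Cfsg.Agent.Lib.T97.T97SIGMA
import Cfsg.Agent.Lib.T97.T97SCAL
import Cfsg.Agent.Lib.T97.T97SIDX
import Cfsg.Agent.Lib.T97.T97PARTI
import Cfsg.Agent.Lib.T97.T97KR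
import Cfsg.Agent.Lib.T97.T97NFRAT
import Cfsg.Agent.Lib.T97.T97NC
import Cfsg.Agent.Lib.T97.T97TL
import Cfsg.Agent.Lib.T97.T97BURN
import Cfsg.Agent.Lib.T97.T97ARITH
import Cfsg.Agent.Lib.T97.T97DIDX
import Cfsg.Agent.Lib.T97.T97FPF2
import Cfsg.Agent.Lib.T97.T97MIN
import Cfsg.Agent.Lib.T97.T97MINA
import Cfsg.Agent.Lib.T97.T97MINB
import Cfsg.Agent.Lib.T97.T97MINC
import Cfsg.Agent.Lib.T97.T97W
import Cfsg.Agent.Lib.T97.T97EIGAPP
import Cfsg.Agent.Lib.T97.T97ORBW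
import Cfsg.Agent.Lib.T97.T97CONJ
import Cfsg.Agent.Lib.T97.T97POW
import Cfsg.Agent.Lib.T97.T97COMM
import Cfsg.Agent.Lib.T97.T97IND
import Cfsg.Agent.Lib.T97.T97RKAPP
import Cfsg.Agent.Lib.T97.T97RANK

/-! S3797: assembly of the core theorem (helper18). -/

set_option autoImplicit false

namespace Cfsg.Agent.Helper18.T97

variable {X : Type*} [Group X]

theorem omegaZ_comm (R : Subgroup X) : ∀ a ∈ omegaZ R, ∀ b ∈ omegaZ R, a * b = b * a := by
  intro a ha b hb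
  exact Subgroup.mem_centralizer_iff.mp hb.2.1 a ha.1

theorem omegaZ_sq (R : Subgroup X) : ∀ a ∈ omegaZ R, a ^ 2 = 1 := fun a ha => ha.2.2

theorem setup_trans {R : Subgroup X} (h : Setup R) :
    ∀ a ∈ omegaZ R, ∀ b ∈ omegaZ R, a ≠ 1 → b ≠ 1 → ∃ g : X, g * a * g⁻¹ = b := by
  intro a ha b hb ha1 hb1
  have := h.conj a b ha1 ha.2.2 hb1 hb.2.2
  obtain ⟨g, hg⟩ := isConj_iff.mp this
  exact ⟨g, hg⟩

/-- the Huppert step + PART I -/
theorem exists_ctx [Finite X] {R : Subgroup X} (h : Setup R) : ∃ (n : ℕ) (Y : Subgroup X), Ctx R n Y := by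
  obtain ⟨n, hn2, hcard⟩ := card_omegaZ h
  haveI hEn : (omegaZ R).Normal := omegaZ_normal h.Rn
  obtain ⟨F, iF, iFt, e, hsl⟩ := semilinear h.sol (omegaZ R) (omegaZ_comm R) (omegaZ_sq R) n
    (by omega) hcard (setup_trans h)
  obtain ⟨Sg, hSg⟩ := exists_sigma (omegaZ R) F e hsl
  obtain ⟨hC, hfpf, hrel⟩ := scalar_props (omegaZ R) n hcard F e Sg hSg
  have hidx := sigma_index (omegaZ R) n (by omega) hcard F e Sg
  have hodd := odd_index_CE h n hn2 hcard Sg.ker inferInstance hC hfpf hrel hidx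
  exact ⟨n, Sg.ker, ⟨h, hn2, hcard, inferInstance, hC, hfpf, hrel, hidx, hodd⟩⟩

/-- PART II, step 1 -/
theorem exists_NTB [Finite X] {R : Subgroup X} {n : ℕ} {Y : Subgroup X} (c : Ctx R n Y)
    (hev : 2 ∣ R.index) :
    ∃ (r : ℕ) (_ : Fact r.Prime) (N T B : Subgroup X), NTB R r N T B := by
  obtain ⟨r, K, hr, hr2, hKn, hRK, ⟨m, hm⟩, t, k, ht, hk, htk⟩ := exists_KR c.su hev
  haveI : Fact r.Prime := ⟨hr⟩
  obtain ⟨N, hNK, hNr, hRN, hL⟩ := exists_N R K c.su.Rn hKn c.su.R2 hRK r hr2 m hm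
  have hNC := N_le_CE c hev K N hKn r hr2 hNr hRN hL
  obtain ⟨T, hT⟩ := exists_T c.su K N hKn hRN hL t k ht hk htk
  obtain ⟨B, hBN, hBT, hBtr⟩ := exists_B c N hNC hL T
  refine ⟨r, ⟨hr⟩, N, _, B, ⟨hr2, hNr, hNC, ?_, ?_, hT, hBN, hBT, hBtr⟩⟩
  · exact T.2.map _
  · exact Subgroup.map_subtype_le _

/-- PART II, step 3 (assembly): a big elementary abelian `r`-subgroup of `N`. -/
theorem exists_A1 [Finite X] {R : Subgroup X} {n : ℕ} {Y : Subgroup X} (c : Ctx R n Y)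
    (r : ℕ) [Fact r.Prime] (N T B : Subgroup X) (h : NTB R r N T B) :
    ∃ A₁ : Subgroup X, A₁ ≤ N ∧ (∀ a ∈ A₁, ∀ b ∈ A₁, a * b = b * a) ∧ (∀ a ∈ A₁, a ^ r = 1) ∧
      r ^ (n + 1) ≤ Nat.card A₁ := by
  classical
  set D : Subgroup X := B ⊓ Y with hD
  have hDY : D ≤ Y := inf_le_right
  have hDB : D ≤ B := inf_le_left
  have hDN : D ≤ Subgroup.normalizer (N : Set X) := hDB.trans h.BN
  have hDT : D ≤ Subgroup.normalizer (T : Set X) := hDB.trans h.BT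
  have hidx : n + 1 ≤ (D ⊓ CE R).relIndex D := by
    have h1 := relIndex_D c B h.Btr
    have h2 : D ⊓ CE R = B ⊓ CE R := by
      rw [hD, inf_assoc, inf_eq_right.mpr c.CY]
    rw [h2]
    exact h1
  obtain ⟨N₀, hN₀N, hTN₀, hDN₀, hTnc, hmin⟩ := exists_min N T D h.TN hDN h.Tnc
  have hN₀r : IsPGroup r N₀ := h.Nr.to_le hN₀N
  have hPhiT := min_frattini_central r h.rodd N₀ T D hN₀r h.T2 hTN₀ hDN₀ hDT hTnc hmin
  have hcomm := min_commutator r h.rodd N₀ T D hN₀r h.T2 hTN₀ hDN₀ hDT hTnc hmin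
  have hPhiZ := min_frattini_center N₀ T hTN₀ hPhiT hcomm
  obtain ⟨W, hWT, hWnc, hWsq, hWcm, hDW⟩ := exists_W N₀ T D h.T2 hTN₀ hDN₀ hDT hTnc
  have hW2 : IsPGroup 2 W := h.T2.to_le hWT
  have hWN₀ : W ≤ Subgroup.normalizer (N₀ : Set X) := hWT.trans hTN₀
  obtain ⟨W₀, y, hE⟩ := exists_eigen r h.rodd N₀ W hN₀r hW2 hWN₀ hWnc hWsq
    (fun w hw w' hw' => hWcm w hw w' (hWT hw'))
  obtain ⟨f, hfD, hfne⟩ := exists_orbit c D W W₀ hDY hW2 hE.le hE.idx hDW hidx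
  have hEi : ∀ i, IsEigen N₀ W (W₀.map (MulAut.conj (f i)).toMonoidHom) (f i * y * (f i)⁻¹) :=
    fun i => eigen_conj N₀ W W₀ y (f i) hE (hDW (hfD i)) (hDN₀ (hfD i))
  have hz : ∀ i, ∃ z : X, z ^ r = 1 ∧
      IsEigen N₀ W (W₀.map (MulAut.conj (f i)).toMonoidHom) z :=
    fun i => eigen_pow r N₀ W _ _ hN₀r (hEi i)
  choose z hzr hzE using hz
  have hzcomm : ∀ i j, z i * z j = z j * z i := by
    intro i j
    by_cases hij : i = j
    · rw [hij]
    · exact eigen_commute r h.rodd N₀ T W _ _ hN₀r hWT hPhiT hPhiZ (z i) (z j) (hzE i) (hzE j)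
        (hfne i j hij)
  have hsep : ∀ i j, i ≠ j → ∃ g : X, g * z i * g⁻¹ = (z i)⁻¹ ∧ g * z j * g⁻¹ = z j ∧
      ∀ k, g * z k * g⁻¹ = z k ∨ g * z k * g⁻¹ = (z k)⁻¹ := by
    intro i j hij
    have hne := hfne i j hij
    have hex : ∃ g ∈ W₀.map (MulAut.conj (f j)).toMonoidHom,
        g ∉ W₀.map (MulAut.conj (f i)).toMonoidHom := by
      by_contra hcon
      push Not at hcon
      have hle : W₀.map (MulAut.conj (f j)).toMonoidHom ≤ W₀.map (MulAut.conj (f i)).toMonoidHom :=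
        hcon
      have h1 := Subgroup.relIndex_mul_relIndex _ _ _ hle (hzE i).le
      rw [(hzE i).idx, (hzE j).idx] at h1
      have h2 : (W₀.map (MulAut.conj (f j)).toMonoidHom).relIndex
          (W₀.map (MulAut.conj (f i)).toMonoidHom) = 1 := by omega
      have h3 := Subgroup.relIndex_eq_one.mp h2
      exact hne (le_antisymm h3 hle)
    obtain ⟨g, hgj, hgi⟩ := hex
    have hgW : g ∈ W := (hzE j).le hgj
    refine ⟨g, (hzE i).inv g hgW hgi, (hzE j).fix g hgj, fun k => ?_⟩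
    by_cases hk : g ∈ W₀.map (MulAut.conj (f k)).toMonoidHom
    · left; exact (hzE k).fix g hk
    · right; exact (hzE k).inv g hgW hk
  have hcard := independent_eigen r h.rodd (n + 1) z hzcomm (fun i => (hzE i).ne) hzr hsep
  have hK1 : Subgroup.closure (Set.range z) ≤ Subgroup.centralizer (Set.range z) := by
    rw [Subgroup.closure_le]
    rintro _ ⟨i, rfl⟩
    rw [SetLike.mem_coe, Subgroup.mem_centralizer_iff]
    rintro _ ⟨j, rfl⟩
    exact hzcomm j i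
  have hK2 : ∀ a ∈ Subgroup.closure (Set.range z), ∀ b ∈ Subgroup.closure (Set.range z),
      a * b = b * a := by
    intro a ha b hb
    have h1 : Subgroup.closure (Set.range z) ≤ Subgroup.centralizer ({b} : Set X) := by
      rw [Subgroup.closure_le]
      rintro _ ⟨i, rfl⟩
      rw [SetLike.mem_coe, Subgroup.mem_centralizer_iff]
      intro b' hb'
      rw [Set.mem_singleton_iff] at hb'
      rw [hb']
      exact (Subgroup.mem_centralizer_iff.mp (hK1 hb) (z i) ⟨i, rfl⟩).symm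
    exact (Subgroup.mem_centralizer_iff.mp (h1 ha) b rfl).symm
  refine ⟨Subgroup.closure (Set.range z), ?_, hK2, ?_, hcard⟩
  · rw [Subgroup.closure_le]
    rintro _ ⟨i, rfl⟩
    exact hN₀N (hzE i).mem
  · intro a ha
    induction ha using Subgroup.closure_induction with
    | mem x hx =>
      obtain ⟨i, rfl⟩ := hx
      exact hzr i
    | one => exact one_pow r
    | mul x y hx hy ihx ihy =>
      have hc : Commute x y := hK2 x hx y hy
      rw [hc.mul_pow, ihx, ihy, one_mul]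
    | inv x hx ih => rw [inv_pow, ih, inv_one]

/-- PART II -/
theorem partII [Finite X] {R : Subgroup X} {n : ℕ} {Y : Subgroup X} (c : Ctx R n Y) :
    ¬ 2 ∣ R.index := by
  intro hev
  obtain ⟨r, hr, N, T, B, h⟩ := exists_NTB c hev
  haveI := hr
  obtain ⟨A₁, hA₁N, hA₁c, hA₁r, hA₁⟩ := exists_A1 c r N T B h
  obtain ⟨H, Z, hHR, hZH, hHc, hsq, hbig⟩ :=
    exists_big_abelian c r h.rodd A₁ (hA₁N.trans h.NC) hA₁c hA₁r hA₁
  have hle := abelian_rank_bound c H Z hHR hZH hHc hsq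
  have : 2 ^ n < 2 ^ (n + 1) := Nat.pow_lt_pow_right (by norm_num) (by omega)
  omega

/-- MAIN THEOREM of the core: `R = O_2(X)` has odd index. -/
theorem main [Finite X] {R : Subgroup X} (h : Setup R) : ¬ 2 ∣ R.index := by
  obtain ⟨n, Y, c⟩ := exists_ctx h
  exact partII c

end Cfsg.Agent.Helper18.T97
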