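import Mathlib
import Cfsg.Agent.Lib.T97.T97Defs
import Cfsg.Agent.Lib.T97.T97FPF2
import Cfsg.Agent.Lib.T97.T97ENORM

/-! S3797 piece T97-ORBW (helper18 design; see plans/S3797_plan.md).  Proved by helper2. -/

set_option autoImplicit false

namespace Cfsg.Agent.Helper18.T97

variable {X : Type*} [Group X]

/-- a permutation of `p`-power order on a finite set of size prime to `p` has a fixed point -/
theorem t97orbw_fixed {α : Type*} [Finite α] (σ : Equiv.Perm α) (p k : ℕ) [Fact p.Prime]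
    (hσ : σ ^ p ^ k = 1) (hp : ¬ p ∣ Nat.card α) : ∃ a, σ a = a := by
  classical
  have := Fintype.ofFinite α
  by_contra hno
  push Not at hno
  have hsupp : σ.support = Finset.univ := by
    ext a
    simp [hno a]
  have h := Equiv.Perm.card_compl_support_modEq hσ
  rw [hsupp, Finset.compl_univ, Finset.card_empty] at h
  apply hp
  rw [Nat.card_eq_fintype_card]
  exact (Nat.modEq_zero_iff_dvd.mp h.symm)

/-- 2-elements lie in `CE R` (normal of odd index) -/
theorem t97orbw_two_mem [Finite X] {R : Subgroup X} {n : ℕ} {Y : Subgroup X} (c : Ctx R n Y)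
    (t : X) (j : ℕ) (ht : orderOf t = 2 ^ j) : t ∈ CE R := by
  have : (omegaZ R).Normal := omegaZ_normal c.su.Rn
  have : (CE R).Normal := Subgroup.normal_centralizer
  set q := QuotientGroup.mk' (CE R) t with hq
  have h1 : orderOf q ∣ (CE R).index := by
    have : orderOf q ∣ Nat.card (X ⧸ CE R) := orderOf_dvd_natCard q
    exact this
  have h2 : orderOf q ∣ 2 ^ j := by
    apply orderOf_dvd_of_pow_eq_one
    rw [hq, ← map_pow, ← ht, pow_orderOf_eq_one, map_one]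
  have hcop : Nat.Coprime (2 ^ j) (CE R).index :=
    Nat.Coprime.pow_left j ((Nat.Prime.coprime_iff_not_dvd Nat.prime_two).mpr c.oddC)
  have h3 : orderOf q = 1 := Nat.eq_one_of_dvd_coprimes hcop h2 h1
  have h4 : q = 1 := orderOf_eq_one_iff.mp h3
  exact (QuotientGroup.eq_one_iff t).mp h4

/-- an element outside `CE R` has a power of odd prime-power order outside `CE R` -/
theorem t97orbw_primepow [Finite X] {R : Subgroup X} {n : ℕ} {Y : Subgroup X} (c : Ctx R n Y)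
    (d : X) (hd : d ∉ CE R) :
    ∃ (m p a : ℕ), p.Prime ∧ p ≠ 2 ∧ orderOf (d ^ m) = p ^ a ∧ d ^ m ∉ CE R := by
  have : (omegaZ R).Normal := omegaZ_normal c.su.Rn
  have : (CE R).Normal := Subgroup.normal_centralizer
  set q := QuotientGroup.mk' (CE R) d with hq
  have hq1 : q ≠ 1 := fun h => hd ((QuotientGroup.eq_one_iff d).mp h)
  have ho' : orderOf q ≠ 1 := fun h => hq1 (orderOf_eq_one_iff.mp h)
  set p := (orderOf q).minFac with hp
  have hpp : p.Prime := Nat.minFac_prime ho'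
  have hpo' : p ∣ orderOf q := Nat.minFac_dvd _
  have ho0 : orderOf d ≠ 0 := (orderOf_pos d).ne'
  obtain ⟨a, m, hpm, hom⟩ := Nat.exists_eq_pow_mul_and_not_dvd ho0 p hpp.ne_one
  have hm0 : m ≠ 0 := by
    rintro rfl
    rw [mul_zero] at hom
    exact ho0 hom
  have hmo : m ∣ orderOf d := ⟨p ^ a, by rw [hom, mul_comm]⟩
  have hord : orderOf (d ^ m) = p ^ a := by
    rw [orderOf_pow_of_dvd hm0 hmo, hom]
    exact Nat.mul_div_cancel _ (Nat.pos_of_ne_zero hm0)
  have hnot : d ^ m ∉ CE R := by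
    intro hmem
    have : q ^ m = 1 := by
      rw [hq, ← map_pow]
      exact (QuotientGroup.eq_one_iff _).mpr hmem
    have hdvd : orderOf q ∣ m := orderOf_dvd_of_pow_eq_one this
    exact hpm (dvd_trans hpo' hdvd)
  refine ⟨m, p, a, hpp, ?_, hord, hnot⟩
  intro hp2'
  rw [hp2'] at hord
  exact hnot (t97orbw_two_mem c (d ^ m) a hord)

/-- the permutation of `W \ W₀` induced by conjugation with `g` -/
def t97orbw_perm (W W₀ : Subgroup X) (g : X) (hgW : g ∈ Subgroup.normalizer (W : Set X))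
    (hgW₀ : g ∈ Subgroup.normalizer (W₀ : Set X)) :
    Equiv.Perm {w : X // w ∈ W ∧ w ∉ W₀} where
  toFun w := ⟨g * w * g⁻¹, (Subgroup.mem_normalizer_iff.mp hgW w).mp w.2.1,
    fun h => w.2.2 ((Subgroup.mem_normalizer_iff.mp hgW₀ w).mpr h)⟩
  invFun w := ⟨g⁻¹ * w * g, by
      apply (Subgroup.mem_normalizer_iff.mp hgW (g⁻¹ * w * g)).mpr
      have e : g * (g⁻¹ * (w : X) * g) * g⁻¹ = w := by group
      rw [e]; exact w.2.1, by
      intro h
      apply w.2.2
      have := (Subgroup.mem_normalizer_iff.mp hgW₀ (g⁻¹ * w * g)).mp h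
      have e : g * (g⁻¹ * (w : X) * g) * g⁻¹ = w := by group
      rwa [e] at this⟩
  left_inv w := by
    apply Subtype.ext
    show g⁻¹ * (g * (w : X) * g⁻¹) * g = w
    group
  right_inv w := by
    apply Subtype.ext
    show g * (g⁻¹ * (w : X) * g) * g⁻¹ = w
    group

theorem t97orbw_perm_pow (W W₀ : Subgroup X) (g : X) (hgW : g ∈ Subgroup.normalizer (W : Set X))
    (hgW₀ : g ∈ Subgroup.normalizer (W₀ : Set X)) (i : ℕ) (w : {w : X // w ∈ W ∧ w ∉ W₀}) :
    (((t97orbw_perm W W₀ g hgW hgW₀) ^ i) w : X) = g ^ i * w * (g ^ i)⁻¹ := by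
  induction i generalizing w with
  | zero => simp
  | succ i ih =>
    rw [pow_succ', Equiv.Perm.mul_apply]
    show g * (((t97orbw_perm W W₀ g hgW hgW₀) ^ i) w : X) * g⁻¹ = _
    rw [ih, pow_succ']
    group

/-- a fixed point of an odd prime-power element on `W \ W₀` -/
theorem t97orbw_fixed_point [Finite X] (W W₀ : Subgroup X) (hW2 : IsPGroup 2 W) (hW₀ : W₀ ≤ W)
    (hidx : W₀.relIndex W = 2) (g : X) (p a : ℕ) (hpp : p.Prime) (hp2 : p ≠ 2)
    (hg : orderOf g = p ^ a) (hgW : g ∈ Subgroup.normalizer (W : Set X))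
    (hgW₀ : g ∈ Subgroup.normalizer (W₀ : Set X)) :
    ∃ w : X, w ∈ W ∧ w ∉ W₀ ∧ g * w * g⁻¹ = w := by
  have : Fact p.Prime := ⟨hpp⟩
  -- an element of `W \ W₀`
  have hex : ∃ w₁ ∈ W, w₁ ∉ W₀ := by
    by_contra hno
    push Not at hno
    have hle : W ≤ W₀ := fun w hw => hno w hw
    have : W₀.relIndex W = 1 := Subgroup.relIndex_eq_one.mpr hle
    omega
  obtain ⟨w₁, hw₁W, hw₁⟩ := hex
  have hidx' : (W₀.subgroupOf W).index = 2 := hidx
  -- bijection `W₀ → W \ W₀`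
  let f : ↥W₀ → {w : X // w ∈ W ∧ w ∉ W₀} := fun h =>
    ⟨w₁ * h, W.mul_mem hw₁W (hW₀ h.2), fun hmem => hw₁ (by
      have := W₀.mul_mem hmem (W₀.inv_mem h.2)
      simpa using this)⟩
  have hf : Function.Bijective f := by
    constructor
    · intro h h' hh
      apply Subtype.ext
      have : w₁ * (h : X) = w₁ * (h' : X) := congrArg (fun t : {w : X // w ∈ W ∧ w ∉ W₀} => (t : X)) hh
      exact mul_left_cancel this
    · rintro ⟨w, hwW, hw⟩
      have key := Subgroup.mul_mem_iff_of_index_two hidx' (a := (⟨w₁, hw₁W⟩ : ↥W)⁻¹)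
        (b := (⟨w, hwW⟩ : ↥W))
      have h1 : ¬ ((⟨w₁, hw₁W⟩ : ↥W)⁻¹ ∈ W₀.subgroupOf W) := by
        rw [inv_mem_iff, Subgroup.mem_subgroupOf]; exact hw₁
      have h2 : ¬ ((⟨w, hwW⟩ : ↥W) ∈ W₀.subgroupOf W) := by
        rw [Subgroup.mem_subgroupOf]; exact hw
      have h3 : (⟨w₁, hw₁W⟩ : ↥W)⁻¹ * ⟨w, hwW⟩ ∈ W₀.subgroupOf W :=
        key.mpr ⟨fun h => absurd h h1, fun h => absurd h h2⟩
      rw [Subgroup.mem_subgroupOf] at h3
      refine ⟨⟨w₁⁻¹ * w, by simpa using h3⟩, ?_⟩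
      apply Subtype.ext
      show w₁ * (w₁⁻¹ * w) = w
      group
  have hcard : Nat.card {w : X // w ∈ W ∧ w ∉ W₀} = Nat.card W₀ :=
    (Nat.card_congr (Equiv.ofBijective f hf)).symm
  obtain ⟨m', hm'⟩ := IsPGroup.iff_card.mp (hW2.to_le hW₀)
  have hnd : ¬ p ∣ Nat.card {w : X // w ∈ W ∧ w ∉ W₀} := by
    rw [hcard, hm']
    intro h
    have := (Nat.prime_dvd_prime_iff_eq hpp Nat.prime_two).mp (hpp.dvd_of_dvd_pow h)
    exact hp2 this
  set σ := t97orbw_perm W W₀ g hgW hgW₀ with hσ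
  have hσpow : σ ^ p ^ a = 1 := by
    ext w
    rw [t97orbw_perm_pow, ← hg, pow_orderOf_eq_one, inv_one, one_mul, mul_one]
    rfl
  obtain ⟨w, hw⟩ := t97orbw_fixed σ p a hσpow hnd
  refine ⟨w, w.2.1, w.2.2, ?_⟩
  exact congrArg (fun t : {w : X // w ∈ W ∧ w ∉ W₀} => (t : X)) hw

/-- equality of two conjugates of `W₀` -/
theorem t97orbw_normalizer_of_eq (W₀ : Subgroup X) (x y : X)
    (h : W₀.map (MulAut.conj x).toMonoidHom = W₀.map (MulAut.conj y).toMonoidHom) :
    x⁻¹ * y ∈ Subgroup.normalizer (W₀ : Set X) := by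
  rw [Subgroup.mem_normalizer_iff]
  intro w
  constructor
  · intro hw
    have h1 : y * w * y⁻¹ ∈ W₀.map (MulAut.conj y).toMonoidHom := ⟨w, hw, rfl⟩
    rw [← h] at h1
    obtain ⟨w', hw', hw'e⟩ := h1
    have hw'e' : x * w' * x⁻¹ = y * w * y⁻¹ := hw'e
    have : x⁻¹ * y * w * (x⁻¹ * y)⁻¹ = w' := by
      calc x⁻¹ * y * w * (x⁻¹ * y)⁻¹ = x⁻¹ * (y * w * y⁻¹) * x := by group
        _ = x⁻¹ * (x * w' * x⁻¹) * x := by rw [hw'e']
        _ = w' := by group
    rw [this]; exact hw'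
  · intro hw
    have h1 : x * (x⁻¹ * y * w * (x⁻¹ * y)⁻¹) * x⁻¹ ∈ W₀.map (MulAut.conj x).toMonoidHom :=
      ⟨_, hw, rfl⟩
    rw [h] at h1
    obtain ⟨w', hw', hw'e⟩ := h1
    have hw'e' : y * w' * y⁻¹ = x * (x⁻¹ * y * w * (x⁻¹ * y)⁻¹) * x⁻¹ := hw'e
    have : w = w' := by
      have e : x * (x⁻¹ * y * w * (x⁻¹ * y)⁻¹) * x⁻¹ = y * w * y⁻¹ := by group
      rw [e] at hw'e'
      have := congrArg (fun t => y⁻¹ * t * y) hw'e'
      beta_reduce at this
      have e1 : y⁻¹ * (y * w' * y⁻¹) * y = w' := by group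
      have e2 : y⁻¹ * (y * w * y⁻¹) * y = w := by group
      rw [e1, e2] at this
      exact this.symm
    rw [this]; exact hw'

/-- `D` moves the hyperplane `W₀` a lot.  `D` acts on `Subgroup X` by conjugation; let `D₀ ≤ D` be the stabiliser of `W₀`.  CLAIM `D₀ ≤ CE R`.  Let `d ∈ D₀`, `d ∉ CE R`.
Write `d` as the product of its prime-power parts (powers of `d`); one part `d' = d^i` is `∉ CE R`; it is a `p`-element, and `p ≠ 2` because 2-elements lie in `CE R`
(`CE R` normal of odd index `c.oddC`).  `d' ∈ Y` (`hDY`), normalises `W` (`hDW`) and `W₀`, so `⟨d'⟩` (a `p`-group) acts by conjugation on the set `W \ W₀` of size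
`|W₀|` (a power of 2, not divisible by `p`): there is a fixed point `w ∈ W \ W₀` (`IsPGroup.exists_fixed_point_of_prime_not_dvd_card`), `w ≠ 1` a 2-element commuting
with `d'`, contradicting `fpf_two c d' _ _ w _ _`.  Hence the orbit of `W₀` has size `[D : D₀] ≥ [D : D ⊓ CE R] ≥ n + 1`: choose `n + 1` elements of `D` giving distinct conjugates. -/
theorem exists_orbit [Finite X] {R : Subgroup X} {n : ℕ} {Y : Subgroup X} (c : Ctx R n Y)
    (D W W₀ : Subgroup X) (hDY : D ≤ Y) (hW2 : IsPGroup 2 W) (hW₀ : W₀ ≤ W)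
    (hidx : W₀.relIndex W = 2) (hDW : D ≤ Subgroup.normalizer (W : Set X))
    (hD : n + 1 ≤ (D ⊓ CE R).relIndex D) :
    ∃ f : Fin (n + 1) → X, (∀ i, f i ∈ D) ∧ ∀ i j, i ≠ j →
      W₀.map (MulAut.conj (f i)).toMonoidHom ≠ W₀.map (MulAut.conj (f j)).toMonoidHom := by
  -- the stabiliser lies in `CE R`
  have hstab : D ⊓ Subgroup.normalizer (W₀ : Set X) ≤ D ⊓ CE R := by
    rintro d ⟨hdD, hdN⟩
    refine ⟨hdD, ?_⟩
    by_contra hdC
    obtain ⟨m, p, a, hpp, hp2, hord, hnot⟩ := t97orbw_primepow c d hdC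
    have hdmD : d ^ m ∈ D := D.pow_mem hdD m
    have hdmN : d ^ m ∈ Subgroup.normalizer (W₀ : Set X) := Subgroup.pow_mem _ hdN m
    obtain ⟨w, hwW, hwW₀, hfix⟩ := t97orbw_fixed_point W W₀ hW2 hW₀ hidx (d ^ m) p a hpp hp2 hord
      (hDW hdmD) hdmN
    have hw2 : ∃ j : ℕ, orderOf w = 2 ^ j := by
      obtain ⟨j, hj⟩ := (IsPGroup.iff_orderOf.mp hW2) ⟨w, hwW⟩
      exact ⟨j, by rw [← hj, Subgroup.orderOf_mk]⟩
    have hw1 : w = 1 := fpf_two c (d ^ m) (hDY hdmD) hnot w hw2 hfix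
    apply hwW₀
    rw [hw1]; exact W₀.one_mem
  -- the index of the stabiliser
  set D₀ := D ⊓ Subgroup.normalizer (W₀ : Set X) with hD₀
  have hrel : n + 1 ≤ D₀.relIndex D := by
    have hdvd : (D ⊓ CE R).relIndex D ∣ D₀.relIndex D := Subgroup.relIndex_dvd_of_le_left D hstab
    have hne : D₀.relIndex D ≠ 0 := by
      unfold Subgroup.relIndex
      exact Subgroup.index_ne_zero_of_finite
    exact le_trans hD (Nat.le_of_dvd (Nat.pos_of_ne_zero hne) hdvd)
  -- choose coset representatives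
  set H := D₀.subgroupOf D with hH
  have hcardQ : n + 1 ≤ Nat.card (↥D ⧸ H) := hrel
  have hemb : Nonempty (Fin (n + 1) ↪ (↥D ⧸ H)) := by
    classical
    have := Fintype.ofFinite (↥D ⧸ H)
    apply Function.Embedding.nonempty_of_card_le
    rw [Fintype.card_fin, ← Nat.card_eq_fintype_card]
    exact hcardQ
  obtain ⟨e⟩ := hemb
  refine ⟨fun i => ((Quotient.out (e i) : ↥D) : X), fun i => (Quotient.out (e i) : ↥D).2, ?_⟩
  intro i j hij heq
  have hN := t97orbw_normalizer_of_eq W₀ _ _ heq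
  have hmem : (Quotient.out (e i) : ↥D)⁻¹ * (Quotient.out (e j) : ↥D) ∈ H := by
    refine Subgroup.mem_subgroupOf.mpr ⟨?_, ?_⟩
    · exact D.mul_mem (D.inv_mem (Quotient.out (e i) : ↥D).2) (Quotient.out (e j) : ↥D).2
    · simpa using hN
  have h1 : (QuotientGroup.mk (Quotient.out (e i)) : ↥D ⧸ H) = QuotientGroup.mk (Quotient.out (e j)) :=
    QuotientGroup.eq.mpr hmem
  rw [QuotientGroup.out_eq', QuotientGroup.out_eq'] at h1
  exact hij (e.injective h1)

end Cfsg.Agent.Helper18.T97
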