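import Mathlib
import Cfsg.Prelude.Def_Local
import Cfsg.Agent.Lib.Helper19.PLength
import Cfsg.Agent.Lib.Helper23.PSolvable
import Cfsg.Agent.Lib.Helper22.PPrimeCore
import Cfsg.Agent.Lib.T97.T97CEN

/-!
# S3797, outer block (helper22): reduction to `X = G ⧸ O(G)`.

The hypotheses of S3797 pass to the quotient by `O(G) = pPrimeCore 2 G`, and `PLengthLE 2 1`
lifts back.
-/

set_option autoImplicit false

namespace Cfsg.Agent.Helper22.T97

open Cfsg Subgroup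

/-- involutions of a quotient by a normal subgroup of odd order lift to involutions -/
theorem t97red_lift_invol {G : Type*} [Group G] [Finite G] (N : Subgroup G) [N.Normal]
    (hN : (Nat.card N).Coprime 2) (y : G ⧸ N) (hy1 : y ≠ 1) (hy2 : y ^ 2 = 1) :
    ∃ x : G, x ≠ 1 ∧ x ^ 2 = 1 ∧ QuotientGroup.mk' N x = y := by
  obtain ⟨g, rfl⟩ := QuotientGroup.mk'_surjective N y
  have hodd : Odd (Nat.card N) := by
    rcases Nat.even_or_odd (Nat.card N) with h | h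
    · exfalso
      have h2 : 2 ∣ Nat.card N := even_iff_two_dvd.mp h
      have := Nat.Coprime.eq_one_of_dvd hN.symm h2
      omega
    · exact h
  obtain ⟨k, hk⟩ := hodd
  have hg2 : g ^ 2 ∈ N := by
    have h : QuotientGroup.mk' N (g ^ 2) = 1 := by rw [map_pow]; exact hy2
    exact (QuotientGroup.eq_one_iff _).mp h
  have hmk : QuotientGroup.mk' N (g ^ Nat.card N) = QuotientGroup.mk' N g := by
    rw [map_pow, hk, pow_succ, pow_mul, hy2, one_pow, one_mul]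
  refine ⟨g ^ Nat.card N, ?_, ?_, hmk⟩
  · intro h
    rw [h, map_one] at hmk
    exact hy1 hmk.symm
  · rw [← pow_mul, mul_comm, pow_mul]
    have h : (⟨g ^ 2, hg2⟩ : N) ^ Nat.card N = 1 := pow_card_eq_one'
    have h' : ((⟨g ^ 2, hg2⟩ : N) ^ Nat.card N : N).1 = (1 : N).1 := by rw [h]
    rw [Subgroup.coe_pow] at h'
    exact h'

/-- the conjugacy hypothesis passes to the quotient by a normal subgroup of odd order -/
theorem t97red_hconj {G : Type*} [Group G] [Finite G] (N : Subgroup G) [N.Normal]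
    (hN : (Nat.card N).Coprime 2)
    (hconj : ∀ x y : G, x ≠ 1 → x ^ 2 = 1 → y ≠ 1 → y ^ 2 = 1 → IsConj x y) :
    ∀ x y : G ⧸ N, x ≠ 1 → x ^ 2 = 1 → y ≠ 1 → y ^ 2 = 1 → IsConj x y := by
  intro x y hx1 hx2 hy1 hy2
  obtain ⟨a, ha1, ha2, rfl⟩ := t97red_lift_invol N hN x hx1 hx2
  obtain ⟨b, hb1, hb2, rfl⟩ := t97red_lift_invol N hN y hy1 hy2
  exact MonoidHom.map_isConj (QuotientGroup.mk' N) (hconj a b ha1 ha2 hb1 hb2)

/-- two distinct commuting involutions in the quotient -/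
theorem t97red_two_invol {G : Type*} [Group G] [Finite G] (N : Subgroup G) [N.Normal]
    (hN : (Nat.card N).Coprime 2) (S : Sylow 2 G)
    (htwo : ∃ x y : G, x ∈ (S : Subgroup G) ∧ y ∈ (S : Subgroup G) ∧ x ≠ y ∧ x ≠ 1 ∧ x ^ 2 = 1 ∧
      y ≠ 1 ∧ y ^ 2 = 1) :
    ∃ x y : G ⧸ N, x ≠ y ∧ x ≠ 1 ∧ x ^ 2 = 1 ∧ y ≠ 1 ∧ y ^ 2 = 1 ∧ x * y = y * x ∧
      x ∈ (S : Subgroup G).map (QuotientGroup.mk' N) ∧
      y ∈ (S : Subgroup G).map (QuotientGroup.mk' N) := by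
  have : Fact (Nat.Prime 2) := ⟨Nat.prime_two⟩
  obtain ⟨x, y, hxS, hyS, hxy, hx1, hx2, hy1, hy2⟩ := htwo
  -- S ∩ N = 1
  have hSN : ∀ c ∈ (S : Subgroup G), c ∈ N → c = 1 := by
    intro c hcS hcN
    obtain ⟨j, hj⟩ := S.2 ⟨c, hcS⟩
    have hj' : c ^ (2 ^ j) = 1 := by
      have := congrArg (fun w : (S : Subgroup G) => (w : G)) hj
      simpa using this
    have ho1 : orderOf c ∣ 2 ^ j := orderOf_dvd_of_pow_eq_one hj'
    have ho2 : orderOf c ∣ Nat.card N := by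
      have := orderOf_dvd_natCard (⟨c, hcN⟩ : N)
      rwa [← Subgroup.orderOf_coe] at this
    have hcop : (2 ^ j).Coprime (Nat.card N) := (Nat.Coprime.pow_right j hN).symm
    exact orderOf_eq_one_iff.mp (Nat.eq_one_of_dvd_coprimes hcop ho1 ho2)
  have hinj : ∀ a ∈ (S : Subgroup G), ∀ b ∈ (S : Subgroup G),
      QuotientGroup.mk' N a = QuotientGroup.mk' N b → a = b := by
    intro a ha b hb hab
    have h1 : QuotientGroup.mk' N (a * b⁻¹) = 1 := by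
      rw [map_mul, map_inv, hab, mul_inv_cancel]
    have h2 : a * b⁻¹ ∈ N := (QuotientGroup.eq_one_iff _).mp h1
    have h3 := hSN _ ((S : Subgroup G).mul_mem ha ((S : Subgroup G).inv_mem hb)) h2
    exact mul_inv_eq_one.mp h3
  have hSne : (S : Subgroup G) ≠ ⊥ := by
    intro h
    rw [h, Subgroup.mem_bot] at hxS
    exact hx1 hxS
  obtain ⟨z, hzS, hz1, hz2, hzc⟩ := t97cen_central_invol (S : Subgroup G) S.2 hSne
  -- the pair
  have key : ∀ w ∈ (S : Subgroup G), w ≠ z → w ≠ 1 → w ^ 2 = 1 →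
      ∃ x y : G ⧸ N, x ≠ y ∧ x ≠ 1 ∧ x ^ 2 = 1 ∧ y ≠ 1 ∧ y ^ 2 = 1 ∧ x * y = y * x ∧
      x ∈ (S : Subgroup G).map (QuotientGroup.mk' N) ∧
      y ∈ (S : Subgroup G).map (QuotientGroup.mk' N) := by
    intro w hwS hwz hw1 hw2
    refine ⟨QuotientGroup.mk' N w, QuotientGroup.mk' N z, ?_, ?_, ?_, ?_, ?_, ?_,
      ⟨w, hwS, rfl⟩, ⟨z, hzS, rfl⟩⟩
    · intro h; exact hwz (hinj w hwS z hzS h)
    · intro h
      exact hw1 (hinj w hwS 1 (Subgroup.one_mem _) (by rw [h, map_one]))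
    · rw [← map_pow, hw2, map_one]
    · intro h
      exact hz1 (hinj z hzS 1 (Subgroup.one_mem _) (by rw [h, map_one]))
    · rw [← map_pow, hz2, map_one]
    · rw [← map_mul, ← map_mul, hzc w hwS]
  by_cases hxz : x = z
  · exact key y hyS (fun h => hxy (by rw [hxz, h])) hy1 hy2
  · exact key x hxS hxz hx1 hx2

/-- every Sylow `2`-subgroup of the quotient contains two distinct commuting involutions -/
theorem t97red_two_invol_sylow {G : Type*} [Group G] [Finite G] (N : Subgroup G) [N.Normal]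
    (hN : (Nat.card N).Coprime 2) (S : Sylow 2 G)
    (htwo : ∃ x y : G, x ∈ (S : Subgroup G) ∧ y ∈ (S : Subgroup G) ∧ x ≠ y ∧ x ≠ 1 ∧ x ^ 2 = 1 ∧
      y ≠ 1 ∧ y ^ 2 = 1) (T : Sylow 2 (G ⧸ N)) :
    ∃ x y : G ⧸ N, x ∈ (T : Subgroup (G ⧸ N)) ∧ y ∈ (T : Subgroup (G ⧸ N)) ∧ x ≠ y ∧ x ≠ 1 ∧
      x ^ 2 = 1 ∧ y ≠ 1 ∧ y ^ 2 = 1 ∧ x * y = y * x := by
  have : Fact (Nat.Prime 2) := ⟨Nat.prime_two⟩
  obtain ⟨x, y, hxy, hx1, hx2, hy1, hy2, hc, hxS, hyS⟩ := t97red_two_invol N hN S htwo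
  have hP : IsPGroup 2 ((S : Subgroup G).map (QuotientGroup.mk' N)) := S.2.map _
  obtain ⟨T', hT'⟩ := hP.exists_le_sylow
  obtain ⟨g, hg⟩ := MulAction.exists_smul_eq (G ⧸ N) T' T
  have hmem : ∀ w ∈ (T' : Subgroup (G ⧸ N)), g * w * g⁻¹ ∈ (T : Subgroup (G ⧸ N)) := by
    intro w hw
    rw [← hg, Sylow.coe_subgroup_smul]
    exact ⟨w, hw, by simp [MulAut.smul_def]⟩
  refine ⟨g * x * g⁻¹, g * y * g⁻¹, hmem x (hT' hxS), hmem y (hT' hyS), ?_, ?_, ?_, ?_, ?_, ?_⟩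
  · intro h
    apply hxy
    have := congrArg (fun w => g⁻¹ * w * g) h
    simpa [mul_assoc] using this
  · intro h
    apply hx1
    have := congrArg (fun w => g⁻¹ * w * g) h
    simpa [mul_assoc] using this
  · rw [conj_pow, hx2]; group
  · intro h
    apply hy1
    have := congrArg (fun w => g⁻¹ * w * g) h
    simpa [mul_assoc] using this
  · rw [conj_pow, hy2]; group
  · have e1 : g * x * g⁻¹ * (g * y * g⁻¹) = g * (x * y) * g⁻¹ := by group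
    have e2 : g * y * g⁻¹ * (g * x * g⁻¹) = g * (y * x) * g⁻¹ := by group
    rw [e1, e2, hc]

/-- the reduction: all hypotheses of S3797 pass to `X = G ⧸ O(G)`, `O(X) = 1`, and 2-length one
lifts back. -/
theorem t97_reduce {G : Type*} [Group G] [Finite G] (hG : Group.IsSolvable G) (S : Sylow 2 G)
    (htwo : ∃ x y : G, x ∈ (S : Subgroup G) ∧ y ∈ (S : Subgroup G) ∧ x ≠ y ∧ x ≠ 1 ∧ x ^ 2 = 1 ∧
      y ≠ 1 ∧ y ^ 2 = 1)
    (hconj : ∀ x y : G, x ≠ 1 → x ^ 2 = 1 → y ≠ 1 → y ^ 2 = 1 → IsConj x y) :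
    haveI : (pPrimeCore 2 G).Normal := Cfsg.Agent.Helper22.pPrimeCore_normal 2
    Group.IsSolvable (G ⧸ pPrimeCore 2 G) ∧
    pPrimeCore 2 (G ⧸ pPrimeCore 2 G) = ⊥ ∧
    (∀ x y : G ⧸ pPrimeCore 2 G, x ≠ 1 → x ^ 2 = 1 → y ≠ 1 → y ^ 2 = 1 → IsConj x y) ∧
    (∀ T : Sylow 2 (G ⧸ pPrimeCore 2 G), ∃ x y : G ⧸ pPrimeCore 2 G,
      x ∈ (T : Subgroup (G ⧸ pPrimeCore 2 G)) ∧ y ∈ (T : Subgroup (G ⧸ pPrimeCore 2 G)) ∧
      x ≠ y ∧ x ≠ 1 ∧ x ^ 2 = 1 ∧ y ≠ 1 ∧ y ^ 2 = 1 ∧ x * y = y * x) ∧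
    (PLengthLE 2 1 (G ⧸ pPrimeCore 2 G) → PLengthLE 2 1 G) := by
  have : Fact (Nat.Prime 2) := ⟨Nat.prime_two⟩
  have hKn : (pPrimeCore 2 G).Normal := Cfsg.Agent.Helper22.pPrimeCore_normal 2
  have hN : (Nat.card (pPrimeCore 2 G)).Coprime 2 := Cfsg.Agent.Helper22.card_pPrimeCore_coprime 2
  refine ⟨inferInstance, Cfsg.Agent.Helper23.PSolv.pPrimeCore_quotient_pPrimeCore 2,
    t97red_hconj _ hN hconj, fun T => t97red_two_invol_sylow _ hN S htwo T, ?_⟩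
  intro h1
  have h0 : PLengthLE 2 0 (pPrimeCore 2 G) :=
    Cfsg.Agent.Helper19.PLen.plengthLE_zero_of_coprime hN
  have h2 : PLengthLE 2 (0 + 1) G :=
    Cfsg.Agent.Helper19.PLen.plengthLE_add (pPrimeCore 2 G) h0 h1
  simpa using h2

end Cfsg.Agent.Helper22.T97
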