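import Mathlib
import Cfsg.Agent.Lib.T97.T97Defs
import Cfsg.Agent.Lib.T97.T97LIFT
import Cfsg.Agent.Lib.T97.T97RED
import Cfsg.Agent.Lib.Helper10.Cores
import Cfsg.Agent.Lib.Helper16.Solvable2
import Cfsg.Agent.Lib.Helper23.PSolvable
import Cfsg.Agent.Lib.Helper22.PPrimeCore

/-! S3797 piece T97-OUT1 (helper18 design; see plans/S3797_plan.md).  STUB: overwrite this file, keeping the
statement, the namespace and the imports (you may ADD imports of library files outside Lib/T97, or of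
T97 files that are listed as dependencies).  Aux lemmas: fresh names with prefix `t97out1_`. -/

set_option autoImplicit false

namespace Cfsg.Agent.Helper18.T97

variable {X : Type*} [Group X]

/-- The quotient `X = G ⧸ O(G)` (`O(G) = pPrimeCore 2 G`) with `R = pCore 2 X` satisfies `Setup`.  `sol`: quotient of solvable.  `Rn`, `R2`: `Cfsg.Agent.Helper10.pCore_normal`, `Cfsg.Agent.Helper10.pCore_isPGroup`
(Lib/Helper10/Cores.lean).  `Rmax`: a normal 2-subgroup lies in `pCore` (`le_sSup`).  `CR`: `Cfsg.Agent.Helper16.centralizer_pCore_le_of_isSolvable 2 _ hO` with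
`hO : pPrimeCore 2 X = ⊥` from `Cfsg.Agent.Helper23.PSolv.pPrimeCore_quotient_pPrimeCore` (see Cfsg/Agent/S3798.lean for the pattern).  `conj`: lift two involutions of `X` to involutions of `G`
(`exists_invol_lift`, `|O(G)|` odd: `Cfsg.Agent.Helper22.card_pPrimeCore_coprime`), they are conjugate in `G` (`hconj`), map the conjugating element down.  `two`: the images of `x ≠ y ∈ S` are distinct:
`x⁻¹ y ∈ S ⊓ O(G) = ⊥` (2-group vs odd order), and each image is an involution `≠ 1` (same argument for `x ∉ O(G)`). -/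
theorem setup_quot {G : Type*} [Group G] [Finite G] [hKn : (Cfsg.pPrimeCore 2 G).Normal]
    (hG : Group.IsSolvable G) (S : Sylow 2 G)
    (htwo : ∃ x y : G, x ∈ (S : Subgroup G) ∧ y ∈ (S : Subgroup G) ∧ x ≠ y ∧ x ≠ 1 ∧ x ^ 2 = 1 ∧
      y ≠ 1 ∧ y ^ 2 = 1)
    (hconj : ∀ x y : G, x ≠ 1 → x ^ 2 = 1 → y ≠ 1 → y ^ 2 = 1 → IsConj x y) :
    Setup (Cfsg.pCore 2 (G ⧸ Cfsg.pPrimeCore 2 G)) := by
  have : Fact (Nat.Prime 2) := ⟨Nat.prime_two⟩
  have hN : (Nat.card (Cfsg.pPrimeCore 2 G)).Coprime 2 :=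
    Cfsg.Agent.Helper22.card_pPrimeCore_coprime 2
  have hsol : Group.IsSolvable (G ⧸ Cfsg.pPrimeCore 2 G) := inferInstance
  have hO : Cfsg.pPrimeCore 2 (G ⧸ Cfsg.pPrimeCore 2 G) = ⊥ :=
    Cfsg.Agent.Helper23.PSolv.pPrimeCore_quotient_pPrimeCore 2
  refine ⟨hsol, Cfsg.Agent.Helper10.pCore_normal 2, Cfsg.Agent.Helper10.pCore_isPGroup 2, ?_,
    Cfsg.Agent.Helper16.centralizer_pCore_le_of_isSolvable 2 hsol hO,
    Cfsg.Agent.Helper22.T97.t97red_hconj _ hN hconj, ?_⟩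
  · intro Q hQn hQ2
    exact le_sSup ⟨hQn, hQ2⟩
  · obtain ⟨x, y, hxy, hx1, hx2, hy1, hy2, -, -, -⟩ :=
      Cfsg.Agent.Helper22.T97.t97red_two_invol (Cfsg.pPrimeCore 2 G) hN S htwo
    exact ⟨x, y, hxy, hx1, hx2, hy1, hy2⟩

end Cfsg.Agent.Helper18.T97
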