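import Mathlib
import Cfsg.Agent.Lib.T97.T97Defs
import Cfsg.Agent.Lib.Helper10.Cores
import Cfsg.Agent.Lib.Helper22.PPrimeCore

/-! S3797 piece T97-SYL1 (helper18 design; see plans/S3797_plan.md).  STUB: overwrite this file, keeping the
statement, the namespace and the imports (you may ADD imports of library files outside Lib/T97, or of
T97 files that are listed as dependencies).  Aux lemmas: fresh names with prefix `t97syl1_`. -/

set_option autoImplicit false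

namespace Cfsg.Agent.Helper18.T97

variable {X : Type*} [Group X]

/-- Involutions of `S` are central in `S`.  Let `π : G → X = G ⧸ O(G)`, `R = pCore 2 X` (normal 2-subgroup of odd index, so it contains every 2-element of `X`: the image of a 2-element in `X ⧸ R` has 2-power order
in a group of odd order).  For `s ∈ S` with `s^2 = 1`, `s ≠ 1`: `π s` is an involution or `1`; if `π s ≠ 1` then `π s ∈ omegaZ R` (`hE`) commutes with `π t ∈ R`; if `π s = 1` trivially so.  Hence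
`s t s⁻¹ t⁻¹ ∈ ker π ⊓ S = O(G) ⊓ S = ⊥` (`|O(G)|` odd by `Cfsg.Agent.Helper22.card_pPrimeCore_coprime 2`; `S` a 2-group). -/
theorem sylow_invol_central {G : Type*} [Group G] [Finite G] [hKn : (Cfsg.pPrimeCore 2 G).Normal]
    (S : Sylow 2 G)
    (hidx : ¬ 2 ∣ (Cfsg.pCore 2 (G ⧸ Cfsg.pPrimeCore 2 G)).index)
    (hE : ∀ x : G ⧸ Cfsg.pPrimeCore 2 G, x ≠ 1 → x ^ 2 = 1 →
      x ∈ omegaZ (Cfsg.pCore 2 (G ⧸ Cfsg.pPrimeCore 2 G))) :
    ∀ s ∈ (S : Subgroup G), s ^ 2 = 1 → ∀ t ∈ (S : Subgroup G), s * t = t * s := by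
  have : Fact (Nat.Prime 2) := ⟨Nat.prime_two⟩
  have hN : (Nat.card (Cfsg.pPrimeCore 2 G)).Coprime 2 :=
    Cfsg.Agent.Helper22.card_pPrimeCore_coprime 2
  have hRn : (Cfsg.pCore 2 (G ⧸ Cfsg.pPrimeCore 2 G)).Normal := Cfsg.Agent.Helper10.pCore_normal 2
  -- S ∩ O(G) = 1
  have hSN : ∀ c ∈ (S : Subgroup G), c ∈ Cfsg.pPrimeCore 2 G → c = 1 := by
    intro c hcS hcN
    obtain ⟨j, hj⟩ := S.2 ⟨c, hcS⟩
    have hj' : c ^ (2 ^ j) = 1 := by
      have := congrArg (fun w : (S : Subgroup G) => (w : G)) hj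
      simpa using this
    have ho1 : orderOf c ∣ 2 ^ j := orderOf_dvd_of_pow_eq_one hj'
    have ho2 : orderOf c ∣ Nat.card (Cfsg.pPrimeCore 2 G) := by
      have := orderOf_dvd_natCard (⟨c, hcN⟩ : Cfsg.pPrimeCore 2 G)
      rwa [← Subgroup.orderOf_coe] at this
    have hcop : (2 ^ j).Coprime (Nat.card (Cfsg.pPrimeCore 2 G)) :=
      (Nat.Coprime.pow_right j hN).symm
    exact orderOf_eq_one_iff.mp (Nat.eq_one_of_dvd_coprimes hcop ho1 ho2)
  -- images of elements of S lie in R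
  have hSR : ∀ t ∈ (S : Subgroup G),
      QuotientGroup.mk' (Cfsg.pPrimeCore 2 G) t ∈ Cfsg.pCore 2 (G ⧸ Cfsg.pPrimeCore 2 G) := by
    intro t ht
    obtain ⟨j, hj⟩ := S.2 ⟨t, ht⟩
    have hj' : t ^ (2 ^ j) = 1 := by
      have := congrArg (fun w : (S : Subgroup G) => (w : G)) hj
      simpa using this
    obtain ⟨u, hu⟩ : ∃ u, u = QuotientGroup.mk' (Cfsg.pCore 2 (G ⧸ Cfsg.pPrimeCore 2 G))
        (QuotientGroup.mk' (Cfsg.pPrimeCore 2 G) t) := ⟨_, rfl⟩
    have ho1 : orderOf u ∣ 2 ^ j := by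
      apply orderOf_dvd_of_pow_eq_one
      rw [hu, ← map_pow, ← map_pow, hj', map_one, map_one]
    have ho2 : orderOf u ∣ (Cfsg.pCore 2 (G ⧸ Cfsg.pPrimeCore 2 G)).index := by
      rw [Subgroup.index_eq_card]
      exact orderOf_dvd_natCard _
    have hcop : (2 ^ j).Coprime (Cfsg.pCore 2 (G ⧸ Cfsg.pPrimeCore 2 G)).index := by
      apply Nat.Coprime.pow_left
      rw [Nat.Prime.coprime_iff_not_dvd Nat.prime_two]
      exact hidx
    have h1 : u = 1 := orderOf_eq_one_iff.mp (Nat.eq_one_of_dvd_coprimes hcop ho1 ho2)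
    rw [hu] at h1
    exact (QuotientGroup.eq_one_iff _).mp h1
  intro s hs hs2 t ht
  -- the images commute
  have hcomm : QuotientGroup.mk' (Cfsg.pPrimeCore 2 G) s * QuotientGroup.mk' (Cfsg.pPrimeCore 2 G) t
      = QuotientGroup.mk' (Cfsg.pPrimeCore 2 G) t * QuotientGroup.mk' (Cfsg.pPrimeCore 2 G) s := by
    by_cases h1 : QuotientGroup.mk' (Cfsg.pPrimeCore 2 G) s = 1
    · rw [h1, one_mul, mul_one]
    · have h2 : (QuotientGroup.mk' (Cfsg.pPrimeCore 2 G) s) ^ 2 = 1 := by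
        rw [← map_pow, hs2, map_one]
      have hmem := hE _ h1 h2
      rw [mem_omegaZ] at hmem
      exact (Subgroup.mem_centralizer_iff.mp hmem.2.1 _ (hSR t ht)).symm
  have hker : s * t * s⁻¹ * t⁻¹ ∈ Cfsg.pPrimeCore 2 G := by
    rw [← QuotientGroup.eq_one_iff (N := Cfsg.pPrimeCore 2 G)]
    have e : ((s * t * s⁻¹ * t⁻¹ : G) : G ⧸ Cfsg.pPrimeCore 2 G) =
        QuotientGroup.mk' (Cfsg.pPrimeCore 2 G) s * QuotientGroup.mk' (Cfsg.pPrimeCore 2 G) t *
        (QuotientGroup.mk' (Cfsg.pPrimeCore 2 G) s)⁻¹ *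
        (QuotientGroup.mk' (Cfsg.pPrimeCore 2 G) t)⁻¹ := by simp
    rw [e, hcomm]
    group
  have hS' : s * t * s⁻¹ * t⁻¹ ∈ (S : Subgroup G) :=
    (S : Subgroup G).mul_mem ((S : Subgroup G).mul_mem ((S : Subgroup G).mul_mem hs ht)
      ((S : Subgroup G).inv_mem hs)) ((S : Subgroup G).inv_mem ht)
  have h1 := hSN _ hS' hker
  have := congrArg (fun w => w * t * s) h1
  simpa [mul_assoc] using this

end Cfsg.Agent.Helper18.T97
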