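import Mathlib
import Cfsg.Agent.Lib.T97.T97Defs

/-! S3797 piece T97-SYL2 (helper18 design; see plans/S3797_plan.md).  STUB: overwrite this file, keeping the
statement, the namespace and the imports (you may ADD imports of library files outside Lib/T97, or of
T97 files that are listed as dependencies).  Aux lemmas: fresh names with prefix `t97syl2_`. -/

set_option autoImplicit false

namespace Cfsg.Agent.Helper18.T97

variable {X : Type*} [Group X]

/-- Burnside: `N_G(S)` controls fusion in `Z(S)`.  `x, y ∈ S` involutions are central in `S` (`hcen`), i.e. in `Subgroup.centralizer (S : Set G)`; `IsConj x y` gives `g` with `g⁻¹ * x * g = y` (adjust inverses);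
Mathlib `Sylow.conj_eq_normalizer_conj_of_mem_centralizer S x g hx hy` gives `n ∈ N_G(S)` with `g⁻¹ * x * g = n⁻¹ * x * n`; answer `n⁻¹`. -/
theorem sylow_normalizer_trans {G : Type*} [Group G] [Finite G] (S : Sylow 2 G)
    (hcen : ∀ s ∈ (S : Subgroup G), s ^ 2 = 1 → ∀ t ∈ (S : Subgroup G), s * t = t * s)
    (hconj : ∀ x y : G, x ≠ 1 → x ^ 2 = 1 → y ≠ 1 → y ^ 2 = 1 → IsConj x y) :
    ∀ x ∈ (S : Subgroup G), ∀ y ∈ (S : Subgroup G), x ≠ 1 → x ^ 2 = 1 → y ≠ 1 → y ^ 2 = 1 →
      ∃ g ∈ Subgroup.normalizer ((S : Subgroup G) : Set G), g * x * g⁻¹ = y := by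
  intro x hx y hy hx1 hx2 hy1 hy2
  obtain ⟨g, hg⟩ := isConj_iff.mp (hconj x y hx1 hx2 hy1 hy2)
  have hxc : x ∈ Subgroup.centralizer ((S : Subgroup G) : Set G) := by
    rw [Subgroup.mem_centralizer_iff]
    intro t ht
    exact (hcen x hx hx2 t ht).symm
  have hyc : y ∈ Subgroup.centralizer ((S : Subgroup G) : Set G) := by
    rw [Subgroup.mem_centralizer_iff]
    intro t ht
    exact (hcen y hy hy2 t ht).symm
  obtain ⟨n, hn, hnx⟩ := S.conj_eq_normalizer_conj_of_mem_centralizer x g⁻¹ hxc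
    (by rw [inv_inv, hg]; exact hyc)
  rw [inv_inv, hg] at hnx
  refine ⟨n⁻¹, inv_mem hn, ?_⟩
  rw [inv_inv, hnx]

end Cfsg.Agent.Helper18.T97
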