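import Mathlib
import Cfsg.Agent.Lib.T97.T97Defs

/-! S3797 piece T97-SYL3 (helper18 design; see plans/S3797_plan.md).  STUB: overwrite this file, keeping the
statement, the namespace and the imports (you may ADD imports of library files outside Lib/T97, or of
T97 files that are listed as dependencies).  Aux lemmas: fresh names with prefix `t97syl3_`. -/

set_option autoImplicit false

namespace Cfsg.Agent.Helper18.T97

variable {X : Type*} [Group X]

/-- `Yv :=` the range of the conjugation homomorphism `↥(N_G(S)) →* MulAut ↥S` (`g ↦ (s ↦ g s g⁻¹)`; e.g. `MulAut.conjNormal` for `S.subgroupOf N` normal in `N`, transported, or build by hand).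
Solvable: a quotient of the subgroup `N_G(S)` of the solvable `G` (`solvable_of_surjective`, `Subgroup.isSolvable`...).  Transitivity from `htr`. -/
theorem exists_aut_subgroup {G : Type*} [Group G] [Finite G] (hG : Group.IsSolvable G) (S : Sylow 2 G)
    (htr : ∀ x ∈ (S : Subgroup G), ∀ y ∈ (S : Subgroup G), x ≠ 1 → x ^ 2 = 1 → y ≠ 1 → y ^ 2 = 1 →
      ∃ g ∈ Subgroup.normalizer ((S : Subgroup G) : Set G), g * x * g⁻¹ = y) :
    ∃ Yv : Subgroup (MulAut ↥(S : Subgroup G)), Group.IsSolvable Yv ∧
      ∀ x y : ↥(S : Subgroup G), x ≠ 1 → x ^ 2 = 1 → y ≠ 1 → y ^ 2 = 1 → ∃ a ∈ Yv, a x = y := by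
  refine ⟨((S : Subgroup G).normalizerMonoidHom).range, ?_, ?_⟩
  · exact Group.isSolvable_of_surjective (f := (S : Subgroup G).normalizerMonoidHom.rangeRestrict)
      (MonoidHom.rangeRestrict_surjective _)
  · intro x y hx1 hx2 hy1 hy2
    have hx1' : (x : G) ≠ 1 := fun h => hx1 (Subtype.ext h)
    have hy1' : (y : G) ≠ 1 := fun h => hy1 (Subtype.ext h)
    have hx2' : (x : G) ^ 2 = 1 := by
      have := congrArg Subtype.val hx2
      simpa using this
    have hy2' : (y : G) ^ 2 = 1 := by
      have := congrArg Subtype.val hy2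
      simpa using this
    obtain ⟨g, hg, hgx⟩ := htr x x.2 y y.2 hx1' hx2' hy1' hy2'
    refine ⟨(S : Subgroup G).normalizerMonoidHom ⟨g, hg⟩, ⟨_, rfl⟩, ?_⟩
    apply Subtype.ext
    rw [← hgx]
    rfl

end Cfsg.Agent.Helper18.T97
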